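/-
Groups in which centralizers of involutions are 2-groups: the amalgam of two modules.
-/
import Cfsg.Agent.H2.CIT3

set_option autoImplicit false
set_option linter.unusedSectionVars false

namespace Cfsg.Agent.H2.CI

open Subgroup Cfsg.Agent.L0 Cfsg.Agent.H8 Cfsg.Agent.H8.SF Cfsg.Agent.H8.Dich Cfsg.Agent.H2.SC
open scoped commutatorElement

universe u

variable {G : Type u} [Group G] [Finite G]

theorem C_symm {X Y : Subgroup G} (h : X ≤ C Y) : Y ≤ C X := le_centralizer_iff.1 h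

theorem ncard_sharp (V : Subgroup G) : ((V : Set G) \ {1}).ncard = Nat.card V - 1 := by
  rw [Set.ncard_diff_singleton_of_mem V.one_mem]; rfl

theorem no_big (hC : CIT G) {m : ℕ} {X X' T U T' U' : Subgroup G} (h : Off m X T U)
    (h' : Off m X T' U') (hne : U ≠ U') (hX' : IsPGroup 2 X') (hc : Nat.card X' = m * m)
    (hi : X ⊓ X' = U') (hXX : X' ≤ C X) (hT : T ≤ N (X ⊔ X')) (hT' : T' ≤ N (X ⊔ X')) : False := by
  have hm := h.two
  have c1 := card_sup_mul_card_inf (H := X') (N := X) (hXX.trans (C_le_N X))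
  rw [hi, h'.cardU, h.cardV, hc] at c1
  have c2 : Nat.card ↥(X ⊔ X') = m * m * m :=
    Nat.eq_of_mul_eq_mul_right (by omega : 0 < m) (by rw [c1]; ring)
  obtain ⟨u, hu, h1⟩ := h.exists_u
  have c3 := card_orbit (N (X ⊔ X') ⊓ N X) u
  have e : {w | ∃ g ∈ N (X ⊔ X') ⊓ N X, g * u * g⁻¹ = w} = (X : Set G) \ {1} := by
    ext w
    constructor
    · rintro ⟨g, hg, rfl⟩
      exact ⟨cjm hg.2 (h.UV hu), conj_ne_one h1⟩
    · rintro ⟨hw, hw1⟩
      exact h.trans_of hC h' hne (le_inf hT h.AN) (le_inf hT' h'.AN) (h.UV hu) h1 hw hw1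
  rw [e, ncard_sharp, h.cardV] at c3
  obtain ⟨p, hp, hd⟩ := Nat.exists_prime_and_dvd (show m + 1 ≠ 1 by omega)
  haveI : Fact p.Prime := ⟨hp⟩
  have e1 : m * m - 1 = (m + 1) * (m - 1) := by
    obtain ⟨k, rfl⟩ : ∃ k, m = k + 1 := ⟨m - 1, by omega⟩
    simp only [Nat.add_sub_cancel]
    exact Nat.sub_eq_of_eq_add (by ring)
  obtain ⟨x, hx⟩ := exists_prime_orderOf_dvd_card' (G := ↥(N (X ⊔ X') ⊓ N X)) p (by
    rw [c3, e1]; exact (hd.mul_right _).mul_left _)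
  rw [← orderOf_coe] at hx
  have hp2 : p ≠ 2 := by
    rintro rfl
    have := (Nat.dvd_add_right h.two_dvd).1 hd
    omega
  have h2 := hC.dvd (hx ▸ hp) (hx ▸ hp2) (pgroup_sup hX' (ea_pgroup h.ea) (hXX.trans (C_le_N X)))
    x.2.1
  rw [hx, c2] at h2
  have e2 : (m + 1) * (m * m - m + 1) = (m * m * m - 1) + 2 := by
    obtain ⟨k, rfl⟩ : ∃ k, m = k + 1 := ⟨m - 1, by omega⟩
    have e3 : (k + 1) * (k + 1) - (k + 1) = (k + 1) * k := Nat.sub_eq_of_eq_add (by ring)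
    have e4 : (k + 1) * (k + 1) * (k + 1) - 1 = k * k * k + 3 * k * k + 3 * k :=
      Nat.sub_eq_of_eq_add (by ring)
    rw [e3, e4]; ring
  have h3 : p ∣ (m * m * m - 1) + 2 := e2 ▸ hd.mul_right _
  exact hp2 ((Nat.prime_dvd_prime_iff_eq hp Nat.prime_two).1 ((Nat.dvd_add_right h2).1 h3))

/-- the edges of the coset graph -/
def Edge (V1 V2 X Y : Subgroup G) : Prop :=
  ∃ g, (X = cj g V1 ∧ Y = cj g V2) ∨ (X = cj g V2 ∧ Y = cj g V1)

theorem Edge.symm {V1 V2 X Y : Subgroup G} (h : Edge V1 V2 X Y) : Edge V1 V2 Y X := by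
  obtain ⟨g, h | h⟩ := h
  · exact ⟨g, Or.inr h.symm⟩
  · exact ⟨g, Or.inl h.symm⟩

theorem Edge.conj {V1 V2 X Y : Subgroup G} (h : Edge V1 V2 X Y) (k : G) :
    Edge V1 V2 (cj k X) (cj k Y) := by
  obtain ⟨g, ⟨rfl, rfl⟩ | ⟨rfl, rfl⟩⟩ := h
  · exact ⟨k * g, Or.inl ⟨(cj_mul _ _ _).symm, (cj_mul _ _ _).symm⟩⟩
  · exact ⟨k * g, Or.inr ⟨(cj_mul _ _ _).symm, (cj_mul _ _ _).symm⟩⟩

theorem path_comm (hC : CIT G) {m : ℕ} {E : Subgroup G → Subgroup G → Prop}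
    (hs : ∀ X Y, E X Y → E Y X) (hc : ∀ X Y k, E X Y → E (cj k X) (cj k Y))
    (hd : ∀ X Y, E X Y → ∃ T U, FF m X T U ∧ FF m Y T U ∧ X ⊓ Y = U ∧ X ≤ C Y) (b : ℕ) :
    ∀ p : ℕ → Subgroup G, (∀ i ≤ b, E (p i) (p (i + 1))) → p 0 ≤ C (p (b + 1)) := by
  induction b with
  | zero => intro p hp; obtain ⟨_, _, -, -, -, h⟩ := hd _ _ (hp 0 le_rfl); exact h
  | succ n ih =>
  intro p hp
  by_contra hn
  obtain ⟨T0, U0, a0, b0, c0, -⟩ := hd _ _ (hp 0 (by omega))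
  obtain ⟨T1, U1, a1, b1, c1, d1⟩ := hd _ _ (hp (n + 1) le_rfl)
  obtain ⟨T2, U2, a2, b2, c2, -⟩ := hd _ _ (hp n (by omega))
  have i1 : p 0 ≤ C (p (n + 1)) := ih p fun i hi => hp i (by omega)
  have i2 : p (0 + 1) ≤ C (p (n + 1 + 1)) := ih (fun i => p (i + 1)) fun i hi => hp (i + 1) (by omega)
  have hYT : p (n + 1 + 1) ≤ T0 := (C_symm i2).trans (b0.C_le hC)
  obtain ⟨e1, e2⟩ := crit a0.toOff b1.toOff hYT (i1.trans (a1.C_le hC)) hn
  obtain ⟨h, hh, hne⟩ := a0.mov hC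
  have a0' := a0.conjN hh
  have b0' := b0.conj h
  have hE : E (cj h (p (0 + 1))) (p 0) := by
    have := hc _ _ h (hs _ _ (hp 0 (by omega)))
    rwa [cj_eq_self hh] at this
  have i3 : cj h (p (0 + 1)) ≤ C (p n) := by
    have := ih (fun i => Nat.casesOn i (cj h (p (0 + 1))) p) fun i hi => by
      cases i with
      | zero => exact hE
      | succ j => exact hp j (by omega)
    exact this
  obtain ⟨y, hy, hy1⟩ := SetLike.not_le_iff_exists.1 fun e => hn (C_symm e)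
  have i4 : cj h (p (0 + 1)) ≤ C (p (n + 1)) := by
    by_contra h4
    have e3 := (crit b0'.toOff b2.toOff ((C_symm i1).trans (a0'.C_le hC))
      (i3.trans (a2.C_le hC)) h4).1
    obtain ⟨u, hu, hu1⟩ := a0'.exists_u
    refine hy1 (a0.fix y (hYT hy) u (a0'.UV hu) (fun e => hne (a0'.ti hC a0.toOff hu e hu1)) ?_)
    exact (mem_C.1 (d1 (b2.UV (e3 ▸ hu))) y hy).symm
  obtain ⟨T3, U3, -, -, -, d3⟩ := hd _ _ hE
  have hT' : cj h T0 ≤ N (p 0 ⊔ cj h (p (0 + 1))) := fun g hg => by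
    refine mem_normalizer_of_cj_le ?_
    rw [cj_sup, cj_eq_self (a0'.AN hg), cj_eq_self (b0'.AN hg)]
  refine no_big hC a0.toOff a0'.toOff hne.symm (ea_pgroup b0'.ea) b0'.cardV ?_ d3 (fun t ht => ?_) hT'
  · rw [← c0, cj_inf, cj_eq_self hh]
  · obtain ⟨z, hz, h5⟩ := e2 t ht
    have h6 : z ∈ N (p 0 ⊔ cj h (p (0 + 1))) := by
      refine mem_normalizer_of_cj_le ?_
      rw [cj_sup, cj_eq_self (a0.AN (hYT hz))]
      refine sup_le le_sup_left fun x hx => ?_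
      obtain ⟨x, hx', rfl⟩ := mem_cj' hx
      have h7 := a0.UV (e1 ▸ b1.comm x⁻¹ (inv_mem (a1.C_le hC (i4 hx'))) z hz)
      have h8 := mul_mem (mem_sup_right hx' : x ∈ p 0 ⊔ cj h (p (0 + 1))) (mem_sup_left h7)
      rw [inv_eq (b1.ea z hz)]
      convert h8 using 1; group
    simpa using mul_mem h6 (hT' (a0'.C_le hC h5))

theorem exists_path {E : Subgroup G → Subgroup G → Prop} {X Y : Subgroup G}
    (h : Relation.TransGen E X Y) :
    ∃ (b : ℕ) (p : ℕ → Subgroup G), (∀ i ≤ b, E (p i) (p (i + 1))) ∧ p 0 = X ∧ p (b + 1) = Y := by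
  induction h using Relation.TransGen.head_induction_on with
  | single h =>
    exact ⟨0, fun i => Nat.casesOn i _ fun _ => Y, fun i hi => by
      obtain rfl : i = 0 := by omega
      exact h, rfl, rfl⟩
  | head h _ ih =>
    obtain ⟨b, p, h1, rfl, rfl⟩ := ih
    exact ⟨b + 1, fun i => Nat.casesOn i _ p, fun i hi => by
      cases i with
      | zero => exact h
      | succ j => exact h1 j (by omega), rfl, rfl⟩

theorem amalgam (hC : CIT G) {m : ℕ} {V1 V2 T U : Subgroup G} (h1 : FF m V1 T U)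
    (h2 : FF m V2 T U) (hZ : omZ T ≤ U)
    (h0 : ∀ D : Subgroup G, IsPGroup 2 D → N V1 ≤ N D → N V2 ≤ N D → D = ⊥) :
    C V1 = V1 ∧ C V2 = V2 ∧ V1 ⊓ V2 = U ∧ (∀ t ∈ T, ∃ x ∈ V1, ∃ y ∈ V2, x * y = t) := by
  have hi : V1 ⊓ V2 = U := by
    refine le_antisymm (fun v hv => ?_) (le_inf h1.UV h2.UV)
    by_contra hn
    have e : C V1 = C V2 := le_antisymm
      (fun g hg => h2.fix g (h1.C_le hC hg) v hv.2 hn (mem_C.1 hg v hv.1))
      fun g hg => h1.fix g (h2.C_le hC hg) v hv.1 hn (mem_C.1 hg v hv.2)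
    have := h0 _ (h1.Q_pgroup hC) (N_le_NC V1) (e ▸ N_le_NC V2)
    exact h1.red.ne (eq_bot_iff.2 (this ▸ ea_le_C h1.ea))
  have hn : ¬ V1 ≤ C V2 := fun hcm => by
    have hd : ∀ X Y, Edge V1 V2 X Y →
        ∃ T U, FF m X T U ∧ FF m Y T U ∧ X ⊓ Y = U ∧ X ≤ C Y := by
      rintro X Y ⟨g, ⟨rfl, rfl⟩ | ⟨rfl, rfl⟩⟩
      · exact ⟨_, _, h1.conj g, h2.conj g, by rw [← cj_inf, hi],
          by rw [← cj_C]; exact cj_mono g hcm⟩
      · exact ⟨_, _, h2.conj g, h1.conj g, by rw [← cj_inf, inf_comm, hi],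
          by rw [← cj_C]; exact cj_mono g (C_symm hcm)⟩
    have hp : ∀ X Y, Relation.TransGen (Edge V1 V2) X Y → X ≤ C Y := fun X Y h => by
      obtain ⟨b, p, h3, rfl, rfl⟩ := exists_path h
      exact path_comm hC (fun _ _ => Edge.symm) (fun _ _ k h => h.conj k) hd b p h3
    have hsy : ∀ X Y, Relation.TransGen (Edge V1 V2) X Y → Relation.TransGen (Edge V1 V2) Y X :=
      fun X Y h => by
        induction h with
        | single h => exact .single h.symm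
        | tail _ h ih => exact .head h.symm ih
    have hcj : ∀ X Y k, Relation.TransGen (Edge V1 V2) X Y →
        Relation.TransGen (Edge V1 V2) (cj k X) (cj k Y) := fun X Y k h =>
      h.lift (cj k) fun _ _ h => h.conj k
    have e12 : Relation.TransGen (Edge V1 V2) V1 V2 :=
      .single ⟨1, Or.inl ⟨(cj_one _).symm, (cj_one _).symm⟩⟩
    let W : Subgroup G := ⨆ X : {X // Relation.TransGen (Edge V1 V2) V1 X}, X.1
    have hW : IsElementaryAbelian 2 W := H4.EA.iSup (fun X => by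
        obtain ⟨X, hX⟩ := X
        cases hX with
        | single h => obtain ⟨_, _, -, h, -⟩ := hd _ _ h; exact ea_iff.2 h.ea
        | tail _ h => obtain ⟨_, _, -, h, -⟩ := hd _ _ h; exact ea_iff.2 h.ea)
      fun X Y => hp _ _ ((hsy _ _ X.2).trans Y.2)
    have key : ∀ g : G, (∀ X, Relation.TransGen (Edge V1 V2) V1 X →
        Relation.TransGen (Edge V1 V2) V1 (cj g X)) → g ∈ N W := fun g hg => by
      refine mem_normalizer_of_cj_le ?_
      rw [cj_le_iff]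
      refine iSup_le fun X => ?_
      rw [← cj_le_iff]
      exact le_iSup (fun X : {X // Relation.TransGen (Edge V1 V2) V1 X} => X.1) ⟨_, hg _ X.2⟩
    have := h0 W (ea_pgroup (ea_iff.1 hW))
      (fun g hg => key g fun X hX => by simpa only [cj_eq_self hg] using hcj _ _ g hX)
      fun g hg => key g fun X hX => e12.trans (by
        simpa only [cj_eq_self hg] using hcj _ _ g ((hsy _ _ e12).trans hX))
    exact h2.red.ne (eq_bot_iff.2 (this ▸
      le_iSup (fun X : {X // Relation.TransGen (Edge V1 V2) V1 X} => X.1) ⟨_, e12⟩))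
  have hn' : ¬ V2 ≤ C V1 := fun e => hn (C_symm e)
  have d1 := (crit h1.toOff h2.toOff (h2.V_le hC) (h1.V_le hC) hn).2
  have d2 := (crit h2.toOff h1.toOff (h1.V_le hC) (h2.V_le hC) hn').2
  have sq : ∀ {V1 V2 : Subgroup G}, FF m V1 T U → FF m V2 T U →
      (∀ t ∈ T, ∃ y ∈ V1, y⁻¹ * t ∈ C V2) → ∀ x ∈ C V1, ∃ y ∈ V1, ∃ c ∈ C V1 ⊓ C V2,
        x = y * c ∧ x * x = c * c := fun h1 h2 d x hx => by
    obtain ⟨y, hy, h3⟩ := d x (h1.C_le hC hx)
    have h4 := mul_mem (inv_mem (ea_le_C h1.ea hy)) hx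
    refine ⟨y, hy, _, ⟨h4, h3⟩, by group, ?_⟩
    rw [inv_eq (h1.ea y hy)]
    calc x * x = (y * y) * x * x := by rw [h1.ea y hy, one_mul]
      _ = y * (y * x) * x := by group
      _ = y * (x * y) * x := by rw [mem_C.1 hx y hy]
      _ = _ := by group
  let D : Subgroup G := closure ((fun x => x * x) '' (C V1 ⊓ C V2 : Subgroup G))
  have hD : ∀ {V : Subgroup G}, C V1 ⊓ C V2 ≤ C V →
      (∀ x ∈ C V, ∃ c ∈ C V1 ⊓ C V2, x * x = c * c) → N V ≤ N D := fun hle h g hg => by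
    refine mem_normalizer_of_cj_le ?_
    rw [cj_le_iff]
    refine (Subgroup.closure_le _).2 ?_
    rintro _ ⟨c, hc, rfl⟩
    obtain ⟨c', hc', e⟩ := h _ (cjm (N_le_NC _ hg) (hle hc))
    refine mem_cj.2 (subset_closure ⟨c', hc', ?_⟩)
    dsimp only
    rw [← e]; group
  have hD0 : D = ⊥ := h0 D ((h1.Q_pgroup hC).to_le ((Subgroup.closure_le _).2 (by
      rintro _ ⟨c, hc, rfl⟩; exact mul_mem hc.1 hc.1)))
    (hD inf_le_left fun x hx => by
      obtain ⟨_, _, c, hc, -, e⟩ := sq h1 h2 d2 x hx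
      exact ⟨c, hc, e⟩)
    (hD inf_le_right fun x hx => by
      obtain ⟨_, _, c, hc, -, e⟩ := sq h2 h1 d1 x hx
      exact ⟨c, ⟨hc.2, hc.1⟩, e⟩)
  have hc1 : ∀ c ∈ C V1 ⊓ C V2, c * c = 1 := fun c hc =>
    mem_bot.1 (hD0 ▸ subset_closure ⟨c, hc, rfl⟩)
  have hq1 : ∀ x ∈ C V1, x * x = 1 := fun x hx => by
    obtain ⟨_, _, c, hc, -, e⟩ := sq h1 h2 d2 x hx
    rw [e, hc1 c hc]
  have hq2 : ∀ x ∈ C V2, x * x = 1 := fun x hx => by
    obtain ⟨_, _, c, hc, -, e⟩ := sq h2 h1 d1 x hx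
    rw [e, hc1 c ⟨hc.2, hc.1⟩]
  have hU : C V1 ⊓ C V2 ≤ U := fun c hc => hZ (mem_omZ.2 ⟨h1.C_le hC hc.1, hc1 c hc, fun t ht => by
    obtain ⟨y, hy, h3⟩ := d1 t ht
    calc t * c = y * (y⁻¹ * t * c) := by group
      _ = y * c * (y⁻¹ * t) := by rw [ea_comm hq1 h3 hc.1]; group
      _ = _ := by rw [← mem_C.1 hc.2 y hy]; group⟩)
  have e1 : C V1 = V1 := le_antisymm (fun x hx => by
    obtain ⟨y, hy, c, hc, rfl, -⟩ := sq h1 h2 d2 x hx
    exact mul_mem hy (h1.UV (hU hc))) (ea_le_C h1.ea)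
  have e2 : C V2 = V2 := le_antisymm (fun x hx => by
    obtain ⟨y, hy, c, hc, rfl, -⟩ := sq h2 h1 d1 x hx
    exact mul_mem hy (h2.UV (hU ⟨hc.2, hc.1⟩))) (ea_le_C h2.ea)
  refine ⟨e1, e2, hi, fun t ht => ?_⟩
  obtain ⟨y, hy, h3⟩ := d2 t ht
  exact ⟨y, hy, _, e2 ▸ h3, by group⟩

end Cfsg.Agent.H2.CI
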