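/-
Groups in which centralizers of involutions are 2-groups: two parabolic subgroups.
-/
import Cfsg.Agent.H2.CIT4

set_option autoImplicit false
set_option linter.unusedSectionVars false

namespace Cfsg.Agent.H2.CI

open Subgroup Cfsg.Agent.L0 Cfsg.Agent.H8 Cfsg.Agent.H8.SF Cfsg.Agent.H8.Dich Cfsg.Agent.H2.SC
open scoped commutatorElement

universe u

variable {G : Type u} [Group G] [Finite G]

/-- commuting involutions lie in an elementary abelian group of order eight -/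
def E8P (G : Type u) [Group G] : Prop :=
  ∀ y z : G, y * y = 1 → y ≠ 1 → z * z = 1 → z ≠ 1 → y * z = z * y → ∃ E, E8 E ∧ y ∈ E ∧ z ∈ E

/-- the amalgam -/
structure Am (m : ℕ) (V1 V2 T U : Subgroup G) : Prop where
  f1 : FF m V1 T U
  f2 : FF m V2 T U
  c1 : C V1 = V1
  c2 : C V2 = V2
  inf : V1 ⊓ V2 = U
  prod : ∀ t ∈ T, ∃ x ∈ V1, ∃ y ∈ V2, x * y = t

theorem ea_cj {V : Subgroup G} (h : ∀ v ∈ V, v * v = 1) (g : G) : ∀ v ∈ cj g V, v * v = 1 :=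
  fun x hx => by
    obtain ⟨y, hy, rfl⟩ := mem_cj' hx
    calc g * y * g⁻¹ * (g * y * g⁻¹) = g * (y * y) * g⁻¹ := by group
      _ = 1 := by rw [h y hy]; group

theorem cj_Ce (g a : G) : cj g (Ce a) = Ce (g * a * g⁻¹) := cj_centralizer_singleton g a

namespace Am

variable {m : ℕ} {V1 V2 T U : Subgroup G}

theorem le1 (h : Am m V1 V2 T U) (hC : CIT G) : V1 ≤ T := h.f1.V_le hC

theorem le2 (h : Am m V1 V2 T U) (hC : CIT G) : V2 ≤ T := h.f2.V_le hC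

theorem symm (h : Am m V1 V2 T U) (hC : CIT G) : Am m V2 V1 T U :=
  ⟨h.f2, h.f1, h.c2, h.c1, by rw [inf_comm, h.inf], fun t ht => by
    obtain ⟨x, hx, y, hy, e⟩ := h.prod t⁻¹ (inv_mem ht)
    exact ⟨y⁻¹, inv_mem hy, x⁻¹, inv_mem hx, by rw [← mul_inv_rev, e, inv_inv]⟩⟩

theorem ne (h : Am m V1 V2 T U) : V1 ≠ V2 := fun e => by
  obtain ⟨w, hw, h1⟩ := h.f1.exists_w
  exact h1 (h.inf ▸ ⟨hw, e ▸ hw⟩)

theorem comm_mem (h : Am m V1 V2 T U) (hC : CIT G) {x y : G} (hx : x ∈ V1) (hy : y ∈ V2)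
    (e : x * y = y * x) : x ∈ U ∨ y ∈ U := by
  by_cases h1 : x ∈ U
  · exact Or.inl h1
  · exact Or.inr (h.inf ▸ ⟨h.c1 ▸ h.f1.fix y (h.le2 hC hy) x hx h1 e.symm, hy⟩)

theorem inv_mem_or (h : Am m V1 V2 T U) (hC : CIT G) {t : G} (ht : t ∈ T) (h2 : t * t = 1) :
    t ∈ V1 ∨ t ∈ V2 := by
  obtain ⟨x, hx, y, hy, rfl⟩ := h.prod t ht
  have e : x * y = y * x := by
    rw [← inv_eq h2, mul_inv_rev, inv_eq (h.f1.ea x hx), inv_eq (h.f2.ea y hy)]
  rcases h.comm_mem hC hx hy e with h1 | h1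
  · exact Or.inr (mul_mem (h.f2.UV h1) hy)
  · exact Or.inl (mul_mem hx (h.f1.UV h1))

theorem ea_le (h : Am m V1 V2 T U) (hC : CIT G) {E : Subgroup G} (hE : ∀ v ∈ E, v * v = 1)
    (hET : E ≤ T) : E ≤ V1 ∨ E ≤ V2 := by
  by_contra hn
  push Not at hn
  obtain ⟨x, hx, h1⟩ := SetLike.not_le_iff_exists.1 hn.1
  obtain ⟨y, hy, h2⟩ := SetLike.not_le_iff_exists.1 hn.2
  have h3 := (h.inv_mem_or hC (hET hx) (hE x hx)).resolve_left h1
  have h4 := (h.inv_mem_or hC (hET hy) (hE y hy)).resolve_right h2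
  rcases h.comm_mem hC h4 h3 (ea_comm hE hy hx) with h5 | h5
  · exact h2 (h.f2.UV h5)
  · exact h1 (h.f1.UV h5)

theorem eq_or (h : Am m V1 V2 T U) (hC : CIT G) {E : Subgroup G} (hE : ∀ v ∈ E, v * v = 1)
    (hET : E ≤ T) (hc : Nat.card E = m * m) : E = V1 ∨ E = V2 :=
  (h.ea_le hC hE hET).imp (fun h1 => eq_of_le_of_card_ge h1 (by rw [hc, h.f1.cardV]))
    fun h1 => eq_of_le_of_card_ge h1 (by rw [hc, h.f2.cardV])

theorem cj_or (h : Am m V1 V2 T U) (hC : CIT G) {g : G} (hg : cj g V1 ≤ T) :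
    cj g V1 = V1 ∨ cj g V1 = V2 :=
  h.eq_or hC (ea_cj h.f1.ea g) hg (by rw [card_cj, h.f1.cardV])

theorem three (h : Am m V1 V2 T U) (hE : E8P G) : 3 ≤ m := by
  by_contra hm
  have h2 : m = 2 := by have := h.f1.two; omega
  obtain ⟨u, hu, h1⟩ := h.f1.exists_u
  obtain ⟨w, hw, h3⟩ := h.f1.exists_w
  have hu' := h.f1.UV hu
  have hw1 : w ≠ 1 := fun e => h3 (e ▸ one_mem _)
  obtain ⟨E, hE, huE, hwE⟩ := hE u w (h.f1.ea u hu') h1 (h.f1.ea w hw) hw1 (ea_comm h.f1.ea hu' hw)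
  have h4 := (four_pair (H4.orderOf_eq_two_of (h.f1.ea u hu') h1)
    (H4.orderOf_eq_two_of (h.f1.ea w hw) hw1) (ea_comm h.f1.ea hu' hw)
    (fun e => h3 (e ▸ hu))).2
  have h5 : zpowers w ⊔ zpowers u = V1 :=
    eq_of_le_of_card_ge (sup_le (zpowers_le.2 hw) (zpowers_le.2 hu'))
      (by rw [h.f1.cardV, h2]; exact h4)
  have h6 : E ≤ V1 := by
    rw [← h.c1]
    refine C_symm (le_trans ?_ (ea_le_C (ea_iff.1 hE.1)))
    rw [← h5]; exact sup_le (zpowers_le.2 hwE) (zpowers_le.2 huE)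
  have := card_le_of_le h6
  have := hE.2
  rw [h.f1.cardV, h2] at *
  omega

theorem swap (h : Am m V1 V2 T U) (hC : CIT G) {g : G} (hg : g ∈ N T) (h1 : g ∉ T)
    (h2 : IsPGroup 2 (zpowers g)) : cj g V1 = V2 :=
  (h.cj_or hC (cj_le_of_mem_normalizer hg (h.le1 hC))).resolve_left fun e =>
    h1 (h.f1.syl.le_of_le_normalizer' h2 (zpowers_le.2 (cj_eq_self_iff.1 e)) (zpowers_le.2 hg)
      (mem_zpowers g))

theorem small (h : Am m V1 V2 T U) (hC : CIT G) {T1 E : Subgroup G} (h1 : T ≤ T1) (h2 : T1 ≤ N T)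
    (hc : Nat.card T1 = 2 * Nat.card T) (hE : ∀ v ∈ E, v * v = 1) (hE1 : E ≤ T1) (hn : ¬ E ≤ T) :
    T ⊓ E ≤ U ∧ Nat.card E ≤ 2 * Nat.card ↥(T ⊓ E) := by
  constructor
  · obtain ⟨e, he, h3⟩ := SetLike.not_le_iff_exists.1 hn
    have hp : IsPGroup 2 (zpowers e) := (ea_pgroup hE).to_le (zpowers_le.2 he)
    have key : ∀ {V1 V2 : Subgroup G}, Am m V1 V2 T U → T ⊓ E ≤ V1 → T ⊓ E ≤ U := fun h h4 x hx => by
      rw [← h.inf]
      refine ⟨h4 hx, ?_⟩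
      have := conj_mem_cj e (h4 hx)
      rwa [h.swap hC (h2 (hE1 he)) h3 hp, ea_comm hE he hx.2, mul_inv_cancel_right] at this
    rcases h.ea_le hC (E := T ⊓ E) (fun v hv => hE v hv.2) inf_le_left with h4 | h4
    · exact key h h4
    · exact key (h.symm hC) h4
  · have c1 := card_sup_mul_card_inf (H := E) (N := T) (hE1.trans h2)
    have c2 := card_le_of_le (sup_le h1 hE1)
    refine Nat.le_of_mul_le_mul_left (c := Nat.card T) ?_ (card_pos' T)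
    rw [← c1]
    calc _ ≤ Nat.card T1 * Nat.card ↥(T ⊓ E) := Nat.mul_le_mul_right _ c2
      _ = _ := by rw [hc]; ring

theorem kill (h : Am m V1 V2 T U) (hC : CIT G) (hE : E8P G) (hZ : omZ T ≤ U) {S : Subgroup G}
    (hS : IsSylowIn 2 S ⊤) (hlt : T < S) : False := by
  have hm := h.three hE
  have hT := h.f1.syl.pgroup
  have h' := h.symm hC
  have zp : ∀ {P : Subgroup G}, IsPGroup 2 P → ∀ g ∈ P, IsPGroup 2 (zpowers g) :=
    fun hP g hg => hP.to_le (zpowers_le.2 hg)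
  obtain ⟨s, hs, hs1, hsN, hs2⟩ := H9.exists_mem_normalizer_not_mem_pow_mem hS.pgroup hlt.le
    hlt.not_ge
  rw [sq] at hs2
  have hc := card_sup_zp hsN hs1 hs2
  have hN1 : T ⊔ zpowers s ≤ N T := sup_le le_normalizer (zpowers_le.2 hsN)
  have hS1 : T ⊔ zpowers s ≤ S := sup_le hlt.le (zpowers_le.2 hs)
  have hNT : ∀ g ∈ S, g ∈ N T → g ∉ T → s * g ∈ T := fun g hg hgN hgT => by
    have e1 := h.swap hC hgN hgT (zp hS.pgroup g hg)
    have e2 := h'.swap hC hsN hs1 (zp hS.pgroup s hs)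
    refine h.f1.syl.le_of_le_normalizer' (zp hS.pgroup _ (mul_mem hs hg))
      (zpowers_le.2 (cj_eq_self_iff.1 ?_)) (zpowers_le.2 (mul_mem hsN hgN)) (mem_zpowers _)
    rw [cj_mul, e1, e2]
  have hSeq : T ⊔ zpowers s = S := by
    by_contra hne
    obtain ⟨g, hg, hg1, hgN⟩ := H9.exists_mem_normalizer_not_mem (H9.isNilpotent_of_isPGroup hS.pgroup)
      hS1 fun e => hne (le_antisymm hS1 e)
    have key : ∀ {V1 V2 : Subgroup G}, Am m V1 V2 T U → cj g V1 ≤ T := fun h => by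
      by_contra hn
      obtain ⟨h1, h2⟩ := h.small hC le_sup_left hN1 hc (ea_cj h.f1.ea g)
        (cj_le_of_mem_normalizer hgN ((h.le1 hC).trans le_sup_left)) hn
      have := card_le_of_le h1
      rw [card_cj, h.f1.cardV] at h2
      rw [h.f1.cardU] at this
      nlinarith
    have hgT : g ∈ N T := H9.mem_normalizer_of_conj_mem fun t ht => by
      obtain ⟨x, hx, y, hy, rfl⟩ := h.prod t ht
      have := mul_mem (key h (conj_mem_cj g hx)) (key h' (conj_mem_cj g hy))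
      convert this using 1; group
    by_cases hgT' : g ∈ T
    · exact hg1 (mem_sup_left hgT')
    · have := mul_mem (inv_mem (mem_sup_right (mem_zpowers s) : s ∈ T ⊔ zpowers s))
        (mem_sup_left (hNT g hg hgT hgT'))
      exact hg1 (by simpa using this)
  rw [hSeq] at hc hN1
  have hCe : ∀ z ∈ omZ S, z ≠ 1 → Ce z = S := fun z hz h1 =>
    hS.max _ le_top (hC z (mem_omZ.1 hz).2.1 h1) fun s hs => mem_cent.2 ((mem_omZ.1 hz).2.2 s hs)
  have hZU : omZ S ≤ U := fun z hz => by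
    obtain ⟨h1, h2, h3⟩ := mem_omZ.1 hz
    refine hZ (mem_omZ.2 ⟨h.le1 hC (h.c1 ▸ mem_C.2 fun v hv => (h3 v (hlt.le (h.le1 hC hv))).symm),
      h2, fun t ht => h3 t (hlt.le ht)⟩)
  have huniq : ∀ z1 ∈ omZ S, z1 ≠ 1 → ∀ z2 ∈ omZ S, z2 ≠ 1 → z1 = z2 := fun z1 h1 h1' z2 h2 h2' => by
    obtain ⟨k, hk, e⟩ := h.f1.trans hC (h.f1.UV (hZU h1)) h1' (h.f1.UV (hZU h2)) h2'
    have e1 : cj k S = S := by
      conv_lhs => rw [← hCe z1 h1 h1']
      rw [cj_centralizer_singleton, e]; exact hCe z2 h2 h2'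
    have e2 : S ⊓ N V1 = T := h.f1.syl.max _ inf_le_right hS.pgroup.to_inf_left
      (le_inf hlt.le h.f1.AN)
    have e3 : cj k T = T := by rw [← e2, cj_inf, e1, cj_eq_self (le_normalizer hk)]
    have e4 := hS.max (N T ⊓ N S) le_top (hC.idx hT hS.pgroup hc inf_le_left inf_le_right)
      (le_inf hN1 le_normalizer)
    have e5 : k ∈ S := e4 ▸ ⟨cj_eq_self_iff.1 e3, cj_eq_self_iff.1 e1⟩
    rw [← e, (mem_omZ.1 h1).2.2 k e5, mul_inv_cancel_right]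
  obtain ⟨⟨z, hz⟩, hz1⟩ := ne_bot_iff_exists_ne_one.1 (omZ_ne_bot hS.pgroup hlt.ne_bot)
  replace hz1 : z ≠ 1 := fun e => hz1 (Subtype.ext e)
  have hle2 : ∀ X : Subgroup G, X ≤ omZ S → Nat.card X ≤ 2 := fun X hX => by
    rw [← H4.orderOf_eq_two_of (mem_omZ.1 hz).2.1 hz1, ← Nat.card_zpowers]
    refine card_le_of_le fun x hx => ?_
    by_cases h1 : x = 1
    · exact h1 ▸ one_mem _
    · exact huniq x (hX hx) h1 z hz hz1 ▸ mem_zpowers _
  have hcen : ∀ u ∈ U, ∀ n ∈ S, n ∉ T → n * u = u * n → u ∈ omZ S := fun u hu n hn hnT e => by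
    refine mem_omZ.2 ⟨hlt.le (h.le1 hC (h.f1.UV hu)), h.f1.ea u (h.f1.UV hu), fun g hg => ?_⟩
    by_cases hg1 : g ∈ T
    · exact h.f1.cen g hg1 u hu
    · have e1 := h.f1.cen _ (mul_mem (inv_mem (hNT n hn (hN1 hn) hnT)) (hNT g hg (hN1 hg) hg1)) u hu
      calc g * u = n * ((s * n)⁻¹ * (s * g) * u) := by group
        _ = n * u * n⁻¹ * g := by rw [e1]; group
        _ = _ := by rw [e]; group
  obtain ⟨u, hu, hu1⟩ : ∃ u ∈ U, u ∉ omZ S := SetLike.not_le_iff_exists.1 fun e => by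
    have := hle2 U e
    rw [h.f1.cardU] at this; omega
  have hu2 : u ≠ 1 := fun e => hu1 (e ▸ one_mem _)
  obtain ⟨k, -, hk⟩ := h.f1.trans hC (h.f1.UV (hZU hz)) hz1 (h.f1.UV hu) hu2
  have hS' : IsPGroup 2 (Ce u) := hC u (h.f1.ea u (h.f1.UV hu)) hu2
  have hTu : T ≤ Ce u := fun t ht => mem_cent.2 (h.f1.cen t ht u hu)
  obtain ⟨s', hs', hs1', hsN', hs2'⟩ := H9.exists_mem_normalizer_not_mem_pow_mem hS' hTu fun e => by
    have := card_le_of_le e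
    rw [← hk, ← cj_Ce, card_cj] at this
    have := card_le_of_le (hCe z hz hz1).ge
    have := card_pos' T
    omega
  rw [sq] at hs2'
  have hyN : s * s' ∈ N T := mul_mem hsN hsN'
  have hfix : ∀ t ∈ T, t * (s * s') = (s * s') * t → t = 1 := fun t ht e => by
    by_contra h1
    obtain ⟨v, ⟨j, rfl⟩, hv2, hv1⟩ := exists_inv (zp hT t ht) (by simpa using h1)
    have h2 := hC.pg hv2 hv1 (X := zpowers (s * s')) fun x hx => by
      obtain ⟨i, rfl⟩ := hx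
      exact (Commute.zpow_zpow (show Commute _ _ from e.symm) i j).eq
    have h3 : s * s' ∈ T := h.f1.syl.le_of_le_normalizer' h2 (zpowers_le.2 (cj_eq_self_iff.1 (by
      rw [cj_mul, h.swap hC hsN' hs1' (zp hS' s' hs'), h'.swap hC hsN hs1 (zp hS.pgroup s hs)])))
      (zpowers_le.2 hyN) (mem_zpowers _)
    exact hu1 (hcen u hu s' (by simpa using mul_mem (inv_mem hs) (hlt.le h3)) hs1' (mem_cent.1 hs'))
  set y := s * s' with hy
  let f : T → T := fun t => ⟨t * y⁻¹ * (t : G)⁻¹ * y, by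
    have := mul_mem t.2 (cjm' hyN (inv_mem t.2))
    convert this using 1; group⟩
  have hf : Function.Injective f := fun a b hab => by
    have e : (a : G) * y⁻¹ * (a : G)⁻¹ * y = b * y⁻¹ * (b : G)⁻¹ * y := congrArg Subtype.val hab
    have e1 := mul_right_cancel e
    have := hfix ((b : G)⁻¹ * a) (mul_mem (inv_mem b.2) a.2) (by
      calc (b : G)⁻¹ * a * y = y * (b : G)⁻¹ * (b * y⁻¹ * (b : G)⁻¹) * a * y := by group
        _ = _ := by rw [← e1]; group)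
    exact Subtype.ext (eq_of_inv_mul_eq_one this).symm
  obtain ⟨t, ht⟩ := Finite.injective_iff_surjective.1 hf ⟨s * y * s⁻¹ * y, by
    have := mul_mem hs2 hs2'
    convert this using 1; rw [hy]; group⟩
  have e1 : (t : G) * y⁻¹ * (t : G)⁻¹ = s * y * s⁻¹ :=
    mul_right_cancel (congrArg Subtype.val ht)
  set n := (t : G)⁻¹ * s with hn
  have e2 : n * y = y⁻¹ * n := by
    calc n * y = (t : G)⁻¹ * (s * y * s⁻¹) * s := by rw [hn]; group
      _ = _ := by rw [← e1, hn]; group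
  have hn2 : n * n = 1 := hfix _ (by
      have := mul_mem (mul_mem (inv_mem t.2) (cjm hsN (inv_mem t.2))) hs2
      convert this using 1; rw [hn]; group) (by
    calc n * n * y = n * (y⁻¹ * n) := by rw [mul_assoc, e2]
      _ = y * (y⁻¹ * n) * y⁻¹ * n := by group
      _ = _ := by rw [← e2]; group)
  have hnS : n ∈ S := mul_mem (inv_mem (hlt.le t.2)) hs
  have hnT : n ∉ T := fun e => hs1 (by simpa [hn] using mul_mem t.2 e)
  obtain ⟨E, hE8, hnE, hzE⟩ := hE n z hn2 (fun e => hnT (e ▸ one_mem _)) (mem_omZ.1 hz).2.1 hz1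
    ((mem_omZ.1 hz).2.2 n hnS)
  have hEa := ea_iff.1 hE8.1
  obtain ⟨h1, h2⟩ := h.small hC hlt.le hN1 hc hEa
    (fun x hx => hCe z hz hz1 ▸ mem_cent.2 (ea_comm hEa hx hzE)) fun e => hnT (e hnE)
  have := hle2 (T ⊓ E) fun x hx => hcen x (h1 hx) n hnS hnT (ea_comm hEa hnE hx.2)
  have := hE8.2
  omega

end Am

theorem exists_parab (hC : CIT G) (hE : E8P G) (hse : ∀ M : Subgroup G, ¬ IsStronglyEmbedded M)
    {S : Subgroup G} (hS : IsSylowIn 2 S ⊤) (hS1 : S ≠ ⊥) {M : Subgroup G} (hM : M ≠ ⊤)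
    (hJ : N (thompsonSubgroupOf 2 S) ≤ M) :
    ∃ (m : ℕ) (V : Subgroup G), FF m V S (omZ S) ∧ omZ (thompsonSubgroupOf 2 S) = omZ S ∧
      ¬ N V ≤ M ∧ ∀ D : Subgroup G, IsPGroup 2 D → D ≠ ⊥ → N V ≤ N D → N D = N V := by
  have hNS : N S ≤ M := (H4.normalizer_le_normalizer_thompsonSubgroupOf S).trans hJ
  have hSM : S ≤ M := le_normalizer.trans hNS
  let P : Set (Subgroup G) := {T | IsPGroup 2 T ∧ T ≤ M ∧
    ∃ D : Subgroup G, IsPGroup 2 D ∧ D ≠ ⊥ ∧ T ≤ N D ∧ ¬ N D ≤ M}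
  obtain ⟨t, htS, ht, htM⟩ : ∃ t ∈ S, orderOf t = 2 ∧ ¬ Ce t ≤ M := by
    by_contra hn
    push Not at hn
    exact hse M (stronglyEmbedded_of hM hS hS1 hNS hn)
  have ht0 : zpowers t ∈ P := ⟨hS.pgroup.to_le (zpowers_le.2 htS), zpowers_le.2 (hSM htS), zpowers t,
    hS.pgroup.to_le (zpowers_le.2 htS), by simpa using H4.ne_one_of_orderOf_two ht, le_normalizer,
    fun e => htM fun g hg => e (C_le_N _ (mem_C.2 fun v hv => by
      obtain ⟨k, rfl⟩ := hv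
      exact (Commute.zpow_right (show Commute _ _ from mem_cent.1 hg) k).eq))⟩
  obtain ⟨T0, hT0, hmax0⟩ := Set.exists_max_image P (fun T => Nat.card T) (Set.toFinite _) ⟨_, ht0⟩
  obtain ⟨T, hTP, hTS, hmax⟩ : ∃ T ∈ P, T ≤ S ∧ ∀ T' ∈ P, Nat.card T' ≤ Nat.card T := by
    obtain ⟨S', hS', hle⟩ := exists_isSylowIn_ge hT0.1 hT0.2.1
    obtain ⟨k, hk, e⟩ := hS'.exists_cj_eq (hS.of_le hSM le_top)
    obtain ⟨D, h1, h2, h3, h4⟩ := hT0.2.2
    refine ⟨cj k T0, ⟨pgroup_cj hT0.1 k, cj_le_of_mem hk hT0.2.1, cj k D, pgroup_cj h1 k,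
      fun e => h2 (cj_eq_bot_iff.1 e), by rw [← cj_N]; exact cj_mono k h3, fun e => h4 ?_⟩,
      e ▸ cj_mono k hle, by rw [card_cj]; exact hmax0⟩
    rw [← cj_N, cj_le_iff, cj_eq_self (le_normalizer (inv_mem hk))] at e
    exact e
  have hT1 : T ≠ ⊥ := fun e => by
    have := hmax _ ht0
    rw [e, card_bot, Nat.card_zpowers, ht] at this
    omega
  obtain ⟨D, ⟨hD, hD1, hTD, hDM⟩, hDmax⟩ := Set.exists_max_image
    {D : Subgroup G | IsPGroup 2 D ∧ D ≠ ⊥ ∧ T ≤ N D ∧ ¬ N D ≤ M} (fun D => Nat.card (N D))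
    (Set.toFinite _) hTP.2.2
  have hloc : ∀ D' : Subgroup G, IsPGroup 2 D' → D' ≠ ⊥ → N D ≤ N D' → N D' = N D :=
    fun D' h1 h2 h3 => (eq_of_le_of_card_ge h3
      (hDmax D' ⟨h1, h2, hTD.trans h3, fun e => hDM (h3.trans e)⟩)).symm
  have hQ : Op 2 (N D) ≠ ⊥ := fun e => hD1 (eq_bot_iff.2 (e ▸ le_Op le_normalizer le_rfl hD))
  set V := omZ (Op 2 (N D)) with hV
  have hVea : ∀ v ∈ V, v * v = 1 := fun v hv => (mem_omZ.1 hv).2.1
  have hV1 : V ≠ ⊥ := omZ_ne_bot (Op_pgroup _) hQ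
  have hNV : N V = N D := hloc V (ea_pgroup hVea) hV1 ((self_norm_Op _).trans (norm_omZ _))
  have hCV : C V = Op 2 (N D) := le_antisymm (le_Op (hNV ▸ C_le_N V) (hNV ▸ N_le_NC V)
    (hC.cent (ea_pgroup hVea) hV1)) (le_cent_omZ _)
  have hR : Red V := ⟨hVea, hV1, by rw [hNV, hCV]⟩
  have hbig : T < S → ∀ D' : Subgroup G, IsPGroup 2 D' → D' ≠ ⊥ → ∀ T', T < T' → T' ≤ S →
      T' ≤ N D' → N D' ≤ M := fun _ D' h1 h2 T' h3 h4 h5 => by
    by_contra hn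
    have := hmax T' ⟨hS.pgroup.to_le h4, h4.trans hSM, D', h1, h2, h5, hn⟩
    have := card_lt_of_lt h3
    omega
  have hJT : N (thompsonSubgroupOf 2 T) ≤ M := by
    rcases hTS.eq_or_lt with e | hlt
    · rw [e]; exact hJ
    · exact hbig hlt _ (hTP.1.to_le (H4.thompsonSubgroupOf_le T)) (H4.thompsonSubgroupOf_ne_bot (by
        obtain ⟨v, hv, h1, h2⟩ := exists_inv hTP.1 hT1
        rw [← H4.orderOf_eq_two_of h1 h2]; exact T.orderOf_dvd_natCard hv)) _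
        (lt_inf_normalizer_of_pgroup hS.pgroup hlt) inf_le_left
        (inf_le_right.trans (H4.normalizer_le_normalizer_thompsonSubgroupOf T))
  have hT : IsSylowIn 2 T (N V) := by
    rw [hNV]
    refine IsSylowIn.of_normalizer hTD ⟨le_inf hTD le_normalizer, hTP.1, fun Q h1 h2 h3 => ?_⟩
    exact (eq_of_le_of_card_ge h3 (hmax Q ⟨h2, h1.trans (inf_le_right.trans
      ((H4.normalizer_le_normalizer_thompsonSubgroupOf T).trans hJT)), D, hD, hD1,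
      h1.trans inf_le_left, hDM⟩)).symm
  have hQT : C V ≤ T := hT.le_of_le_normalizer (hC.cent (ea_pgroup hVea) hV1) (C_le_N V)
    (hT.le.trans (N_le_NC V))
  obtain ⟨m, hF, hZ⟩ := exists_FF hC hR hT (by rw [hCV]) fun e => hDM (by
    rw [← hNV]
    refine (N_le_NC V).trans ((H4.normalizer_le_normalizer_thompsonSubgroupOf (p := 2) _).trans ?_)
    rw [H4.thompsonSubgroupOf_eq_of_le e hQT]; exact hJT)
  rcases hTS.eq_or_lt with e | hlt
  · subst e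
    exact ⟨m, V, hF, hZ, hNV ▸ hDM, fun D' h1 h2 h3 => by rw [hNV] at h3 ⊢; exact hloc D' h1 h2 h3⟩
  exfalso
  obtain ⟨s, hs, hs1, hsN, hs2⟩ := H9.exists_mem_normalizer_not_mem_pow_mem hS.pgroup hlt.le
    hlt.not_ge
  rw [sq] at hs2
  have hF2 := hF.conj s
  rw [cj_omZ s T, cj_eq_self hsN] at hF2
  obtain ⟨e1, e2, e3, e4⟩ := amalgam hC hF hF2 le_rfl fun X h1 h2 h3 => by
    by_contra hX
    have hs3 : cj s (cj s X) = X := by rw [← cj_mul, cj_eq_self (h2 (hF.AN hs2))]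
    have h4 : N V ≤ N (cj s X) := by
      have := cj_mono s h3
      rwa [cj_N, cj_N, ← cj_mul, cj_eq_self (hF.AN hs2)] at this
    have h5 : ∀ Y : Subgroup G, IsPGroup 2 Y → Y ≠ ⊥ → N V ≤ N Y → Y ≤ T := fun Y h1 h2 h3 =>
      hT.le_of_le_normalizer h1 (by rw [hNV, ← hloc Y h1 h2 (hNV ▸ h3)]; exact le_normalizer)
        (hT.le.trans h3)
    have h6 : N V ≤ N (X ⊔ cj s X) := fun g hg => mem_normalizer_of_cj_le (by
      rw [cj_sup, cj_eq_self (h2 hg), cj_eq_self (h4 hg)])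
    have h7 := hbig hlt (X ⊔ cj s X) (hTP.1.to_le (sup_le (h5 X h1 hX h2)
      (h5 _ (pgroup_cj h1 s) (fun e => hX (cj_eq_bot_iff.1 e)) h4)))
      (fun e => hX (eq_bot_iff.2 (e ▸ le_sup_left))) (T ⊔ zpowers s)
      (lt_of_le_of_ne le_sup_left fun e => hs1 (e ▸ mem_sup_right (mem_zpowers s)))
      (sup_le hTS (zpowers_le.2 hs)) (sup_le (hT.le.trans h6) (zpowers_le.2
        (mem_normalizer_of_cj_le (by rw [cj_sup, hs3, sup_comm]))))
    exact hDM (hNV ▸ h6.trans h7)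
  exact Am.kill ⟨hF, hF2, e1, e2, e3, e4⟩ hC hE le_rfl hS hlt

theorem FF.N_le (hC : CIT G) {m : ℕ} {V S U : Subgroup G} (h : FF m V S U) (hS : IsSylowIn 2 S ⊤) :
    N U ≤ N V := fun g hg => by
  obtain ⟨u, hu, h1⟩ := h.exists_u
  obtain ⟨k, hk, e⟩ := h.trans hC (h.UV hu) h1 (h.UV (cjm hg hu)) (conj_ne_one h1)
  have h2 : Ce u = S := hS.max _ le_top (hC u (h.ea u (h.UV hu)) h1)
    fun s hs => mem_cent.2 (h.cen s hs u hu)
  have h3 : k⁻¹ * g ∈ Ce u := mem_cent.2 (by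
    calc k⁻¹ * g * u = k⁻¹ * (g * u * g⁻¹) * g := by group
      _ = _ := by rw [← e]; group)
  have h4 := mul_mem hk (h.AN (h2 ▸ h3))
  rwa [mul_inv_cancel_left] at h4

theorem exists_am [IsSimpleGroup G] (hG : ¬ IsMulCommutative G) (hC : CIT G) (hE : E8P G)
    (hse : ∀ M : Subgroup G, ¬ IsStronglyEmbedded M) {S : Subgroup G} (hS : IsSylowIn 2 S ⊤)
    (hS1 : S ≠ ⊥) : ∃ (m : ℕ) (V1 V2 : Subgroup G), Am m V1 V2 S (omZ S) := by
  have hN : ∀ D : Subgroup G, IsPGroup 2 D → D ≠ ⊥ → N D ≠ ⊤ := fun D h1 h2 e => by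
    have hn : D.Normal := normalizer_eq_top_iff.1 e
    rcases hn.eq_bot_or_eq_top with h3 | h3
    · exact h2 h3
    · subst h3
      have h4 : IsPGroup 2 G := h1.of_equiv topEquiv
      haveI := h4.isNilpotent
      exact hG ⟨⟨IsSimpleGroup.comm_iff_isSolvable.2 inferInstance⟩⟩
  obtain ⟨m, V1, h1, hZ, -, hm1⟩ := exists_parab hC hE hse hS hS1 (hN _
    (hS.pgroup.to_le (H4.thompsonSubgroupOf_le S)) (H4.thompsonSubgroupOf_ne_bot (by
      obtain ⟨v, hv, h1, h2⟩ := exists_inv hS.pgroup hS1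
      rw [← H4.orderOf_eq_two_of h1 h2]; exact S.orderOf_dvd_natCard hv))) le_rfl
  obtain ⟨m', V2, h2, -, hn, -⟩ := exists_parab hC hE hse hS hS1
    (hN V1 (ea_pgroup h1.ea) h1.red.ne) ((norm_omZ _).trans (hZ ▸ h1.N_le hC hS))
  obtain rfl : m' = m := h2.cardU.symm.trans h1.cardU
  obtain ⟨e1, e2, e3, e4⟩ := amalgam hC h1 h2 le_rfl fun D a b c => by
    by_contra hD
    exact hn (hm1 D a hD b ▸ c)
  exact ⟨m', V1, V2, h1, h2, e1, e2, e3, e4⟩

end Cfsg.Agent.H2.CI
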