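/-
Groups in which centralizers of involutions are 2-groups: the field has four elements.
-/
import Cfsg.Agent.H2.CIT5

set_option autoImplicit false
set_option linter.unusedSectionVars false

namespace Cfsg.Agent.H2.CI

open Subgroup Cfsg.Agent.L0 Cfsg.Agent.H8 Cfsg.Agent.H8.SF Cfsg.Agent.H8.Dich Cfsg.Agent.H2.SC
open scoped commutatorElement

universe u

variable {G : Type u} [Group G] [Finite G]

namespace Am

variable {m : ℕ} {V1 V2 S U : Subgroup G}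

theorem conj (h : Am m V1 V2 S U) (g : G) : Am m (cj g V1) (cj g V2) (cj g S) (cj g U) :=
  ⟨h.f1.conj g, h.f2.conj g, by rw [← cj_C, h.c1], by rw [← cj_C, h.c2], by rw [← cj_inf, h.inf],
    fun t ht => by
      obtain ⟨t, ht', rfl⟩ := mem_cj' ht
      obtain ⟨x, hx, y, hy, rfl⟩ := h.prod t ht'
      exact ⟨_, conj_mem_cj g hx, _, conj_mem_cj g hy, by group⟩⟩

theorem conjN (h : Am m V1 V2 S U) {g : G} (hg : g ∈ N V1) :
    Am m V1 (cj g V2) (cj g S) (cj g U) := by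
  have := h.conj g
  rwa [cj_eq_self hg] at this

theorem red2 (h : Am m V1 V2 S U) (hC : CIT G) {t : G} (ht : t ∈ S) :
    ∃ y ∈ V2, ∀ x ∈ V1, t * x * t⁻¹ = y * x * y⁻¹ := by
  obtain ⟨v, hv, y, hy, rfl⟩ := h.prod t ht
  refine ⟨y, hy, fun x hx => ?_⟩
  calc v * y * x * (v * y)⁻¹ = v * (y * x * y⁻¹) * v⁻¹ := by group
    _ = _ := by rw [ea_comm h.f1.ea hv (cjm (h.f1.AN (h.le2 hC hy)) hx)]; group

theorem mu (h : Am m V1 V2 S U) (hC : CIT G) {V2' S' U' : Subgroup G} (h' : Am m V1 V2' S' U')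
    (hne : U ≠ U') {y : G} (hy : y ∈ V2) (hyU : y ∉ U) :
    ∃ μ ∈ N V1, μ * μ = 1 ∧ ∀ u' ∈ U', μ * u' * μ⁻¹ = y * u' * y⁻¹ * u' := by
  have hyS := h.le2 hC hy
  have hyN := h.f1.AN hyS
  obtain ⟨u0, hu0, h0⟩ := h'.f1.exists_u
  have hd : ∀ x ∈ U, x ∈ U' → x = 1 := fun x hx hx' => by
    have : x ∈ U ⊓ U' := ⟨hx, hx'⟩
    rwa [h.f1.disj hC h'.f1.toOff hne] at this
  have h1 : y * u0 * y⁻¹ ∉ U' := fun e => by
    have e1 := hd _ (h.f1.comm y hyS u0 (h'.f1.UV hu0)) (mul_mem e hu0)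
    rw [mul_eq_one_iff_eq_inv, inv_eq (h.f1.ea u0 (h'.f1.UV hu0)), mul_inv_eq_iff_eq_mul] at e1
    have := h.f1.fix y hyS u0 (h'.f1.UV hu0) (fun e => h0 (hd u0 e hu0)) e1
    exact hyU (h.inf ▸ ⟨h.c1 ▸ this, hy⟩)
  obtain ⟨a, ha, h2⟩ := h'.f1.exists_cj hC h.f1.toOff hne.symm (cjm hyN (h'.f1.UV hu0)) h1
  obtain ⟨a', ha', h3⟩ := h'.red2 hC ha
  have ha'S := h'.le2 hC ha'
  have ha'N := h'.f1.AN ha'S
  have h4 : y * u0 * y⁻¹ ∈ cj a' U := by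
    obtain ⟨u, hu, e⟩ := mem_cj' h2
    rw [e, h3 u (h.f1.UV hu)]; exact conj_mem_cj a' hu
  have h5 := (h'.f1.toOff.conjN hyN).ti hC (h.f1.toOff.conjN ha'N) (conj_mem_cj y hu0) h4
    (conj_ne_one h0)
  have ya := h.f2.ea y hy
  have aa := h'.f2.ea a' ha'
  refine ⟨y * a' * y, mul_mem (mul_mem hyN ha'N) hyN, ?_, fun u' hu' => ?_⟩
  · calc y * a' * y * (y * a' * y) = y * a' * (y * y) * a' * y := by group
      _ = y * (a' * a') * y := by rw [ya]; group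
      _ = 1 := by rw [aa, mul_one, ya]
  · have hc := h.f1.comm y hyS u' (h'.f1.UV hu')
    set c := y * u' * y⁻¹ * u' with hc0
    have uu := h.f1.ea u' (h'.f1.UV hu')
    have cc := h.f1.ea c (h.f1.UV hc)
    have e1 : y * u' * y⁻¹ = c * u' := by rw [hc0, mul_assoc _ u' u', uu, mul_one]
    have h6 : a'⁻¹ * (y * u' * y⁻¹) * a' ∈ U := mem_cj.1 (h5 ▸ conj_mem_cj y hu')
    have h7 := h'.f1.comm a'⁻¹ (inv_mem ha'S) c (h.f1.UV hc)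
    have e2 : a'⁻¹ * (y * u' * y⁻¹) * a' * c = a'⁻¹ * c * a'⁻¹⁻¹ * c * u' := by
      rw [e1, mul_assoc _ c u', ea_comm h.f1.ea (h.f1.UV hc) (h'.f1.UV hu')]
      calc a'⁻¹ * (u' * c) * a' * c = a'⁻¹ * (c * (u' * a')) * c := by
            rw [ea_comm h.f1.ea (h'.f1.UV hu') (h.f1.UV hc)]; group
        _ = _ := by rw [← h'.f1.cen a' ha'S u' hu']; group
    have e3 := hd _ (mul_mem h6 hc) (e2 ▸ mul_mem h7 hu')
    rw [mul_eq_one_iff_eq_inv, inv_eq cc, inv_eq aa] at e3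
    calc y * a' * y * u' * (y * a' * y)⁻¹ = y * (a' * (y * u' * y⁻¹) * a'⁻¹) * y⁻¹ := by group
      _ = c := by rw [inv_eq aa, e3, h.f1.cen y hyS c hc]; group

theorem star (h : Am m V1 V2 S U) (hC : CIT G) (hS : IsSylowIn 2 S ⊤) {k x y : G} (hk : k ∈ N U)
    (hx : x ∈ V1) (hy : y ∈ V2) :
    y * (k * x * k⁻¹) * y⁻¹ * (k * x * k⁻¹) = k⁻¹ * (y * x * y⁻¹ * x) * k := by
  have hkN := h.f1.N_le hC hS hk
  have hyS := h.le2 hC hy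
  have hyN := h.f1.AN hyS
  by_cases hyU : y ∈ U
  · rw [ea_comm h.f1.ea (h.f1.UV hyU) (cjm hkN hx), ea_comm h.f1.ea (h.f1.UV hyU) hx,
      mul_inv_cancel_right, mul_inv_cancel_right, h.f1.ea x hx, h.f1.ea _ (cjm hkN hx)]
    group
  obtain ⟨g, hg, hne⟩ := h.f1.mov hC
  have h' := h.conjN hg
  generalize cj g U = U' at h' hne
  generalize cj g V2 = V2' at h'
  generalize cj g S = S' at h'
  replace hne := hne.symm
  obtain ⟨u0, hu0, h0⟩ := h'.f1.exists_u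
  have hd : ∀ x ∈ U, x ∈ U' → x = 1 := fun x hx hx' => by
    have : x ∈ U ⊓ U' := ⟨hx, hx'⟩
    rwa [h.f1.disj hC h'.f1.toOff hne] at this
  have hmu : ∀ y ∈ V2, y ∉ U → ∃ μ ∈ N V1, μ * μ = 1 ∧
      (∀ u' ∈ U', μ * u' * μ⁻¹ = y * u' * y⁻¹ * u') ∧ cj μ U' = U ∧ cj μ U = U' := fun y hy hyU => by
    obtain ⟨μ, h1, h2, h3⟩ := h.mu hC h' hne hy hyU
    have h4 : cj μ U' = U := eq_of_le_of_card_ge (fun x hx => by
      obtain ⟨u', hu', rfl⟩ := mem_cj' hx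
      rw [h3 u' hu']; exact h.f1.comm y (h.le2 hC hy) u' (h'.f1.UV hu'))
      (by rw [card_cj, h.f1.cardU, h'.f1.cardU])
    exact ⟨μ, h1, h2, h3, h4, by rw [← h4, ← cj_mul, h2, cj_one]⟩
  obtain ⟨μ, hμ, μμ, hμ1, hμ2, hμ3⟩ := hmu y hy hyU
  obtain ⟨s, hs, h1⟩ := h.f1.exists_cj hC h'.f1.toOff hne (cjm hkN (h'.f1.UV hu0)) fun e =>
    h0 (hd u0 (by simpa [mul_assoc] using cjm' hk e) hu0)
  have h2 := (h'.f1.toOff.conjN hkN).ti hC (h'.f1.toOff.conjN (h.f1.AN hs)) (conj_mem_cj k hu0) h1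
    (conj_ne_one h0)
  have hsU : s ∈ N U := C_le_N U (mem_C.2 (h.f1.cen s hs))
  set k1 := s⁻¹ * k with hk1
  have k1U : k1 ∈ N U := mul_mem (inv_mem hsU) hk
  have k1U' : cj k1 U' = U' := by rw [hk1, cj_mul, h2, cj_inv_cj]
  have k1N : k1 ∈ N V1 := mul_mem (inv_mem (h.f1.AN hs)) hkN
  have h3 : μ * k1 * u0 * (μ * k1)⁻¹ ∈ U := by
    rw [← hμ2, ← k1U', ← cj_mul]; exact conj_mem_cj _ hu0
  obtain ⟨t, ht, h4⟩ := h.f1.tr u0 (h'.f1.UV hu0) (fun e => h0 (hd u0 e hu0)) _ h3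
  obtain ⟨y', hy', h5⟩ := h.red2 hC ht
  rw [h5 u0 (h'.f1.UV hu0)] at h4
  obtain ⟨ν, hν, νν, hν1, hν2, hν3⟩ := hmu y' hy' fun e => conj_ne_one h0 (by
    rw [← h4, ea_comm h.f1.ea (h.f1.UV e) (h'.f1.UV hu0), mul_inv_cancel_right,
      h.f1.ea u0 (h'.f1.UV hu0)])
  have h6 : ν * (μ * k1) ∈ S' := h'.f1.memT hC (mul_mem hν (mul_mem hμ k1N)) hu0 h0 (by
    calc ν * (μ * k1) * u0 = ν * (μ * k1 * u0 * (μ * k1)⁻¹) * (μ * k1) := by group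
      _ = (ν * ν) * u0 * ν⁻¹ * (μ * k1) := by rw [← h4, ← hν1 u0 hu0]; group
      _ = _ := by rw [νν, inv_eq νν]; group)
  have h7 : ν * (μ * k1) ∈ C V1 := h.f1.two_fix hC h'.f1.toOff hne (P := S' ⊓ N U)
    h'.f1.syl.pgroup.to_inf_left (inf_le_left.trans h'.f1.AN) inf_le_right
    (inf_le_left.trans fun a ha => C_le_N U' (mem_C.2 (h'.f1.cen a ha)))
    ⟨h6, cj_eq_self_iff.1 (by rw [cj_mul, cj_mul, cj_eq_self k1U, hμ3, hν2])⟩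
  have h8 : ∀ x ∈ V1, μ * k1 * x * (μ * k1)⁻¹ = ν * x * ν⁻¹ := fun x hx => by
    calc μ * k1 * x * (μ * k1)⁻¹ = ν⁻¹ * (ν * (μ * k1) * x) * (μ * k1)⁻¹ := by group
      _ = ν⁻¹ * x * ν := by rw [mem_C.1 h7 x hx]; group
      _ = _ := by rw [inv_eq νν]
  have h9 : ∀ x ∈ V1, μ * (k1 * x * k1⁻¹) * μ⁻¹ = k1⁻¹ * (μ * x * μ⁻¹) * k1 := fun x hx => by
    have e1 := h8 _ (cjm (mul_mem hμ k1N) hx)
    rw [h8 x hx] at e1
    have e2 : ν * (ν * x * ν⁻¹) * ν⁻¹ = x := by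
      calc ν * (ν * x * ν⁻¹) * ν⁻¹ = (ν * ν) * x * (ν * ν)⁻¹ := by group
        _ = x := by rw [νν]; group
    rw [e2, ← h8 x hx] at e1
    calc μ * (k1 * x * k1⁻¹) * μ⁻¹
        = k1⁻¹ * μ⁻¹ * (μ * k1 * (μ * k1 * x * (μ * k1)⁻¹) * (μ * k1)⁻¹) * μ * k1 := by group
      _ = k1⁻¹ * (μ⁻¹ * x * μ) * k1 := by rw [e1]; group
      _ = _ := by rw [inv_eq μμ]
  have hβ : ∀ u ∈ U, ∀ w ∈ V1, y * (u * w) * y⁻¹ * (u * w) = y * w * y⁻¹ * w := fun u hu w hw => by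
    calc y * (u * w) * y⁻¹ * (u * w) = (y * u) * y⁻¹ * ((y * w * y⁻¹) * u) * w := by group
      _ = u * u * (y * w * y⁻¹ * w) := by
        rw [h.f1.cen y hyS u hu, ea_comm h.f1.ea (cjm hyN hw) (h.f1.UV hu)]; group
      _ = _ := by rw [h.f1.ea u (h.f1.UV hu), one_mul]
  obtain ⟨u, hu, u', hu', rfl⟩ := h.f1.decomp hC h'.f1.toOff hne hx
  have hw : k1 * u' * k1⁻¹ ∈ U' := k1U' ▸ conj_mem_cj k1 hu'
  have e1 : k * (u * u') * k⁻¹ = (k * u * k⁻¹ * (s * (k1 * u' * k1⁻¹) * s⁻¹ * (k1 * u' * k1⁻¹))) *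
      (k1 * u' * k1⁻¹) := by
    rw [mul_assoc (k * u * k⁻¹), mul_assoc _ (k1 * u' * k1⁻¹), h.f1.ea _ (h'.f1.UV hw), hk1]
    group
  rw [e1, hβ _ (mul_mem (cjm hk hu) (h.f1.comm s hs _ (h'.f1.UV hw))) _ (h'.f1.UV hw),
    hβ u hu u' (h'.f1.UV hu'), ← hμ1 _ hw, h9 u' (h'.f1.UV hu'), hμ1 u' hu', hk1]
  calc (s⁻¹ * k)⁻¹ * (y * u' * y⁻¹ * u') * (s⁻¹ * k)
      = k⁻¹ * (s * (y * u' * y⁻¹ * u')) * s⁻¹ * k := by group
    _ = _ := by rw [h.f1.cen s hs _ (h.f1.comm y hyS u' (h'.f1.UV hu'))]; group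

theorem Ce_eq (h : Am m V1 V2 S U) (hC : CIT G) (hS : IsSylowIn 2 S ⊤) {u : G} (hu : u ∈ U)
    (h1 : u ≠ 1) : Ce u = S :=
  hS.max _ le_top (hC u (h.f1.ea u (h.f1.UV hu)) h1) fun s hs => mem_cent.2 (h.f1.cen s hs u hu)

theorem mem_S (h : Am m V1 V2 S U) (hC : CIT G) (hS : IsSylowIn 2 S ⊤) {u k : G} (hu : u ∈ U)
    (h1 : u ≠ 1) (e : k * u * k⁻¹ = u) : k ∈ S :=
  h.Ce_eq hC hS hu h1 ▸ mem_cent.2 (mul_inv_eq_iff_eq_mul.1 e)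

theorem exists_beta (h : Am m V1 V2 S U) (hC : CIT G) {u : G} (hu : u ∈ U) :
    ∃ x ∈ V1, ∃ y ∈ V2, y * x * y⁻¹ * x = u := by
  obtain ⟨x, hx, h1⟩ := h.f1.exists_w
  obtain ⟨t, ht, e⟩ := h.f1.tr x hx h1 u hu
  obtain ⟨y, hy, h2⟩ := h.red2 hC ht
  exact ⟨x, hx, y, hy, by rw [← h2 x hx, e]⟩

theorem beta_symm (h : Am m V1 V2 S U) (hC : CIT G) {x y : G} (hx : x ∈ V1) (hy : y ∈ V2) :
    x * y * x⁻¹ * y = y * x * y⁻¹ * x := by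
  rw [← inv_eq (h.f1.ea _ (h.f1.UV (h.f1.comm y (h.le2 hC hy) x hx)))]
  simp only [mul_inv_rev, inv_eq (h.f1.ea x hx), inv_eq (h.f2.ea y hy), mul_assoc]

theorem cube (h : Am m V1 V2 S U) (hC : CIT G) (hS : IsSylowIn 2 S ⊤) {k : G} (hk : k ∈ N U) :
    k * k * k ∈ S := by
  obtain ⟨u, hu, h1⟩ := h.f1.exists_u
  obtain ⟨x, hx, y, hy, e⟩ := h.exists_beta hC hu
  have hx' := cjm (h.f1.N_le hC hS hk) hx
  have hy' := cjm (h.f2.N_le hC hS hk) hy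
  have e1 := h.star hC hS hk hx hy'
  have e2 := (h.symm hC).star hC hS hk hy hx
  rw [h.beta_symm hC hx hy', h.beta_symm hC hx hy, e] at e2
  rw [e2] at e1
  refine h.mem_S hC hS hu h1 ?_
  calc k * k * k * u * (k * k * k)⁻¹ = k * k * (k * y * k⁻¹ * (k * x * k⁻¹) * (k * y * k⁻¹)⁻¹ *
      (k * x * k⁻¹)) * k⁻¹ * k⁻¹ := by rw [← e]; group
    _ = u := by rw [e1]; group

theorem comm_U (h : Am m V1 V2 S U) (hC : CIT G) (hS : IsSylowIn 2 S ⊤) {k l u : G} (hk : k ∈ N U)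
    (hl : l ∈ N U) (hu : u ∈ U) : k * (l * u * l⁻¹) * k⁻¹ = l * (k * u * k⁻¹) * l⁻¹ := by
  obtain ⟨x, hx, y, hy, rfl⟩ := h.exists_beta hC hu
  have e1 := h.star hC hS (inv_mem (mul_mem hk hl)) hx hy
  have e2 := h.star hC hS (inv_mem hl) (cjm (h.f1.N_le hC hS (inv_mem hk)) hx) hy
  rw [h.star hC hS (inv_mem hk) hx hy] at e2
  have e3 : (k * l)⁻¹ * x * (k * l)⁻¹⁻¹ = l⁻¹ * (k⁻¹ * x * k⁻¹⁻¹) * l⁻¹⁻¹ := by group
  rw [e3, e2] at e1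
  calc k * (l * (y * x * y⁻¹ * x) * l⁻¹) * k⁻¹ = (k * l)⁻¹⁻¹ * (y * x * y⁻¹ * x) * (k * l)⁻¹ := by
        group
    _ = _ := by rw [← e1]; group

theorem transU (h : Am m V1 V2 S U) (hC : CIT G) {u v : G} (hu : u ∈ U) (h1 : u ≠ 1) (hv : v ∈ U)
    (h2 : v ≠ 1) : ∃ k ∈ N U, k * u * k⁻¹ = v := by
  obtain ⟨k, hk, e⟩ := h.f1.trans hC (h.f1.UV hu) h1 (h.f1.UV hv) h2
  exact ⟨k, cj_eq_self_iff.1 ((h.f1.toOff.conjN hk).ti hC h.f1.toOff (e ▸ conj_mem_cj k hu) hv h2), e⟩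

theorem norm3 (h : Am m V1 V2 S U) (hC : CIT G) (hS : IsSylowIn 2 S ⊤) {k v : G} (hk : k ∈ N U)
    (hkS : k ∉ S) (hv : v ∈ U) : k * (k * v * k⁻¹) * k⁻¹ = v * (k * v * k⁻¹) := by
  have h1 := cjm hk hv
  have h2 := cjm hk h1
  have cm : ∀ {a b : G}, a ∈ U → b ∈ U → a * b = b * a := fun ha hb =>
    ea_comm h.f1.ea (h.f1.UV ha) (h.f1.UV hb)
  have h3 : v * (k * v * k⁻¹) * (k * (k * v * k⁻¹) * k⁻¹) = 1 := by
    by_contra hn
    refine hkS (h.mem_S hC hS (mul_mem (mul_mem hv h1) h2) hn ?_)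
    have e := h.f1.cen _ (h.cube hC hS hk) v hv
    calc k * (v * (k * v * k⁻¹) * (k * (k * v * k⁻¹) * k⁻¹)) * k⁻¹
        = k * v * k⁻¹ * (k * (k * v * k⁻¹) * k⁻¹) * (k * k * k * v * (k * k * k)⁻¹) := by group
      _ = k * v * k⁻¹ * (k * (k * v * k⁻¹) * k⁻¹) * v := by rw [e]; group
      _ = _ := by rw [cm (mul_mem h1 h2) hv]; group
  rw [← inv_eq (h.f1.ea _ (h.f1.UV (mul_mem hv h1)))]
  exact eq_inv_of_mul_eq_one_right h3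

theorem four (h : Am m V1 V2 S U) (hC : CIT G) (hE : E8P G) (hS : IsSylowIn 2 S ⊤) : m = 4 := by
  classical
  have h3 := h.three hE
  have h2 := h.f1.two_dvd
  by_contra hm
  have h5 : 5 ≤ m := by omega
  have ex : ∀ s : Finset G, s.card ≤ 4 → ∃ u ∈ U, u ∉ s := fun s hs => by
    by_contra hn
    push Not at hn
    have := Set.ncard_le_ncard (show (U : Set G) ⊆ s from hn)
    rw [Set.ncard_coe_finset] at this
    have e : (U : Set G).ncard = m := h.f1.cardU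
    omega
  have cm : ∀ {a b : G}, a ∈ U → b ∈ U → a * b = b * a := fun ha hb =>
    ea_comm h.f1.ea (h.f1.UV ha) (h.f1.UV hb)
  have sq : ∀ {a : G}, a ∈ U → a * a = 1 := fun ha => h.f1.ea _ (h.f1.UV ha)
  obtain ⟨a, ha, ha1⟩ := h.f1.exists_u
  obtain ⟨b, hb, hb1⟩ := ex {1, a} (Finset.card_le_two.trans (by norm_num))
  simp only [Finset.mem_insert, Finset.mem_singleton, not_or] at hb1
  obtain ⟨c, hc, hc1⟩ := ex {1, a, b, a * b} Finset.card_le_four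
  simp only [Finset.mem_insert, Finset.mem_singleton, not_or] at hc1
  obtain ⟨k, hk, rfl⟩ := h.transU hC ha ha1 hb hb1.1
  obtain ⟨l, hl, rfl⟩ := h.transU hC ha ha1 hc hc1.1
  have hkS : k ∉ S := fun e => hb1.2 (by rw [h.f1.cen k e a ha]; group)
  have hlS : l ∉ S := fun e => hc1.2.1 (by rw [h.f1.cen l e a ha]; group)
  set b := k * a * k⁻¹ with hb0
  set c := l * a * l⁻¹ with hc0
  have hd := cjm hk hc
  set d := k * c * k⁻¹ with hd0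
  have e1 : k * b * k⁻¹ = a * b := h.norm3 hC hS hk hkS ha
  have e2 : l * c * l⁻¹ = a * c := h.norm3 hC hS hl hlS ha
  have e3 : l * b * l⁻¹ = d := (h.comm_U hC hS hk hl ha).symm
  have e4 : k * (b * (a * c)) * k⁻¹ = l * (b * (a * c)) * l⁻¹ := by
    calc k * (b * (a * c)) * k⁻¹ = (k * b * k⁻¹) * b * d := by rw [hb0, hd0]; group
      _ = a * d := by rw [e1, mul_assoc a b b, sq hb, mul_one]
      _ = d * (c * c) * a := by rw [sq hc, mul_one, cm ha hd]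
      _ = d * c * (a * c) := by rw [cm ha hc]; group
      _ = (l * b * l⁻¹) * c * (l * c * l⁻¹) := by rw [e2, e3]
      _ = _ := by rw [hc0]; group
  have hv : b * (a * c) ≠ 1 := fun e => hc1.2.2.2 (by
    rw [← mul_assoc, mul_eq_one_iff_inv_eq, inv_eq (sq (mul_mem hb ha))] at e
    rw [← e, cm hb ha])
  have := h.mem_S hC hS (k := l⁻¹ * k) (mul_mem hb (mul_mem ha hc)) hv (by
    calc l⁻¹ * k * (b * (a * c)) * (l⁻¹ * k)⁻¹ = l⁻¹ * (k * (b * (a * c)) * k⁻¹) * l := by group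
      _ = _ := by rw [e4]; group)
  refine hc1.2.2.1 ?_
  calc c = l * (a * (l⁻¹ * k)) * k⁻¹ := by rw [hc0]; group
    _ = b := by rw [← h.f1.cen _ this a ha, hb0]; group

theorem all_fix (h : Am m V1 V2 S U) (hC : CIT G) (hS : IsSylowIn 2 S ⊤) {k : G}
    (hk : ∀ g ∈ N V1, k ∈ N (cj g U)) : k * k ∈ S := by
  have hkU : k ∈ N U := by simpa only [cj_one] using hk 1 (one_mem _)
  obtain ⟨g, hg, hne⟩ := h.f1.mov hC
  have h' := h.f1.toOff.conjN hg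
  obtain ⟨u', hu', h0⟩ := h'.exists_u
  obtain ⟨y, hy, hyU⟩ := h.f2.exists_w
  have hyS := h.le2 hC hy
  have hd : ∀ x ∈ U, x ∈ cj g U → x = 1 := fun x hx hx' => by
    have : x ∈ U ⊓ cj g U := ⟨hx, hx'⟩
    rwa [h.f1.disj hC h' hne.symm] at this
  have h1 : k * (y * u' * y⁻¹) * k⁻¹ ∈ cj y (cj g U) := by
    have := hk (y * g) (mul_mem (h.f1.AN hyS) hg)
    rw [cj_mul] at this
    exact cjm this (conj_mem_cj y hu')
  obtain ⟨w, hw, e⟩ := mem_cj' h1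
  have hw' := cjm (hk g hg) hu'
  have hc := h.f1.comm y hyS u' (h'.UV hu')
  have hc' := h.f1.comm y hyS w (h'.UV hw)
  have uu := h.f1.ea u' (h'.UV hu')
  have ww := h.f1.ea w (h'.UV hw)
  have e1 : k * (y * u' * y⁻¹ * u') * k⁻¹ = y * w * y⁻¹ * w * (w * (k * u' * k⁻¹)) := by
    rw [← mul_assoc (y * w * y⁻¹ * w), mul_assoc _ w w, ww, mul_one, ← e]; group
  have e2 := hd _ ((mul_mem_cancel_left hc').1 (e1 ▸ cjm hkU hc)) (mul_mem hw hw')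
  rw [e2, mul_one] at e1
  rw [mul_eq_one_iff_inv_eq, inv_eq ww] at e2
  rw [e2, h.star hC hS hkU (h'.UV hu') hy] at e1
  refine h.mem_S hC hS hc (fun e3 => ?_) ?_
  · rw [mul_eq_one_iff_eq_inv, inv_eq uu, mul_inv_eq_iff_eq_mul] at e3
    exact hyU (h.inf ▸ ⟨h.c1 ▸ h.f1.fix y hyS u' (h'.UV hu') (fun e => h0 (hd u' e hu')) e3, hy⟩)
  · calc k * k * (y * u' * y⁻¹ * u') * (k * k)⁻¹ = k * (k * (y * u' * y⁻¹ * u') * k⁻¹) * k⁻¹ := by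
          group
      _ = _ := by rw [e1]; group

theorem card_S (h : Am m V1 V2 S U) (hC : CIT G) : Nat.card S = m * m * m := by
  obtain ⟨w, hw, h1⟩ := h.f1.exists_w
  obtain ⟨I, hI, e⟩ := exists_im' (h.f1.ea w hw) (fun a ha => h.f1.comm a ha w hw) h.f1.cen
    fun u hu => h.f1.ea u (h.f1.UV hu)
  have e1 : I = U := by
    ext u
    rw [hI]
    exact ⟨fun ⟨a, ha, e⟩ => e ▸ h.f1.comm a ha w hw, h.f1.tr w hw h1 u⟩
  have e2 : S ⊓ Ce w = V1 := le_antisymm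
    (fun a ha => h.c1 ▸ h.f1.fix a ha.1 w hw h1 (mem_cent.1 ha.2))
    fun a ha => ⟨h.le1 hC ha, mem_cent.2 (ea_comm h.f1.ea ha hw)⟩
  rw [e, e1, e2, h.f1.cardV, h.f1.cardU]

theorem card_N (h : Am m V1 V2 S U) (hC : CIT G) (hS : IsSylowIn 2 S ⊤) :
    Nat.card (N V1) = m * m * m * (m * m - 1) ∧ Nat.card (N U) = m * m * m * (m - 1) := by
  obtain ⟨u, hu, h1⟩ := h.f1.exists_u
  have e := h.Ce_eq hC hS hu h1
  constructor
  · rw [card_orbit (N V1) u, e, inf_eq_right.2 h.f1.AN, h.card_S hC, ← h.f1.cardV, ← ncard_sharp]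
    congr 2
    ext w
    exact ⟨fun ⟨g, hg, e⟩ => e ▸ ⟨cjm hg (h.f1.UV hu), conj_ne_one h1⟩,
      fun hw => h.f1.trans hC (h.f1.UV hu) h1 hw.1 hw.2⟩
  · rw [card_orbit (N U) u, e, inf_eq_right.2 fun s hs => C_le_N U (mem_C.2 (h.f1.cen s hs)),
      h.card_S hC]
    conv_rhs => rw [← h.f1.cardU, ← ncard_sharp, h.f1.cardU]
    congr 2
    ext w
    exact ⟨fun ⟨g, hg, e⟩ => e ▸ ⟨cjm hg hu, conj_ne_one h1⟩, fun hw => h.transU hC hu h1 hw.1 hw.2⟩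

end Am

end Cfsg.Agent.H2.CI
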