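import Cfsg.Agent.H2.D21
import Cfsg.Agent.H1.M21

/-! A simple group of order 20160 acting faithfully on a projective plane of order four. -/

set_option autoImplicit false

namespace Cfsg.Agent.H2.L34

open Cfsg Chk
open scoped Pointwise

variable {α : Type*} [Fintype α] [DecidableEq α]

theorem card_aut_21 {B : Set (Finset α)} (hα : Fintype.card α = 21) (hB : IsSteinerSystem 2 5 B) :
    Nat.card (setSystemAut B) = 120960 := by
  rw [D21.strong.card_aut (by norm_num) D21.card_stab hα hB]
  norm_num [Nat.descFactorial]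

/-- the derived design at a set of points -/
def der (B : Set (Finset α)) (T : Finset α) : Set (Finset {x // x ∉ T}) :=
  {b | T ∪ b.map (Function.Embedding.subtype _) ∈ B}

omit [Fintype α] in
theorem card_union_map (T : Finset α) (b : Finset {x // x ∉ T}) :
    (T ∪ b.map (Function.Embedding.subtype _)).card = T.card + b.card := by
  rw [Finset.card_union_of_disjoint, Finset.card_map]
  rw [Finset.disjoint_right]
  intro x hx
  obtain ⟨y, -, rfl⟩ := Finset.mem_map.1 hx
  exact y.2

omit [Fintype α] in
theorem der_steiner {B : Set (Finset α)} {T : Finset α} {t k : ℕ}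
    (hB : IsSteinerSystem (T.card + t) (T.card + k) B) : IsSteinerSystem t k (der B T) := by
  constructor
  · intro b hb
    have := hB.1 _ hb
    rw [card_union_map] at this
    omega
  · intro s hs
    obtain ⟨c, ⟨hc, hsc⟩, hu⟩ := hB.2 (T ∪ s.map (Function.Embedding.subtype _))
      (by rw [card_union_map, hs])
    have e : T ∪ (c.subtype (fun x => x ∉ T)).map (Function.Embedding.subtype _) = c := by
      ext x
      simp only [Finset.mem_union, Finset.mem_map, Finset.mem_subtype,
        Function.Embedding.coe_subtype, Subtype.exists, exists_and_right, exists_eq_right]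
      constructor
      · rintro (h | ⟨-, h⟩)
        · exact hsc (Finset.mem_union_left _ h)
        · exact h
      · intro h
        by_cases hx : x ∈ T
        · exact Or.inl hx
        · exact Or.inr ⟨hx, h⟩
    refine ⟨c.subtype _, ⟨by change _ ∈ B; rw [e]; exact hc, fun x hx => ?_⟩, ?_⟩
    · rw [Finset.mem_subtype]
      exact hsc (Finset.mem_union_right _ (Finset.mem_map_of_mem _ hx))
    · rintro b ⟨hb, hsb⟩
      have := hu _ ⟨hb, Finset.union_subset_union_right (Finset.map_subset_map.2 hsb)⟩
      ext x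
      rw [Finset.mem_subtype, ← this]
      simp only [Finset.mem_union, Finset.mem_map, Function.Embedding.coe_subtype]
      constructor
      · intro h; exact Or.inr ⟨x, h, rfl⟩
      · rintro (h | ⟨y, h, e⟩)
        · exact absurd h x.2
        · rwa [← Subtype.ext e]

omit [Fintype α] [DecidableEq α] in
theorem not_mem_iff {T : Finset α} {g : Equiv.Perm α} (hg : ∀ x ∈ T, g x = x) (x : α) :
    g x ∉ T ↔ x ∉ T := by
  constructor
  · intro h hx; rw [hg x hx] at h; exact h hx
  · intro h hx
    have := hg _ hx
    rw [g.injective this] at hx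
    exact h hx

theorem res_mem {B : Set (Finset α)} {T : Finset α} {g : Equiv.Perm α} (hg : ∀ x ∈ T, g x = x)
    (hB : g ∈ setSystemAut B) : g.subtypePerm (not_mem_iff hg) ∈ setSystemAut (der B T) := by
  rw [mem_aut_iff] at hB ⊢
  apply Set.eq_of_subset_of_ncard_le
  · rintro _ ⟨b, hb, rfl⟩
    have h1 : g • (T ∪ b.map (Function.Embedding.subtype _)) ∈ B := by
      rw [← hB]; exact Set.smul_mem_smul_set hb
    change _ ∈ B
    convert h1 using 1
    ext x
    simp only [Finset.mem_union, Finset.mem_map, Function.Embedding.coe_subtype,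
      Finset.mem_smul_finset, Equiv.Perm.smul_def]
    constructor
    · rintro (h | ⟨_, ⟨y, hy, rfl⟩, rfl⟩)
      · exact ⟨x, Or.inl h, hg x h⟩
      · exact ⟨y, Or.inr ⟨y, hy, rfl⟩, rfl⟩
    · rintro ⟨y, h | ⟨z, hz, rfl⟩, rfl⟩
      · left; rwa [hg y h]
      · exact Or.inr ⟨_, ⟨z, hz, rfl⟩, rfl⟩
  · rw [Set.ncard_smul_set]
  · exact Set.toFinite _

/-- the three points -/
def T3 : Finset GolayPt := {H1.pt 2, H1.pt 1, H1.pt 0}

theorem card_T3 : T3.card = 3 := by decide

theorem fix_T3 (g : H1.fixL M24 ([2, 1, 0].map H1.pt)) : ∀ x ∈ T3, g.1 x = x := by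
  intro x hx
  refine g.2.2 x ?_
  simpa [T3] using hx

/-- restriction to the remaining points -/
def res : H1.fixL M24 ([2, 1, 0].map H1.pt) →* setSystemAut (der octads T3) where
  toFun g := ⟨g.1.subtypePerm (not_mem_iff (fix_T3 g)),
    res_mem (fix_T3 g) (H1.M24_eq_octad_aut ▸ g.2.1)⟩
  map_one' := by ext x; rfl
  map_mul' a b := by ext x; rfl

theorem res_injective : Function.Injective res := by
  rw [injective_iff_map_eq_one]
  intro g hg
  refine Subtype.ext (Equiv.ext fun x => ?_)
  by_cases hx : x ∈ T3
  · rw [fix_T3 g x hx]; rfl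
  · exact congrArg (fun σ : setSystemAut (der octads T3) => (σ.1 ⟨x, hx⟩ : GolayPt)) hg

theorem card_pts : Fintype.card {x // x ∉ T3} = 21 := by decide

theorem le_of_small_index {G A : Type*} [Group G] [Group A] [Finite G] [Finite A]
    [IsSimpleGroup G] (φ : G →* A) (M : Subgroup A) (h : M.index.factorial < Nat.card G) :
    φ.range ≤ M := by
  let ψ : G →* Equiv.Perm (A ⧸ M) := (MulAction.toPermHom A (A ⧸ M)).comp φ
  rcases (MonoidHom.normal_ker ψ).eq_bot_or_eq_top with h1 | h1
  · have h2 := Nat.card_le_card_of_injective ψ ((MonoidHom.ker_eq_bot_iff ψ).1 h1)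
    rw [Nat.card_perm] at h2
    exact absurd h (not_lt.2 h2)
  · rintro _ ⟨g, rfl⟩
    have h2 : g ∈ ψ.ker := h1 ▸ Subgroup.mem_top g
    have h3 : φ g • ((1 : A) : A ⧸ M) = ((1 : A) : A ⧸ M) :=
      congrArg (fun σ : Equiv.Perm (A ⧸ M) => σ ((1 : A) : A ⧸ M)) h2
    rw [MulAction.Quotient.smul_coe, QuotientGroup.eq] at h3
    simpa using h3

theorem psl34_of_plane {G : Type*} [Group G] [Finite G] [IsSimpleGroup G]
    (hG : Nat.card G = 20160) {B : Set (Finset α)} (hα : Fintype.card α = 21)
    (hB : IsSteinerSystem 2 5 B) (φ : G →* setSystemAut B) (hφ : Function.Injective φ) :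
    Nonempty (G ≃* Matrix.ProjectiveSpecialLinearGroup (Fin 3) H1.F4) := by
  have hD : IsSteinerSystem 2 5 (der octads T3) :=
    der_steiner (by rw [card_T3]; exact H1.octads_steiner)
  obtain ⟨e1, he1⟩ := D21.strong.exists_equiv' hα hB
  obtain ⟨e2, he2⟩ := D21.strong.exists_equiv' card_pts hD
  let ψ : G →* setSystemAut (der octads T3) :=
    ((autEquiv he1).trans (autEquiv he2).symm).toMonoidHom.comp φ
  have hψ : Function.Injective ψ := ((autEquiv he1).trans (autEquiv he2).symm).injective.comp hφ
  have hc : Nat.card res.range = 20160 := by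
    rw [← H1.card_fix3]
    exact (Nat.card_congr (MonoidHom.ofInjective res_injective).toEquiv).symm
  have hi : res.range.index = 6 := by
    have := res.range.card_mul_index
    rw [hc, card_aut_21 card_pts hD] at this
    omega
  have hle := le_of_small_index ψ res.range (by rw [hi, hG]; decide)
  have heq : ψ.range = res.range := by
    apply Subgroup.eq_of_le_of_card_ge hle
    rw [hc, ← hG]
    exact (Nat.card_congr (MonoidHom.ofInjective hψ).toEquiv).le
  obtain ⟨e⟩ := H1.M21.nonempty_equiv_F4
  exact ⟨(MonoidHom.ofInjective hψ).trans ((MulEquiv.subgroupCongr heq).trans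
    ((MonoidHom.ofInjective res_injective).symm.trans e))⟩

end Cfsg.Agent.H2.L34
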