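/-
Groups in which centralizers of involutions are 2-groups: the projective plane of order four.
-/
import Cfsg.Agent.H2.CIT6
import Cfsg.Agent.H2.L34Id

set_option autoImplicit false
set_option linter.unusedSectionVars false

namespace Cfsg.Agent.H2.CI

open Subgroup Cfsg.Agent.L0 Cfsg.Agent.H8 Cfsg.Agent.H8.SF Cfsg.Agent.H8.Dich Cfsg.Agent.H2.SC
open scoped commutatorElement

universe u

variable {G : Type u} [Group G] [Finite G]

/-- conjugates -/
def Pt (V X : Subgroup G) : Prop := ∃ g, X = cj g V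

/-- flags -/
def Fl (V1 V2 X Y : Subgroup G) : Prop := ∃ g, X = cj g V1 ∧ Y = cj g V2

theorem Fl.symm {V1 V2 X Y : Subgroup G} (h : Fl V1 V2 X Y) : Fl V2 V1 Y X :=
  let ⟨g, h⟩ := h; ⟨g, h.symm⟩

theorem Fl.pt {V1 V2 X Y : Subgroup G} (h : Fl V1 V2 X Y) : Pt V1 X := let ⟨g, h⟩ := h; ⟨g, h.1⟩

theorem Fl.conj {V1 V2 X Y : Subgroup G} (h : Fl V1 V2 X Y) (k : G) :
    Fl V1 V2 (cj k X) (cj k Y) := by
  obtain ⟨g, rfl, rfl⟩ := h
  exact ⟨k * g, (cj_mul _ _ _).symm, (cj_mul _ _ _).symm⟩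

theorem Pt.conj {V X : Subgroup G} (h : Pt V X) (k : G) : Pt V (cj k X) := by
  obtain ⟨g, rfl⟩ := h
  exact ⟨k * g, (cj_mul _ _ _).symm⟩

theorem syl_cj {S : Subgroup G} (hS : IsSylowIn 2 S ⊤) (g : G) : IsSylowIn 2 (cj g S) ⊤ := by
  simpa only [cj_top] using hS.cj g

open scoped Pointwise in
theorem mem_aut_of_sub {α : Type*} [Fintype α] [DecidableEq α] {B : Set (Finset α)}
    {g : Equiv.Perm α} (h : ∀ b ∈ B, g • b ∈ B) : g ∈ setSystemAut B := by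
  rw [mem_aut_iff]
  apply Set.eq_of_subset_of_ncard_le
  · rintro _ ⟨b, hb, rfl⟩; exact h b hb
  · rw [Set.ncard_smul_set]
  · exact Set.toFinite _

namespace Am

variable {m : ℕ} {V1 V2 S U : Subgroup G}

theorem not_cj (h : Am m V1 V2 S U) (hC : CIT G) (hS : IsSylowIn 2 S ⊤) (g : G) :
    cj g V1 ≠ V2 := fun e => by
  have h1 := h.f1.syl.cj g
  rw [cj_N, e] at h1
  obtain ⟨k, hk, e1⟩ := h1.exists_cj_eq h.f2.syl
  rw [← cj_mul] at e1
  have e2 : cj (k * g) V1 = V2 := by rw [cj_mul, e, cj_eq_self hk]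
  rcases (h.symm hC).cj_or hC (g := k * g) (e1 ▸ cj_mono _ (h.le2 hC)) with e3 | e3
  · exact h.ne (cj_injective _ (e2.trans e3.symm))
  · have : cj (k * g) U = U := by rw [← h.inf, cj_inf, e2, e3, inf_comm]
    exact h.ne ((cj_eq_self (h.f1.N_le hC hS (cj_eq_self_iff.1 this))).symm.trans e2)

theorem eq_of_le (h : Am m V1 V2 S U) (hC : CIT G) (hS : IsSylowIn 2 S ⊤) {k : G} {X : Subgroup G}
    (hX : Pt V1 X) (hle : X ≤ cj k S) : X = cj k V1 := by
  obtain ⟨g, rfl⟩ := hX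
  have h1 : cj (k⁻¹ * g) V1 ≤ S := by rw [cj_mul, cj_le_iff, inv_inv]; exact hle
  have := (h.cj_or hC h1).resolve_right (h.not_cj hC hS _)
  conv_rhs => rw [← this, ← cj_mul, mul_inv_cancel_left]

theorem pt_ea (h : Am m V1 V2 S U) {X : Subgroup G} (hX : Pt V1 X) : ∀ v ∈ X, v * v = 1 := by
  obtain ⟨g, rfl⟩ := hX; exact ea_cj h.f1.ea g

theorem pt_card (h : Am m V1 V2 S U) {X : Subgroup G} (hX : Pt V1 X) : Nat.card X = m * m := by
  obtain ⟨g, rfl⟩ := hX; rw [card_cj, h.f1.cardV]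

theorem syl_N (h : Am m V1 V2 S U) {X P : Subgroup G} (hX : Pt V1 X) (hP : IsPGroup 2 P)
    (hle : P ≤ N X) : ∃ g, X = cj g V1 ∧ P ≤ cj g S := by
  obtain ⟨g, rfl⟩ := hX
  obtain ⟨T, hT, h1⟩ := exists_isSylowIn_ge hP hle
  obtain ⟨k, hk, e⟩ := (h.f1.conj g).syl.exists_cj_eq hT
  exact ⟨k * g, by rw [cj_mul, cj_eq_self hk], by rw [cj_mul, e]; exact h1⟩

theorem pt_N (h : Am m V1 V2 S U) (hC : CIT G) (hS : IsSylowIn 2 S ⊤) {X X' : Subgroup G}
    (hX : Pt V1 X) (hX' : Pt V1 X') (hle : X ≤ N X') : X = X' := by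
  obtain ⟨g, rfl, h1⟩ := h.syl_N hX' (ea_pgroup (h.pt_ea hX)) hle
  exact h.eq_of_le hC hS hX h1

theorem exists_U (h : Am m V1 V2 S U) (hC : CIT G) (hS : IsSylowIn 2 S ⊤) {X : Subgroup G}
    (hX : Pt V1 X) {u : G} (hu : u ∈ X) (h1 : u ≠ 1) :
    ∃ g, X = cj g V1 ∧ u ∈ cj g U ∧ Ce u = cj g S := by
  obtain ⟨g, rfl⟩ := hX
  obtain ⟨v, hv, h2⟩ := (h.conj g).f1.exists_u
  obtain ⟨k, hk, rfl⟩ := (h.conj g).f1.trans hC ((h.conj g).f1.UV hv) h2 hu h1
  refine ⟨k * g, by rw [cj_mul, cj_eq_self hk], by rw [cj_mul]; exact conj_mem_cj k hv, ?_⟩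
  rw [← cj_Ce, (h.conj g).Ce_eq hC (syl_cj hS g) hv h2, cj_mul]

theorem pt_ti (h : Am m V1 V2 S U) (hC : CIT G) (hS : IsSylowIn 2 S ⊤) {X X' : Subgroup G}
    (hX : Pt V1 X) (hX' : Pt V1 X') {u : G} (hu : u ∈ X) (hu' : u ∈ X') (h1 : u ≠ 1) : X = X' := by
  obtain ⟨g, rfl, -, e⟩ := h.exists_U hC hS hX' hu' h1
  exact h.eq_of_le hC hS hX (e ▸ fun x hx => mem_cent.2 (ea_comm (h.pt_ea hX) hx hu))

theorem fl_of (h : Am m V1 V2 S U) (hC : CIT G) (hS : IsSylowIn 2 S ⊤) {X Y : Subgroup G}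
    (hX : Pt V1 X) (hY : Pt V2 Y) {u : G} (hu : u ∈ X) (hu' : u ∈ Y) (h1 : u ≠ 1) :
    Fl V1 V2 X Y := by
  obtain ⟨g, rfl, -, e⟩ := h.exists_U hC hS hX hu h1
  exact ⟨g, rfl, (h.symm hC).eq_of_le hC hS hY
    (e ▸ fun x hx => mem_cent.2 (ea_comm ((h.symm hC).pt_ea hY) hx hu'))⟩

theorem inv_N (h : Am m V1 V2 S U) (hC : CIT G) (hS : IsSylowIn 2 S ⊤) {X : Subgroup G}
    (hX : Pt V1 X) {u : G} (hu : u ∈ N X) (h2 : u * u = 1) (h1 : u ≠ 1) :
    ∃ Y, Fl V1 V2 X Y ∧ u ∈ Y := by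
  obtain ⟨g, rfl, h3⟩ := h.syl_N hX (H9.isPGroup_zpowers (p := 2) ⟨1, by rw [pow_one, sq, h2]⟩)
    (zpowers_le.2 hu)
  rcases (h.conj g).inv_mem_or hC (h3 (mem_zpowers u)) h2 with h4 | h4
  · obtain ⟨k, e, h5, -⟩ := h.exists_U hC hS hX h4 h1
    exact ⟨_, ⟨k, e, rfl⟩, cj_mono k h.f2.UV h5⟩
  · exact ⟨_, ⟨g, rfl, rfl⟩, h4⟩

theorem fl_N (h : Am m V1 V2 S U) (hC : CIT G) {X Y : Subgroup G} (hf : Fl V1 V2 X Y) :
    Y ≤ N X ∧ Nat.card ↥(X ⊓ Y) = m := by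
  obtain ⟨g, rfl, rfl⟩ := hf
  exact ⟨((h.conj g).le2 hC).trans (h.conj g).f1.AN, by rw [(h.conj g).inf, (h.conj g).f1.cardU]⟩

theorem uniq (h : Am m V1 V2 S U) (hC : CIT G) (hS : IsSylowIn 2 S ⊤) {X X' Y Y' : Subgroup G}
    (h1 : Fl V1 V2 X Y) (h2 : Fl V1 V2 X' Y) (h3 : Fl V1 V2 X Y') (h4 : Fl V1 V2 X' Y')
    (hne : X ≠ X') : Y = Y' := by
  by_contra hn
  refine hne (h.pt_N hC hS h1.pt h2.pt ?_)
  have e : (X ⊓ Y) ⊔ (X ⊓ Y') = X := by
    refine eq_of_le_of_card_ge (sup_le inf_le_left inf_le_left) ?_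
    have := H9.card_mul_card_le_of_disjoint (A := X ⊓ Y) (B := X ⊓ Y') le_sup_left le_sup_right
      (eq_bot_iff.2 fun u hu => by
        by_contra hu1
        exact hn ((h.symm hC).pt_ti hC hS h1.symm.pt h3.symm.pt hu.1.2 hu.2.2 hu1))
    rwa [(h.fl_N hC h1).2, (h.fl_N hC h3).2, ← h.pt_card h1.pt] at this
  rw [← e]
  exact sup_le (inf_le_right.trans (h.fl_N hC h2).1) (inf_le_right.trans (h.fl_N hC h4).1)

theorem no15 (h : Am 4 V1 V2 S U) (hC : CIT G) (hS : IsSylowIn 2 S ⊤) {D : Subgroup G}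
    (hD : D ≤ N V1) (hc : Nat.card D = 15) (hab : ∀ a ∈ D, ∀ b ∈ D, a * b = b * a) : False := by
  haveI : Fact (Nat.Prime 3) := ⟨Nat.prime_three⟩
  obtain ⟨c1, c2⟩ := h.card_N hC hS
  obtain ⟨k, hk⟩ := exists_prime_orderOf_dvd_card' (G := D) 3 (by rw [hc]; norm_num)
  obtain ⟨k0, hk0⟩ := exists_prime_orderOf_dvd_card' (G := N U) 3 (by rw [c2]; norm_num)
  rw [← orderOf_coe] at hk hk0
  have syl : ∀ x ∈ N V1, orderOf x = 3 → IsSylowIn 3 (zpowers x) (N V1) := fun x hx ho =>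
    IsSylowIn.of_not_dvd_relIndex (zpowers_le.2 hx)
      (H9.isPGroup_zpowers ⟨1, by rw [pow_one, ← ho, pow_orderOf_eq_one]⟩) (by
        have := H9.card_mul_relIndex (zpowers_le.2 hx)
        rw [Nat.card_zpowers, ho, c1] at this
        omega)
  obtain ⟨a, ha, e⟩ := (syl _ (h.f1.N_le hC hS k0.2) hk0).exists_cj_eq (syl _ (hD k.2) hk)
  have h1 : (k : G) ∈ N (cj a U) := by
    rw [← cj_N]
    exact cj_mono a (zpowers_le.2 k0.2) (e ▸ mem_zpowers _)
  have h2 := h.all_fix hC hS (k := k) fun g hg => by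
    obtain ⟨u, hu, hu1⟩ := (h.f1.conjN ha).exists_u
    obtain ⟨v, hv, hv1⟩ := (h.f1.conjN hg).exists_u
    have huV := (h.f1.conjN ha).UV hu
    have c3 := card_orbit D u
    have h3 : D ⊓ Ce u = ⊥ := by
      obtain ⟨j, hj⟩ := ((hC u (h.f1.ea u huV) hu1).to_inf_right (H := D)).exists_card_eq
      have h4 := card_dvd_of_le (inf_le_left : D ⊓ Ce u ≤ D)
      rw [hj, hc] at h4
      rw [← card_eq_one, hj]
      cases j with
      | zero => rfl
      | succ j => exact absurd ((Dvd.intro_left _ (pow_succ 2 j).symm).trans h4) (by norm_num)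
    rw [h3, card_bot, one_mul, hc] at c3
    have h4 : {w | ∃ g ∈ D, g * u * g⁻¹ = w} = (V1 : Set G) \ {1} :=
      Set.eq_of_subset_of_ncard_le (by
        rintro _ ⟨d, hd, rfl⟩
        exact ⟨cjm (hD hd) huV, conj_ne_one hu1⟩) (by rw [ncard_sharp, h.f1.cardV, ← c3])
    obtain ⟨d, hd, rfl⟩ : v ∈ {w | ∃ g ∈ D, g * u * g⁻¹ = w} :=
      h4 ▸ ⟨(h.f1.conjN hg).UV hv, hv1⟩
    rw [← ((h.f1.conjN ha).conjN (hD hd)).ti hC (h.f1.conjN hg).toOff (conj_mem_cj d hu) hv hv1,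
      ← cj_eq_self_iff, ← cj_mul, hab k k.2 d hd, cj_mul, cj_eq_self h1]
  obtain ⟨j, hj⟩ := H9.exists_pow_eq_one_of_mem hS.pgroup h2
  rw [← sq, ← pow_mul, ← orderOf_dvd_iff_pow_eq_one, hk, ← pow_succ'] at hj
  exact absurd (Nat.prime_three.dvd_of_dvd_pow hj) (by norm_num)

theorem collinear (h : Am 4 V1 V2 S U) (hC : CIT G) (hS : IsSylowIn 2 S ⊤) {X : Subgroup G}
    (hX : Pt V1 X) : ∃ Y, Fl V1 V2 V1 Y ∧ Fl V1 V2 X Y := by
  classical
  haveI := Fintype.ofFinite G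
  haveI := Fintype.ofFinite (Subgroup G)
  have h' := h.symm hC
  have p0 : Pt V1 V1 := ⟨1, (cj_one _).symm⟩
  let Nn : Finset (Subgroup G) :=
    Finset.univ.filter fun X => Pt V1 X ∧ ¬ ∃ Y, Fl V1 V2 V1 Y ∧ Fl V1 V2 X Y
  let J : Finset G := Finset.univ.filter fun t => t ≠ 1 ∧ ∃ X ∈ Nn, t ∈ X
  have c1 : Nn.card * 15 ≤ J.card * 1 := Finset.card_mul_le_card_mul (fun X t => t ∈ X)
    (fun X hX => by
      have : ((X : Set G) \ {1}).ncard = 15 := by
        rw [ncard_sharp, h.pt_card (Finset.mem_filter.1 hX).2.1]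
      rw [← this, ← Set.ncard_coe_finset]
      refine Set.ncard_le_ncard fun t ht => ?_
      simp only [Finset.coe_bipartiteAbove, J, Finset.mem_filter, Finset.mem_univ, true_and]
      exact ⟨⟨ht.2, X, hX, ht.1⟩, ht.1⟩)
    fun t ht => Finset.card_le_one.2 fun X hX X' hX' => by
      rw [Finset.mem_bipartiteBelow] at hX hX'
      exact h.pt_ti hC hS (Finset.mem_filter.1 hX.1).2.1 (Finset.mem_filter.1 hX'.1).2.1 hX.2 hX'.2
        (Finset.mem_filter.1 ht).2.1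
  have hJ : ∀ t ∈ J, t * t = 1 := fun t ht => by
    obtain ⟨-, X, hX, h1⟩ := (Finset.mem_filter.1 ht).2
    exact h.pt_ea (Finset.mem_filter.1 hX).2.1 t h1
  have c2 : J.card * 1 ≤ Nn.card * 14 := Finset.card_mul_le_card_mul (fun t X => cj t V1 = X)
    (fun t ht => Finset.card_pos.2 ⟨cj t V1, by
      rw [Finset.mem_bipartiteAbove]
      refine ⟨Finset.mem_filter.2 ⟨Finset.mem_univ _, p0.conj t, ?_⟩, rfl⟩
      rintro ⟨Y, h1, h2⟩
      obtain ⟨ht1, X, hX, htX⟩ := (Finset.mem_filter.1 ht).2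
      obtain ⟨hX1, hX2⟩ := (Finset.mem_filter.1 hX).2
      by_cases e : cj t V1 = V1
      · obtain ⟨Y', h3, h4⟩ := h.inv_N hC hS p0 (cj_eq_self_iff.1 e) (hJ t ht) ht1
        exact hX2 ⟨Y', h3, h.fl_of hC hS hX1 h3.symm.pt htX h4 ht1⟩
      · have h3 := h2.conj t
        rw [← cj_mul, hJ t ht, cj_one] at h3
        have h4 := h.uniq hC hS h2 h1 (h1.conj t) h3 e
        obtain ⟨X', h5, h6⟩ := h'.inv_N hC hS h1.symm.pt (cj_eq_self_iff.1 h4.symm) (hJ t ht) ht1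
        exact hX2 ⟨Y, h1, h.pt_ti hC hS h5.symm.pt hX1 h6 htX ht1 ▸ h5.symm⟩⟩)
    fun X hX => by
      by_contra hn
      obtain ⟨hX1, hX2⟩ := (Finset.mem_filter.1 hX).2
      set I := J.bipartiteBelow (fun t X => cj t V1 = X) X with hI
      have hI' : ∀ t ∈ I, t * t = 1 ∧ cj t V1 = X ∧ cj t X = V1 := fun t ht => by
        rw [hI, Finset.mem_bipartiteBelow] at ht
        exact ⟨hJ t ht.1, ht.2, by rw [← ht.2, ← cj_mul, hJ t ht.1, cj_one]⟩
      obtain ⟨t0, ht0⟩ : I.Nonempty := Finset.card_pos.1 (by omega)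
      have hodd : ¬ 2 ∣ Nat.card ↥(N V1 ⊓ N X) := fun hd => by
        obtain ⟨u, hu⟩ := exists_prime_orderOf_dvd_card' (G := ↥(N V1 ⊓ N X)) 2 hd
        rw [← orderOf_coe] at hu
        have h2 := H4.mul_self_of_orderOf_two hu
        have h1 := H4.ne_one_of_orderOf_two hu
        obtain ⟨Y, h3, h4⟩ := h.inv_N hC hS p0 u.2.1 h2 h1
        obtain ⟨Y', h5, h6⟩ := h.inv_N hC hS hX1 u.2.2 h2 h1
        exact hX2 ⟨Y, h3, h'.pt_ti hC hS h5.symm.pt h3.symm.pt h6 h4 h1 ▸ h5⟩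
      have hd := card_dvd_of_le (inf_le_left : N V1 ⊓ N X ≤ N V1)
      rw [(h.card_N hC hS).1] at hd
      have hd' : Nat.card ↥(N V1 ⊓ N X) ∣ 15 :=
        (Nat.Coprime.pow_right 6 ((Nat.Prime.coprime_iff_not_dvd Nat.prime_two).2 hodd).symm).dvd_of_dvd_mul_left hd
      have hsub : (fun t => t0 * t) '' (I : Set G) ⊆ (N V1 ⊓ N X : Subgroup G) := by
        rintro _ ⟨t, ht, rfl⟩
        exact ⟨cj_eq_self_iff.1 (by rw [cj_mul, (hI' t ht).2.1, (hI' t0 ht0).2.2]),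
          cj_eq_self_iff.1 (by rw [cj_mul, (hI' t ht).2.2, (hI' t0 ht0).2.1])⟩
      have c3 : ((fun t => t0 * t) '' (I : Set G)).ncard = I.card := by
        rw [Set.ncard_image_of_injective _ (mul_right_injective t0), Set.ncard_coe_finset]
      have c4 : ((N V1 ⊓ N X : Subgroup G) : Set G).ncard = Nat.card ↥(N V1 ⊓ N X) := rfl
      have c5 := Set.ncard_le_ncard hsub
      have c6 := Nat.le_of_dvd (by norm_num) hd'
      have e := Set.eq_of_subset_of_ncard_le hsub (by omega)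
      have hinv : ∀ d ∈ N V1 ⊓ N X, t0 * d * t0 = d⁻¹ := fun d hd => by
        obtain ⟨t, ht, rfl⟩ : d ∈ (fun t => t0 * t) '' (I : Set G) := e ▸ hd
        dsimp only
        rw [← mul_assoc, (hI' t0 ht0).1, one_mul, mul_inv_rev, inv_eq (hI' t ht).1,
          inv_eq (hI' t0 ht0).1]
      refine h.no15 hC hS (D := N V1 ⊓ N X) inf_le_left (by omega) fun a ha b hb => ?_
      have e1 := hinv _ (mul_mem ha hb)
      have e2 : t0 * (a * b) * t0 = (t0 * a * t0) * (t0 * b * t0) := by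
        calc t0 * (a * b) * t0 = t0 * a * (t0 * t0) * b * t0 := by rw [(hI' t0 ht0).1]; group
          _ = _ := by group
      rw [e2, hinv a ha, hinv b hb, ← mul_inv_rev] at e1
      exact (inv_injective e1).symm
  by_contra hn
  have : 0 < Nn.card := Finset.card_pos.2 ⟨X, Finset.mem_filter.2 ⟨Finset.mem_univ _, hX, hn⟩⟩
  omega

open Classical in
theorem five (h : Am 4 V1 V2 S U) (hC : CIT G) (hS : IsSylowIn 2 S ⊤) [Fintype (Subgroup G)]
    {Y : Subgroup G} (hY : Pt V2 Y) : (Finset.univ.filter fun X => Fl V1 V2 X Y).card = 5 := by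
  haveI := Fintype.ofFinite G
  have h' := h.symm hC
  have c0 : ∀ W : Subgroup G, (Finset.univ.filter fun t => t ∈ W ∧ t ≠ 1).card = Nat.card W - 1 :=
    fun W => by
      rw [← ncard_sharp, ← Set.ncard_coe_finset]
      congr 1; ext t; simp
  have c1 := Finset.card_mul_eq_card_mul (s := Finset.univ.filter fun X => Fl V1 V2 X Y)
    (t := Finset.univ.filter fun t => t ∈ Y ∧ t ≠ 1) (fun X t => t ∈ X) (m := 3) (n := 1)
    (fun X hX => by
      have := c0 (X ⊓ Y)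
      rw [(h.fl_N hC (Finset.mem_filter.1 hX).2).2] at this
      refine Eq.trans ?_ this
      congr 1; ext t
      simp only [Finset.mem_bipartiteAbove, Finset.mem_filter, Finset.mem_univ, true_and, mem_inf]
      tauto)
    fun t ht => by
      obtain ⟨ht1, ht2⟩ := (Finset.mem_filter.1 ht).2
      obtain ⟨X, h1, h2⟩ := h'.inv_N hC hS hY (le_normalizer ht1) (h'.pt_ea hY t ht1) ht2
      refine Finset.card_eq_one.2 ⟨X, Finset.eq_singleton_iff_unique_mem.2 ⟨?_, fun X' hX' => ?_⟩⟩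
      · exact Finset.mem_bipartiteBelow _ |>.2 ⟨Finset.mem_filter.2 ⟨Finset.mem_univ _, h1.symm⟩, h2⟩
      · rw [Finset.mem_bipartiteBelow] at hX'
        exact h.pt_ti hC hS (Finset.mem_filter.1 hX'.1).2.pt h1.symm.pt hX'.2 h2 ht2
  rw [c0, h'.pt_card hY] at c1
  omega

theorem collinear' (h : Am 4 V1 V2 S U) (hC : CIT G) (hS : IsSylowIn 2 S ⊤) {X X' : Subgroup G}
    (hX : Pt V1 X) (hX' : Pt V1 X') : ∃ Y, Fl V1 V2 X Y ∧ Fl V1 V2 X' Y := by
  obtain ⟨g, rfl⟩ := hX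
  obtain ⟨Y, h1, h2⟩ := h.collinear hC hS (hX'.conj g⁻¹)
  exact ⟨_, h1.conj g, by simpa only [cj_cj_inv] using h2.conj g⟩

/-- the action on the points -/
@[reducible] def act (V : Subgroup G) : MulAction G {X // Pt V X} where
  smul g x := ⟨cj g x.1, x.2.conj g⟩
  one_smul x := Subtype.ext (cj_one _)
  mul_smul g k x := Subtype.ext (cj_mul _ _ _)

theorem psl [IsSimpleGroup G] (h : Am 4 V1 V2 S U) (hC : CIT G) (hS : IsSylowIn 2 S ⊤) :
    Nonempty (G ≃* Matrix.ProjectiveSpecialLinearGroup (Fin 3) H1.F4) := by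
  classical
  haveI := Fintype.ofFinite (Subgroup G)
  have h' := h.symm hC
  letI := act V1
  have sm : ∀ (g : G) (x : {X // Pt V1 X}), (g • x).1 = cj g x.1 := fun _ _ => rfl
  let x0 : {X // Pt V1 X} := ⟨V1, 1, (cj_one _).symm⟩
  let blk : Subgroup G → Finset {X // Pt V1 X} := fun Y => Finset.univ.filter fun x => Fl V1 V2 x.1 Y
  have hblk : ∀ Y, Pt V2 Y → (blk Y).card = 5 := fun Y hY => by
    rw [← h.five hC hS hY]
    refine Finset.card_bij (fun x _ => x.1) (fun x hx => ?_) (fun _ _ _ _ e => Subtype.ext e)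
      fun X hX => ?_
    · simpa [blk] using hx
    · have := (Finset.mem_filter.1 hX).2
      exact ⟨⟨X, this.pt⟩, by simpa [blk] using this, rfl⟩
  let B : Set (Finset {X // Pt V1 X}) := {b | ∃ Y, Pt V2 Y ∧ b = blk Y}
  have hB : IsSteinerSystem 2 5 B := by
    refine ⟨by rintro _ ⟨Y, hY, rfl⟩; exact hblk Y hY, fun s hs => ?_⟩
    obtain ⟨x, y, hne, rfl⟩ := Finset.card_eq_two.1 hs
    obtain ⟨Y, h1, h2⟩ := h.collinear' hC hS x.2 y.2
    refine ⟨blk Y, ⟨⟨Y, h1.symm.pt, rfl⟩, ?_⟩, ?_⟩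
    · intro z hz
      simp only [Finset.mem_insert, Finset.mem_singleton] at hz
      rcases hz with rfl | rfl <;> simpa [blk]
    · rintro _ ⟨⟨Y', -, rfl⟩, hs⟩
      have h3 := (Finset.mem_filter.1 (hs (Finset.mem_insert_self x {y}))).2
      have h4 := (Finset.mem_filter.1 (hs (Finset.mem_insert_of_mem (Finset.mem_singleton_self y)))).2
      rw [h.uniq hC hS h3 h4 h1 h2 fun e => hne (Subtype.ext e)]
  have hα : Fintype.card {X // Pt V1 X} = 21 := by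
    have c1 := Finset.card_mul_eq_card_mul (s := Finset.univ.erase x0)
      (t := Finset.univ.filter fun Y => Fl V2 V1 Y V1) (fun x Y => Fl V1 V2 x.1 Y) (m := 1) (n := 4)
      (fun x hx => by
        obtain ⟨Y, h1, h2⟩ := h.collinear hC hS x.2
        refine Finset.card_eq_one.2 ⟨Y, Finset.eq_singleton_iff_unique_mem.2 ⟨?_, fun Y' hY' => ?_⟩⟩
        · exact Finset.mem_bipartiteAbove _ |>.2 ⟨Finset.mem_filter.2 ⟨Finset.mem_univ _, h1.symm⟩, h2⟩
        · rw [Finset.mem_bipartiteAbove] at hY'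
          exact h.uniq hC hS hY'.2 (Finset.mem_filter.1 hY'.1).2.symm h2 h1
            fun e => (Finset.mem_erase.1 hx).1 (Subtype.ext e))
      fun Y hY => by
        have h1 := (Finset.mem_filter.1 hY).2
        have : (Finset.univ.erase x0).bipartiteBelow (fun x Y => Fl V1 V2 x.1 Y) Y =
            (blk Y).erase x0 := by
          ext x; simp [blk, Finset.mem_bipartiteBelow]
        rw [this, Finset.card_erase_of_mem (by simpa [blk] using h1.symm), hblk Y h1.pt]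
    rw [h'.five hC hS x0.2, Finset.card_erase_of_mem (Finset.mem_univ _), Finset.card_univ] at c1
    omega
  haveI : MulAction.IsPretransitive G {X // Pt V1 X} := ⟨by
    rintro ⟨_, g, rfl⟩ ⟨_, k, rfl⟩
    exact ⟨k * g⁻¹, Subtype.ext (by rw [sm, cj_mul, cj_inv_cj])⟩⟩
  have hst : MulAction.stabilizer G x0 = N V1 := by
    ext g
    rw [MulAction.mem_stabilizer_iff, ← cj_eq_self_iff, Subtype.ext_iff, sm]
  have hi : (N V1).index = 21 := by
    rw [← hst, MulAction.index_stabilizer_of_transitive, Nat.card_eq_fintype_card, hα]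
  have hG : Nat.card G = 20160 := by
    rw [← (N V1).card_mul_index, hi, (h.card_N hC hS).1]
  let φ : G →* setSystemAut B := (MulAction.toPermHom G {X // Pt V1 X}).codRestrict _ fun g => by
    refine mem_aut_of_sub ?_
    rintro _ ⟨Y, hY, rfl⟩
    refine ⟨cj g Y, hY.conj g, ?_⟩
    ext x
    simp only [blk, Finset.mem_smul_finset, Finset.mem_filter, Finset.mem_univ, true_and]
    constructor
    · rintro ⟨y, hy, rfl⟩
      exact hy.conj g
    · intro hx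
      exact ⟨g⁻¹ • x, by simpa only [cj_inv_cj, sm] using hx.conj g⁻¹, smul_inv_smul g x⟩
  refine L34.psl34_of_plane hG hα hB φ ((MonoidHom.ker_eq_bot_iff φ).1 ?_)
  refine (MonoidHom.normal_ker φ).eq_bot_or_eq_top.resolve_right fun e => ?_
  have : N V1 = ⊤ := eq_top_iff.2 fun g _ => by
    have h1 : g ∈ φ.ker := e ▸ mem_top g
    rw [← hst]
    exact congrArg (fun σ : setSystemAut B => σ.1 x0) h1
  rw [this, index_top] at hi
  omega

end Am

theorem psl_of_cit [IsSimpleGroup G] (hG : ¬ IsMulCommutative G) (hC : CIT G) (hE : E8P G)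
    (hse : ∀ M : Subgroup G, ¬ IsStronglyEmbedded M) {S : Subgroup G} (hS : IsSylowIn 2 S ⊤)
    (hS1 : S ≠ ⊥) : Nonempty (G ≃* Matrix.ProjectiveSpecialLinearGroup (Fin 3) H1.F4) := by
  obtain ⟨m, V1, V2, h⟩ := exists_am hG hC hE hse hS hS1
  obtain rfl := h.four hC hE hS
  exact h.psl hC hS

end Cfsg.Agent.H2.CI
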