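/-
Simple groups of 2-rank two in which centralizers of involutions have normal 2-complements.
-/
import Cfsg.Agent.H2.CIT7
import Cfsg.Agent.S0984
import Cfsg.Agent.H2.SC2
import Cfsg.Agent.S3224
import Cfsg.Agent.H4.Scn3

set_option autoImplicit false
set_option linter.unusedSectionVars false

namespace Cfsg.Agent.H2.CI

open Subgroup Cfsg.Agent.L0 Cfsg.Agent.H8 Cfsg.Agent.H8.SF Cfsg.Agent.H8.Dich Cfsg.Agent.H2.SC
open scoped commutatorElement

universe u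

variable {G : Type u} [Group G] [Finite G]

theorem exists_O {H S : Subgroup G} (h : HasNormalPComplement 2 H) (hS : IsSylowIn 2 S H) :
    ∃ O : Subgroup G, O ≤ H ∧ H ≤ N O ∧ ¬ 2 ∣ Nat.card O ∧ ∀ g ∈ H, ∃ o ∈ O, ∃ s ∈ S, g = o * s := by
  refine ⟨(pResidual 2 H).map H.subtype, map_subtype_le _, fun g hg =>
    H9.mem_normalizer_of_conj_mem ?_, ?_, fun g hg => ?_⟩
  · rintro _ ⟨x, hx, rfl⟩
    exact ⟨_, H6.pResidual_normal.conj_mem x hx ⟨g, hg⟩, rfl⟩
  · rw [card_map_of_injective H.subtype_injective]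
    exact H6.hasNormalPComplement_iff_not_dvd_card_pResidual.1 h
  · obtain ⟨⟨o, s⟩, e⟩ := (H6.HasNormalPComplement.isComplement' h hS.toSylow).2 ⟨g, hg⟩
    exact ⟨o, ⟨o, o.2, rfl⟩, s, s.2, (congrArg Subtype.val e).symm⟩

theorem fusion {H S : Subgroup G} (h : HasNormalPComplement 2 H) (hS : IsSylowIn 2 S H) {x g : G}
    (hx : x ∈ S) (hg : g ∈ H) (hy : g * x * g⁻¹ ∈ S) : ∃ s ∈ S, s * x * s⁻¹ = g * x * g⁻¹ := by
  obtain ⟨O, h1, h2, h3, h4⟩ := exists_O h hS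
  obtain ⟨o, ho, s, hs, rfl⟩ := h4 g hg
  have h5 := mul_mem (mul_mem hs hx) (inv_mem hs)
  refine ⟨s, hs, ?_⟩
  have h6 : o * s * x * (o * s)⁻¹ * (s * x * s⁻¹)⁻¹ ∈ S ⊓ O := mem_inf.2 ⟨mul_mem hy (inv_mem h5), by
    have := mul_mem ho (cjm (h2 (hS.le h5)) (inv_mem ho))
    convert this using 1; group⟩
  rw [disjoint_of_coprime_card (coprime_of_pgroup hS.pgroup h3), mem_bot, mul_inv_eq_one] at h6
  exact h6.symm

theorem zp_N {y z : G} (h : y * z = z * y) : y ∈ N (zpowers z) :=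
  C_le_N _ (mem_C.2 fun v hv => by
    obtain ⟨k, rfl⟩ := hv
    exact (Commute.zpow_right (show Commute y z from h) k).eq)

theorem four_mem (h2 : PRankLE 2 2 G) {y z t : G} (hy : y * y = 1) (hy1 : y ≠ 1) (hz : z * z = 1)
    (hz1 : z ≠ 1) (hne : y ≠ z) (hyz : y * z = z * y) (ht : t * t = 1) (h3 : y * t = t * y)
    (h4 : z * t = t * z) : t = 1 ∨ t = y ∨ t = z ∨ t = z * y := by
  obtain ⟨a, b⟩ := four_pair (H4.orderOf_eq_two_of hy hy1) (H4.orderOf_eq_two_of hz hz1) hyz hne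
  have h5 : t ∈ zpowers z ⊔ zpowers y := by
    by_contra hn
    have := e8_of_four a b (by rw [sq, ht]) (sup_le (zpowers_le.2 (mem_cent.2 h4))
      (zpowers_le.2 (mem_cent.2 h3))) hn
    have h6 := h2 _ this.1.1 this.1.2
    have := this.2
    omega
  obtain ⟨c, hc, d, hd, rfl⟩ := (H9.mem_sup_of_le_normalizer' (zpowers_le.2 (zp_N hyz))).1 h5
  rcases (mem_zp_two (by rw [sq, hz])).1 hc with rfl | rfl <;>
    rcases (mem_zp_two (by rw [sq, hy])).1 hd with rfl | rfl <;> simp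

/-- the situation of rank two -/
structure R2 (S : Subgroup G) (z : G) : Prop where
  rk : PRankLE 2 2 G
  syl : IsSylowIn 2 S ⊤
  zS : z ∈ S
  zz : z * z = 1
  z1 : z ≠ 1
  zc : ∀ s ∈ S, s * z = z * s
  nil : HasNormalPComplement 2 (Ce z)
  uniq : ∀ u ∈ S, u * u = 1 → u ≠ 1 → (∀ s ∈ S, s * u = u * s) → u = z

/-- extremal conjugates -/
structure Good (S : Subgroup G) (z u : G) : Prop where
  mem : u ∈ S
  ne : u ≠ z
  cj : ∃ g : G, g * z * g⁻¹ = u
  syl : IsSylowIn 2 (S ⊓ Ce u) (Ce z ⊓ Ce u)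

namespace R2

variable {S : Subgroup G} {z u : G}

theorem le (h : R2 S z) : S ≤ Ce z := fun s hs => mem_cent.2 (h.zc s hs)

theorem fus (h : R2 S z) {x g : G} (hx : x ∈ S) (hg : g * z = z * g) (hy : g * x * g⁻¹ ∈ S) :
    ∃ s ∈ S, s * x * s⁻¹ = g * x * g⁻¹ :=
  fusion h.nil (h.syl.of_le h.le le_top) hx (mem_cent.2 hg) hy

theorem sq (h : R2 S z) (hu : ∃ g : G, g * z * g⁻¹ = u) : u * u = 1 ∧ u ≠ 1 := by
  obtain ⟨g, rfl⟩ := hu
  refine ⟨?_, conj_ne_one h.z1⟩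
  calc g * z * g⁻¹ * (g * z * g⁻¹) = g * (z * z) * g⁻¹ := by group
    _ = 1 := by rw [h.zz]; group

theorem exists_good (h : R2 S z) (hu : u ∈ S) (hne : u ≠ z) (hc : ∃ g : G, g * z * g⁻¹ = u) :
    ∃ s ∈ S, Good S z (s * u * s⁻¹) := by
  obtain ⟨R, hR⟩ := exists_isSylowIn 2 (Ce z ⊓ Ce u)
  have huR : u ∈ R := hR.le_of_le_normalizer (Q := zpowers u)
    (h.syl.pgroup.to_le (zpowers_le.2 hu)) (zpowers_le.2 ⟨h.le hu, mem_cent.2 rfl⟩)
    (fun r hr => zp_N (mem_cent.1 (hR.le hr).2))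
    (mem_zpowers u)
  obtain ⟨S1, hS1, hle⟩ := exists_isSylowIn_ge hR.pgroup (hR.le.trans inf_le_left)
  obtain ⟨c, hc1, e⟩ := hS1.exists_cj_eq (h.syl.of_le h.le le_top)
  have h1 : cj c R ≤ S := e ▸ cj_mono c hle
  obtain ⟨s, hs, e1⟩ := h.fus hu (mem_cent.1 hc1) (h1 (conj_mem_cj c huR))
  have e2 : c * z * c⁻¹ = z := by rw [mem_cent.1 hc1, mul_inv_cancel_right]
  have h2 := hR.cj c
  rw [cj_inf, cj_Ce, cj_Ce, e2, ← e1] at h2
  refine ⟨s, hs, mul_mem (mul_mem hs hu) (inv_mem hs), fun e3 => hne ?_, ?_, ?_⟩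
  · calc u = s⁻¹ * (s * u * s⁻¹) * s := by group
      _ = z := by rw [e3, mul_assoc, ← h.zc s hs]; group
  · obtain ⟨g, rfl⟩ := hc
    exact ⟨s * g, by group⟩
  · exact h2.of_card_ge h.syl.pgroup.to_inf_left (inf_le_inf_right _ h.le)
      (card_le_of_le (le_inf h1 (h2.le.trans inf_le_right)))

theorem four (h : R2 S z) (hu : Good S z u) {t : G} (ht : t ∈ S ⊓ Ce u) (h2 : t * t = 1) :
    t = 1 ∨ t = u ∨ t = z ∨ t = z * u :=
  four_mem h.rk (h.sq hu.cj).1 (h.sq hu.cj).2 h.zz h.z1 hu.ne (h.zc u hu.mem) h2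
    (mem_cent.1 ht.2).symm (h.zc t ht.1).symm

theorem lt (h : R2 S z) (hu : Good S z u) : S ⊓ Ce u < S :=
  lt_of_le_of_ne inf_le_left fun e => hu.ne (h.uniq u hu.mem (h.sq hu.cj).1 (h.sq hu.cj).2
    fun s hs => mem_cent.1 (e.ge hs).2)

theorem move (h : R2 S z) (hu : Good S z u) {t : G} (ht : t ∈ S) (h1 : t ∉ S ⊓ Ce u)
    (h2 : t * u * t⁻¹ ∈ S ⊓ Ce u) : t * u * t⁻¹ = z * u := by
  obtain ⟨g, hg⟩ := hu.cj
  obtain ⟨e1, e2⟩ := h.sq (u := t * u * t⁻¹) ⟨t * g, by rw [← hg]; group⟩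
  rcases h.four hu h2 e1 with e | e | e | e
  · exact absurd e e2
  · exact absurd ⟨ht, mem_cent.2 (mul_inv_eq_iff_eq_mul.1 e)⟩ h1
  · refine absurd ?_ hu.ne
    calc u = t⁻¹ * (t * u * t⁻¹) * t := by group
      _ = z := by rw [e, mul_assoc, ← h.zc t ht]; group
  · exact e

theorem exists_s (h : R2 S z) (hu : Good S z u) :
    ∃ s ∈ N (S ⊓ Ce u), s * u * s⁻¹ = u ∧ s * z * s⁻¹ = z * u := by
  obtain ⟨g, hg⟩ := hu.cj
  obtain ⟨S', hS', hle⟩ := exists_isSylowIn_ge (K := Ce u) hu.syl.pgroup inf_le_right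
  have h1 : IsSylowIn 2 (cj g S) (Ce u) := by
    rw [← hg, ← cj_Ce]; exact (h.syl.of_le h.le le_top).cj g
  obtain ⟨s, hs, h2, h3, h4⟩ := H9.exists_mem_normalizer_not_mem_pow_mem hS'.pgroup hle fun e => by
    have := card_le_of_le e
    have := card_lt_of_lt (h.lt hu)
    have := hS'.card_eq_card h1
    rw [card_cj] at this
    omega
  have e1 := mem_cent.1 (hS'.le hs)
  refine ⟨s, h3, by rw [e1, mul_inv_cancel_right], ?_⟩
  obtain ⟨e2, e3⟩ := h.sq (u := s * z * s⁻¹) ⟨s, rfl⟩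
  rcases h.four hu (cjm h3 ⟨h.zS, mem_cent.2 (h.zc u hu.mem).symm⟩) e2 with e | e | e | e
  · exact absurd e e3
  · refine absurd ?_ hu.ne
    calc u = s⁻¹ * (s * u) := by group
      _ = s⁻¹ * (s * z * s⁻¹) * s := by rw [e1, e]; group
      _ = z := by group
  · exact absurd (hu.syl.le_of_le_normalizer' (hS'.pgroup.to_le (zpowers_le.2 hs))
      (zpowers_le.2 ⟨mem_cent.2 (mul_inv_eq_iff_eq_mul.1 e), hS'.le hs⟩) (zpowers_le.2 h3)
      (mem_zpowers s)) h2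
  · exact e

theorem small (h : R2 S z) (hu : Good S z u) {t : G} (ht : t ∈ S) (h1 : t ∉ S ⊓ Ce u)
    (h2 : t ∈ N (S ⊓ Ce u)) (hc : Nat.card ↥(S ⊓ Ce u) ≤ 2 * Nat.card ↥(S ⊓ Ce u ⊓ Ce t)) :
    Nat.card ↥(S ⊓ Ce u) ≤ 4 := by
  obtain ⟨s, hs, e1, e2⟩ := h.exists_s hu
  have e3 := h.move hu ht h1 (cjm h2 ⟨hu.mem, mem_cent.2 rfl⟩)
  obtain ⟨uu, u1⟩ := h.sq hu.cj
  have key : ∀ v ∈ S ⊓ Ce u ⊓ Ce t, v * v = 1 → v ≠ 1 → v = z := fun v hv vv v1 => by
    have e4 : t * v * t⁻¹ = v := by rw [← mem_cent.1 hv.2, mul_inv_cancel_right]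
    rcases h.four hu hv.1 vv with e | e | e | e
    · exact absurd e v1
    · rw [e, e3, mul_eq_right] at e4; exact absurd e4 h.z1
    · exact e
    · have : t * (z * u) * t⁻¹ = z * (t * u * t⁻¹) := by rw [← mul_assoc, h.zc t ht]; group
      rw [e, this, e3, mul_right_inj, mul_eq_right] at e4; exact absurd e4 h.z1
  have c1 := H9.card_mul_card_le_of_disjoint (A := S ⊓ Ce u ⊓ Ce t) (B := cj s (S ⊓ Ce u ⊓ Ce t))
    (K := S ⊓ Ce u) inf_le_left (cj_le_of_mem_normalizer hs inf_le_left) (by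
      by_contra hn
      obtain ⟨v, hv, vv, v1⟩ := exists_inv
        (h.syl.pgroup.to_le (inf_le_left.trans (inf_le_left.trans inf_le_left))) hn
      obtain ⟨w, hw, e⟩ := mem_cj' hv.2
      have e5 := key v hv.1 vv v1
      have e6 := key w hw (by
        calc w * w = s⁻¹ * (v * v) * s := by rw [e]; group
          _ = 1 := by rw [vv]; group) fun e' => v1 (by rw [e, e']; group)
      rw [e5, e6, e2, eq_comm, mul_eq_left] at e
      exact u1 e)
  rw [card_cj] at c1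
  have := card_pos' (S ⊓ Ce u)
  nlinarith

theorem half {A B K : Subgroup G} (hA : A ≤ K) (hB : B ≤ K) (hn : B ≤ N A)
    (hc : Nat.card K = 2 * Nat.card A) : Nat.card B ≤ 2 * Nat.card ↥(A ⊓ B) := by
  have c1 := card_sup_mul_card_inf hn
  have c2 := card_le_of_le (sup_le hA hB)
  refine Nat.le_of_mul_le_mul_left (c := Nat.card A) ?_ (card_pos' A)
  rw [← c1]
  calc _ ≤ Nat.card K * Nat.card ↥(A ⊓ B) := Nat.mul_le_mul_right _ c2
    _ = _ := by rw [hc]; ring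

theorem index_two (h : R2 S z) (hu : Good S z u) (h4 : ¬ Nat.card ↥(S ⊓ Ce u) ≤ 4) :
    S ≤ N (S ⊓ Ce u) ∧ Nat.card S = 2 * Nat.card ↥(S ⊓ Ce u) := by
  set R := S ⊓ Ce u with hR
  have huR : u ∈ R := ⟨hu.mem, mem_cent.2 rfl⟩
  have c1 : Nat.card ↥(S ⊓ N R) = 2 * Nat.card R := by
    obtain ⟨t, ht, h1, h2, h3⟩ := H9.exists_mem_normalizer_not_mem_pow_mem h.syl.pgroup
      (h.lt hu).le (h.lt hu).not_ge
    rw [← card_sup_zp h2 h1 (by rwa [_root_.sq] at h3)]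
    congr 2
    refine le_antisymm (fun g hg => ?_) (sup_le (le_inf inf_le_left le_normalizer)
      (zpowers_le.2 ⟨ht, h2⟩))
    by_cases hg1 : g ∈ R
    · exact mem_sup_left hg1
    · have e1 := h.move hu ht h1 (cjm h2 huR)
      have e2 := h.move hu hg.1 hg1 (cjm hg.2 huR)
      have : t⁻¹ * g ∈ R := mem_inf.2 ⟨mul_mem (inv_mem ht) hg.1, mem_cent.2 (by
        calc t⁻¹ * g * u = t⁻¹ * (g * u * g⁻¹) * g := by group
          _ = _ := by rw [e2, ← e1]; group)⟩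
      simpa using mul_mem (mem_sup_right (mem_zpowers t) : t ∈ R ⊔ zpowers t) (mem_sup_left this)
  suffices hS : S ≤ N R from ⟨hS, by rw [← c1, inf_eq_left.2 hS]⟩
  by_contra hn
  obtain ⟨g, hg, h1, h2⟩ := H9.exists_mem_normalizer_not_mem (H9.isNilpotent_of_isPGroup h.syl.pgroup)
    (inf_le_left : S ⊓ N R ≤ S) fun e => hn (e.trans inf_le_right)
  have hRle : R ≤ S ⊓ N R := le_inf inf_le_left le_normalizer
  have e1 : cj g R = S ⊓ Ce (g * u * g⁻¹) := by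
    rw [hR, cj_inf, cj_Ce, cj_eq_self (le_normalizer hg)]
  have h3 : g * u * g⁻¹ ∉ R := fun e => h1 ⟨hg, mem_normalizer_of_cj_le (by
    have e2 := h.move hu hg (fun e3 => h1 (hRle e3)) e
    rw [e1, e2]
    refine fun x hx => ⟨hx.1, mem_cent.2 ?_⟩
    have e3 := mem_cent.1 hx.2
    rw [← mul_assoc, h.zc x hx.1, mul_assoc, mul_assoc, mul_right_inj] at e3
    exact e3)⟩
  have h5 := cjm h2 (hRle huR)
  refine h4 (h.small hu h5.1 h3 h5.2 ?_)
  have := half hRle (cj_le_of_mem_normalizer h2 hRle)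
    ((cj_le_of_mem_normalizer h2 hRle).trans inf_le_right) c1
  rw [card_cj] at this
  refine this.trans (Nat.mul_le_mul_left _ (card_le_of_le ?_))
  rw [e1]
  exact fun x hx => ⟨hx.1, hx.2.2⟩

theorem exists_small (h : R2 S z) (hG : ∀ K : Subgroup G, K.index ≠ 2) (hu : Good S z u) :
    ∃ v, Good S z v ∧ Nat.card ↥(S ⊓ Ce v) ≤ 4 := by
  by_contra hn
  push Not at hn
  obtain ⟨hN, hc⟩ := h.index_two hu (hn u hu).not_ge
  set R := S ⊓ Ce u with hR
  obtain ⟨s, hs, e1, e2⟩ := h.exists_s hu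
  obtain ⟨t, ht, ht1⟩ := SetLike.exists_of_lt (h.lt hu)
  have e3 := h.move hu ht ht1 (cjm (hN ht) ⟨hu.mem, mem_cent.2 rfl⟩)
  have tr : ∀ v ∈ R, v * v = 1 → v ≠ 1 → ∃ n ∈ N R, n * v * n⁻¹ = z := fun v hv vv v1 => by
    rcases h.four hu hv vv with e | e | e | e
    · exact absurd e v1
    · refine ⟨s⁻¹ * t, mul_mem (inv_mem hs) (hN ht), ?_⟩
      calc s⁻¹ * t * v * (s⁻¹ * t)⁻¹ = s⁻¹ * (t * u * t⁻¹) * s := by rw [e]; group
        _ = z := by rw [e3, ← e2]; group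
    · exact ⟨1, one_mem _, by rw [e]; group⟩
    · exact ⟨s⁻¹, inv_mem hs, by rw [e, ← e2]; group⟩
  have back : ∀ x ∈ S, ∀ s ∈ S, s * x * s⁻¹ ∈ R → x ∈ R := fun x _ s hs h1 => by
    simpa [mul_assoc] using cjm' (hN hs) h1
  have key : ∀ x ∈ S, x ∉ R → ∀ g : G, g⁻¹ * x * g ∉ R := fun x hx h1 g h2 => by
    by_cases xx : x * x = 1
    · have x1 : x ≠ 1 := fun e => h1 (e ▸ one_mem _)
      obtain ⟨n, -, e⟩ := tr _ h2 (by
        calc g⁻¹ * x * g * (g⁻¹ * x * g) = g⁻¹ * (x * x) * g := by group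
          _ = 1 := by rw [xx]; group) (by simpa using conj_ne_one (g := g⁻¹) x1)
      obtain ⟨c, hc1, hx'⟩ := h.exists_good hx (fun e => h1 (e ▸ ⟨h.zS, mem_cent.2 (h.zc u hu.mem).symm⟩))
        ⟨g * n⁻¹, by rw [← e]; group⟩
      obtain ⟨-, c2⟩ := h.index_two hx' (hn _ hx').not_ge
      refine (hn u hu).not_ge (h.small hu hx'.mem (fun e => h1 (back x hx c hc1 e)) (hN hx'.mem) ?_)
      have := half (h.lt hu).le (inf_le_left : S ⊓ Ce (c * x * c⁻¹) ≤ S) (inf_le_left.trans hN) hc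
      refine le_trans (Nat.le_of_mul_le_mul_left (hc.symm.trans c2).le two_pos) (this.trans (Nat.mul_le_mul_left _ (card_le_of_le ?_)))
      exact fun x hx => ⟨hx.1, hx.2.2⟩
    · have h3 : x * x ∈ R := mul_mem_of_relIndex_le (le_of_eq (relIndex_eq_of_card (h.lt hu).le
        (by rw [hc, mul_comm]))) hx hx h1 h1
      obtain ⟨j, j1, j2⟩ := H9.exists_pow_ne_one_pow_eq_one xx
        (H9.exists_pow_eq_one_of_mem h.syl.pgroup h3.1)
      rw [_root_.sq] at j2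
      have e4 : (x * x) ^ 2 ^ j = z := by
        have e5 : x * (x * x) ^ 2 ^ j * x⁻¹ = (x * x) ^ 2 ^ j := by rw [← _root_.sq]; group
        have e6 := h.move hu hx h1 (cjm (hN hx) ⟨hu.mem, mem_cent.2 rfl⟩)
        rcases h.four hu (pow_mem h3 _) j2 with e | e | e | e
        · exact absurd e j1
        · rw [e, e6, mul_eq_right] at e5; exact absurd e5 h.z1
        · exact e
        · have : x * (z * u) * x⁻¹ = z * (x * u * x⁻¹) := by rw [← mul_assoc, h.zc x hx]; group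
          rw [e, this, e6, mul_right_inj, mul_eq_right] at e5; exact absurd e5 h.z1
      have e5 : (g⁻¹ * x * g * (g⁻¹ * x * g)) ^ 2 ^ j = g⁻¹ * z * g := by
        rw [← e4, show g⁻¹ * x * g * (g⁻¹ * x * g) = g⁻¹ * (x * x) * g⁻¹⁻¹ by group, conj_pow,
          inv_inv]
      obtain ⟨n, hn1, e⟩ := tr (g⁻¹ * z * g) (e5 ▸ pow_mem (mul_mem h2 h2) _)
        (h.sq ⟨g⁻¹, by group⟩).1 (h.sq ⟨g⁻¹, by group⟩).2
      have h5 : n * g⁻¹ * x * (n * g⁻¹)⁻¹ ∈ R := by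
        have := cjm hn1 h2
        convert this using 1; group
      obtain ⟨c, hc1, e6⟩ := h.fus hx (g := n * g⁻¹) (by
        calc n * g⁻¹ * z = n * (g⁻¹ * z * g) * n⁻¹ * (n * g⁻¹) := by group
          _ = _ := by rw [e]) h5.1
      exact h1 (back x hx c hc1 (e6 ▸ h5))
  have hi : R.relIndex S = 2 := relIndex_eq_of_card (h.lt hu).le (by rw [hc, mul_comm])
  obtain ⟨K, hK, -⟩ := H6.exists_index_two_of_not_conj (H6.sylow_two_index_odd h.syl.toSylowTop) hi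
    (H9.exists_pow_eq_one_of_mem h.syl.pgroup ht) (key t ht ht1) fun k g hk h1 => by
      by_contra h2
      refine key _ h1 h2 g⁻¹ ?_
      obtain ⟨i, rfl⟩ : ∃ i, k = i + 1 := ⟨k - 1, by omega⟩
      have := pow_mem (mul_mem_of_relIndex_le hi.le ht ht ht1 ht1) (2 ^ i)
      rw [← _root_.sq, ← pow_mul, ← pow_succ'] at this
      convert this using 1; group
  exact hG K hK

theorem cd (h : R2 S z) (hG : ∀ K : Subgroup G, K.index ≠ 2) (hu : Good S z u)
    (h4 : Nat.card ↥(S ⊓ Ce u) ≤ 4) : GW.CD S := by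
  obtain ⟨uu, u1⟩ := h.sq hu.cj
  have hnc : ¬ ∀ s ∈ S, s * u = u * s := fun e => hu.ne (h.uniq u hu.mem uu u1 e)
  obtain ⟨a, ha, hi, hua⟩ : ∃ a ∈ S, (zpowers a).relIndex S = 2 ∧ u ∉ zpowers a := by
    obtain ⟨a, h1, h2⟩ := S3224.aux _ S rfl h.syl.pgroup ⟨u, hu.mem⟩
      (by rw [← orderOf_coe]; exact H4.orderOf_eq_two_of uu u1) (by
        rw [centralizer_singleton_subgroupOf, ← inf_subgroupOf_left,
          Nat.card_congr (subgroupOfEquivOfLe inf_le_left).toEquiv]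
        exact h4) fun hc => hnc fun s hs =>
          congrArg Subtype.val (hc.isMulCommutative.is_comm.comm (⟨s, hs⟩ : S) ⟨u, hu.mem⟩)
    have e : (zpowers (a : G)).subgroupOf S = zpowers a := by
      ext x
      rw [mem_subgroupOf]
      exact ⟨fun ⟨k, hk⟩ => ⟨k, Subtype.ext hk⟩, fun ⟨k, hk⟩ => ⟨k, congrArg Subtype.val hk⟩⟩
    exact ⟨a, a.2, by rw [relIndex, e, h1], fun h3 => h2 (e ▸ h3)⟩
  set A := zpowers a with hA
  have hAS : A ≤ S := zpowers_le.2 ha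
  have mul2 : ∀ x ∈ S, ∀ y ∈ S, x ∉ A → y ∉ A → x * y ∈ A := fun x hx y hy h1 h2 =>
    mul_mem_of_relIndex_le hi.le hx hy h1 h2
  have hAc : ∀ x ∈ A, ∀ y ∈ A, x * y = y * x := by
    rintro _ ⟨i, rfl⟩ _ ⟨j, rfl⟩; exact (Commute.zpow_zpow_self a i j).eq
  have hN : ∀ s ∈ S, ∀ x ∈ A, s * x * s⁻¹ ∈ A := fun s hs x hx => by
    by_cases h1 : s ∈ A
    · exact mul_mem (mul_mem h1 hx) (inv_mem h1)
    · exact mul2 _ (mul_mem hs (hAS hx)) _ (inv_mem hs) (fun e => h1 ((mul_mem_cancel_right hx).1 e))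
        fun e => h1 (inv_mem_iff.1 e)
  have dec : ∀ x ∈ S, x ∉ A → ∃ b ∈ A, x = u * b := fun x hx h1 =>
    ⟨u * x, mul2 u hu.mem x hx hua h1, by rw [← mul_assoc, uu, one_mul]⟩
  have hzA : z ∈ A := by
    by_contra h1
    obtain ⟨b, hb, e⟩ := dec z h.zS h1
    have e1 : ∀ x ∈ A, x * u = u * x := fun x hx => by
      have := h.zc x (hAS hx)
      rw [e, mul_assoc, ← hAc x hx b hb, ← mul_assoc, ← mul_assoc] at this
      exact mul_right_cancel this
    refine hnc fun s hs => ?_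
    by_cases h2 : s ∈ A
    · exact e1 s h2
    · obtain ⟨c, hc, rfl⟩ := dec s hs h2
      rw [mul_assoc, e1 c hc]
  have hinv : ∀ v ∈ A, v * v = 1 → v ≠ 1 → v = z := fun v hv vv v1 =>
    congrArg Subtype.val (H4.eq_of_orderOf_two_of_isCyclic (x := (⟨v, hv⟩ : zpowers a))
      (y := ⟨z, hzA⟩) (by rw [← orderOf_coe]; exact H4.orderOf_eq_two_of vv v1)
      (by rw [← orderOf_coe]; exact H4.orderOf_eq_two_of h.zz h.z1))
  have hC : ∀ c ∈ A, c * u = u * c → c = 1 ∨ c = z := fun c hc e => by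
    have c1 := H9.card_mul_card_le_of_disjoint (A := A ⊓ Ce u) (B := zpowers u) (K := S ⊓ Ce u)
      (inf_le_inf_right _ hAS) (zpowers_le.2 ⟨hu.mem, mem_cent.2 rfl⟩) (eq_bot_iff.2 fun x hx => by
        rcases (mem_zp_two (by rw [_root_.sq, uu])).1 hx.2 with rfl | rfl
        · exact one_mem _
        · exact absurd hx.1.1 hua)
    rw [Nat.card_zpowers, H4.orderOf_eq_two_of uu u1] at c1
    have e1 : zpowers z = A ⊓ Ce u := eq_of_le_of_card_ge
      (zpowers_le.2 ⟨hzA, mem_cent.2 (h.zc u hu.mem).symm⟩)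
      (by rw [Nat.card_zpowers, H4.orderOf_eq_two_of h.zz h.z1]; omega)
    exact (mem_zp_two (by rw [_root_.sq, h.zz])).1 (e1 ▸ ⟨hc, mem_cent.2 e⟩)
  have hφ : ∀ b ∈ A, u * b * (u * b) = 1 ∨ u * b * (u * b) = z := fun b hb => by
    have h1 : u * b * u ∈ A := by simpa only [inv_eq uu] using hN u hu.mem b hb
    refine hC _ (by rw [← mul_assoc]; exact mul_mem h1 hb) ?_
    calc u * b * (u * b) * u = u * (b * (u * b * u)) := by group
      _ = u * (u * b * (u * b)) := by rw [hAc b hb _ h1]; group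
  have hmul : ∀ b ∈ A, ∀ c ∈ A, u * (b * c) * (u * (b * c)) = u * b * (u * b) * (u * c * (u * c)) :=
    fun b hb c hc => by
      have h1 : u * c * u ∈ A := by simpa only [inv_eq uu] using hN u hu.mem c hc
      calc u * (b * c) * (u * (b * c)) = u * b * (u * u) * c * u * b * c := by rw [uu]; group
        _ = u * b * u * ((u * c * u) * b) * c := by group
        _ = _ := by rw [hAc _ h1 b hb]; group
  let K : Subgroup G :=
    { carrier := {b | b ∈ A ∧ u * b * (u * b) = 1}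
      one_mem' := ⟨one_mem _, by simpa using uu⟩
      mul_mem' := fun {b c} hb hc => ⟨mul_mem hb.1 hc.1, by rw [hmul b hb.1 c hc.1, hb.2, hc.2, mul_one]⟩
      inv_mem' := fun {b} hb => ⟨inv_mem hb.1, by
        have := hmul b hb.1 b⁻¹ (inv_mem hb.1)
        rw [hb.2, one_mul, mul_inv_cancel, mul_one, uu] at this
        exact this.symm⟩ }
  by_cases haK : a ∈ K
  · refine ⟨a, ha, fun x hx h1 => ?_, mul2⟩
    obtain ⟨b, hb, rfl⟩ := dec x hx h1
    exact ((zpowers_le.2 haK : A ≤ K) hb).2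
  exfalso
  have hKA : K ≤ A := fun _ hb => hb.1
  have hz : ∀ b ∈ A, b ∉ K → u * b * (u * b) = z := fun b hb h1 =>
    (hφ b hb).resolve_left fun e => h1 ⟨hb, e⟩
  have mulK : ∀ b ∈ A, ∀ c ∈ A, b ∉ K → c ∉ K → b * c ∈ K := fun b hb c hc h1 h2 =>
    ⟨mul_mem hb hc, by rw [hmul b hb c hc, hz b hb h1, hz c hc h2, h.zz]⟩
  have hord : ∀ b ∈ K, orderOf b ≠ orderOf a := fun b hb e => haK (by
    have : zpowers b = A := eq_of_le_of_card_ge (zpowers_le.2 hb.1)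
      (by rw [hA, Nat.card_zpowers, Nat.card_zpowers, e])
    exact (zpowers_le.2 hb) (this ▸ mem_zpowers a))
  have hord' : ∀ b ∈ A, b ∉ K → orderOf b = orderOf a := fun b hb h1 => by
    obtain ⟨i, rfl⟩ := mem_powers_iff_mem_zpowers.2 hb
    obtain ⟨n, hn⟩ := H9.exists_pow_eq_one_of_mem h.syl.pgroup ha
    refine Nat.Coprime.orderOf_pow ?_
    refine Nat.Coprime.coprime_dvd_left (orderOf_dvd_of_pow_eq_one hn) (Nat.Coprime.pow_left _ ?_)
    rw [Nat.coprime_two_left]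
    rcases Nat.even_or_odd' i with ⟨j, rfl | rfl⟩
    · refine absurd ?_ h1
      dsimp only
      rw [pow_mul, _root_.sq]
      exact pow_mem (mulK a (mem_zpowers a) a (mem_zpowers a) haK haK) j
    · exact odd_two_mul_add_one j
  have huN : u ∈ N K := H9.mem_normalizer_of_conj_mem fun b hb => by
    have : u * b * u⁻¹ = b⁻¹ := by
      rw [inv_eq uu]; exact eq_inv_of_mul_eq_one_left (by rw [mul_assoc]; exact hb.2)
    rw [this]; exact inv_mem hb
  have hM : ∀ x ∈ K ⊔ zpowers u, x ∈ K ∨ x * x = 1 := fun x hx => by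
    obtain ⟨b, hb, c, hc, rfl⟩ := (H9.mem_sup_of_le_normalizer' (zpowers_le.2 huN)).1 hx
    rcases (mem_zp_two (by rw [_root_.sq, uu])).1 hc with rfl | rfl
    · exact Or.inl (by simpa using hb)
    · right
      calc b * c * (b * c) = c⁻¹ * (c * b * (c * b)) * c := by group
        _ = 1 := by rw [hb.2]; group
  have hiM : (K ⊔ zpowers u).relIndex S = 2 := by
    have c1 := card_sup_zp huN (fun e => hua (hKA e)) (by rw [uu]; exact one_mem _)
    have c2 := card_sup_zp (Q := K) (t := a) (C_le_N K (mem_C.2 fun b hb =>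
      hAc a (mem_zpowers a) b hb.1)) haK (mulK a (mem_zpowers a) a (mem_zpowers a) haK haK)
    rw [sup_eq_right.2 hKA] at c2
    have c3 := H9.card_mul_relIndex hAS
    exact relIndex_eq_of_card (sup_le (hKA.trans hAS) (zpowers_le.2 hu.mem)) (by
      rw [hi] at c3; omega)
  have oc : ∀ g x : G, orderOf (g⁻¹ * x * g) = orderOf x := order_cj'
  obtain ⟨L, hL, -⟩ := H6.exists_index_two_of_not_conj (H6.sylow_two_index_odd h.syl.toSylowTop) hiM
    (H9.exists_pow_eq_one_of_mem h.syl.pgroup ha) (fun g hg => by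
      rcases hM _ hg with h1 | h1
      · exact hord _ h1 (oc g a)
      · have aa : a * a = 1 := by
          calc a * a = g * (g⁻¹ * a * g * (g⁻¹ * a * g)) * g⁻¹ := by group
            _ = 1 := by rw [h1]; group
        refine haK ⟨mem_zpowers a, ?_⟩
        by_cases a1 : a = 1
        · rw [a1, mul_one, uu]
        · rw [hinv a (mem_zpowers a) aa a1]
          calc u * z * (u * z) = u * (z * u) * z := by group
            _ = u * u * (z * z) := by rw [← h.zc u hu.mem]; group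
            _ = 1 := by rw [uu, h.zz, one_mul]) fun k g hk h1 => by
      obtain ⟨i, rfl⟩ : ∃ i, k = i + 1 := ⟨k - 1, by omega⟩
      have h2 : a ^ 2 ^ (i + 1) ∈ K := by
        rw [pow_succ', pow_mul, _root_.sq]
        exact pow_mem (mulK a (mem_zpowers a) a (mem_zpowers a) haK haK) _
      generalize a ^ 2 ^ (i + 1) = c at h1 h2
      by_cases h3 : g⁻¹ * c * g ∈ A
      · by_contra h5
        exact hord c h2 ((oc g c).symm.trans (hord' _ h3 fun e => h5 (mem_sup_left e)))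
      · obtain ⟨b, hb, e⟩ := dec _ h1 h3
        by_cases h5 : b ∈ K
        · rw [e]; exact mul_mem (mem_sup_right (mem_zpowers u)) (mem_sup_left h5)
        exfalso
        have e1 := hz b hb h5
        rw [← e] at e1
        have e2 : c * c = g * z * g⁻¹ := by rw [← e1]; group
        obtain ⟨e3, e4⟩ := h.sq (u := c * c) ⟨g, e2.symm⟩
        have hcc := mul_mem h2.1 h2.1
        have e5 : c * c = z := hinv _ hcc e3 e4
        obtain ⟨s, hs, e6⟩ := h.fus (hAS h2.1) (g := g⁻¹) (by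
          rw [e5] at e2
          calc g⁻¹ * z = g⁻¹ * (g * z * g⁻¹) := by rw [← e2]
            _ = _ := by group) (by rwa [inv_inv])
        rw [inv_inv] at e6
        exact h3 (e6 ▸ hN s hs c h2.1)
  exact hG L hL

end R2

theorem cd_of_rank_two [IsSimpleGroup G] (hG : ¬ IsMulCommutative G) (h2 : PRankLE 2 2 G)
    (hI : ∀ t : G, orderOf t = 2 → HasNormalPComplement 2 (Ce t)) {S : Subgroup G}
    (hS : IsSylowIn 2 S ⊤) (hn : ¬ ∀ t ∈ S, t * t = 1 → ∀ s ∈ S, s * t = t * s) : GW.CD S := by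
  obtain ⟨⟨z, hz⟩, hz1⟩ := ne_bot_iff_exists_ne_one.1 (omZ_ne_bot hS.pgroup (sylow_ne_bot hG hS))
  replace hz1 : z ≠ 1 := fun e => hz1 (Subtype.ext e)
  obtain ⟨h1, h3, h4⟩ := mem_omZ.1 hz
  have h : R2 S z := ⟨h2, hS, h1, h3, hz1, h4, hI z (H4.orderOf_eq_two_of h3 hz1),
    fun u hu uu u1 hc => by
      by_contra hne
      refine hn fun t ht tt s hs => ?_
      rcases four_mem h2 uu u1 h3 hz1 hne (h4 u hu) tt (hc t ht).symm (h4 t ht).symm with
        rfl | rfl | rfl | rfl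
      · simp
      · exact hc s hs
      · exact h4 s hs
      · rw [← mul_assoc, h4 s hs, mul_assoc, hc s hs, mul_assoc]⟩
  obtain ⟨g, hg, hne⟩ : ∃ g : G, g * z * g⁻¹ ∈ S ∧ g * z * g⁻¹ ≠ z := by
    by_contra hc
    push Not at hc
    have h5 := H7.zstar_sylow hS.toSylowTop h3 hc
    rw [BS.pPrimeCore_eq_bot_of_simple (s := z) ⟨h3, hz1⟩] at h5
    have h6 : z ∈ center G := mem_center_iff.2 fun g =>
      (commutatorElement_eq_one_iff_mul_comm.1 (mem_bot.1 (h5 g))).symm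
    rcases (inferInstance : (center G).Normal).eq_bot_or_eq_top with e | e
    · exact hz1 (mem_bot.1 (e ▸ h6))
    · exact hG ⟨⟨fun a b => mem_center_iff.1 (e ▸ mem_top b) a⟩⟩
  obtain ⟨s, -, hu⟩ := h.exists_good hg hne ⟨g, rfl⟩
  obtain ⟨v, hv, h4⟩ := h.exists_small (index_ne_two_simple hG) hu
  exact h.cd (index_ne_two_simple hG) hv h4

theorem solv_of_nil {H : Subgroup G} (h : HasNormalPComplement 2 H) : Group.IsSolvable H := by
  obtain ⟨S, hS⟩ := exists_isSylowIn 2 H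
  obtain ⟨O, h1, h3, h4, h5⟩ := exists_O h hS
  have e : O ⊔ S = H := le_antisymm (sup_le h1 hS.le) fun g hg => by
    obtain ⟨o, ho, s, hs, rfl⟩ := h5 g hg
    exact mul_mem (mem_sup_left ho) (mem_sup_right hs)
  rw [← e]
  exact solvable_sup (hS.le.trans h3) (FT.odd_solvable (odd_iff.2 h4)) (solvable_of_pgroup hS.pgroup)

theorem cit_of_rank [IsSimpleGroup G] (hG : ¬ IsMulCommutative G) (h2 : ¬ PRankLE 2 2 G)
    (hI : ∀ t : G, orderOf t = 2 → HasNormalPComplement 2 (Ce t)) : CIT G := fun t tt t1 => by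
  have ht := H4.orderOf_eq_two_of tt t1
  obtain ⟨S, hS⟩ := exists_isSylowIn 2 (Ce t)
  obtain ⟨O, h1, h3, h4, h5⟩ := exists_O (hI t ht) hS
  have h6 := le_Opp h1 h3 h4
  have h7 : Opp 2 (Ce t) = ⊥ := core_eq_bot
    (fun t ht => isPConstrained_of_solvable (solv_of_nil (hI t ht))) BS.bs0 (index_ne_two_simple hG)
    (BS.pPrimeCore_eq_bot_of_simple (s := t) ⟨tt, t1⟩) h2 ht
  refine hS.pgroup.to_le fun g hg => ?_
  obtain ⟨o, ho, s, hs, rfl⟩ := h5 g hg
  have : o = 1 := mem_bot.1 (h7 ▸ h6 ho)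
  rw [this, one_mul]; exact hs

theorem e8p [IsSimpleGroup G] (hG : ¬ IsMulCommutative G) (h2 : ¬ PRankLE 2 2 G) : E8P G :=
  fun _ _ a b c d e => exists_e8_pair (H4.orderOf_eq_two_of a b) (H4.orderOf_eq_two_of c d) e
    (rank_centralizer (index_ne_two_simple hG) h2 (H4.orderOf_eq_two_of a b))
    (rank_centralizer (index_ne_two_simple hG) h2 (H4.orderOf_eq_two_of c d))

open BS in
theorem se_case [IsSimpleGroup G] (hG : ¬ IsMulCommutative G)
    (hI : ∀ t : G, orderOf t = 2 → HasNormalPComplement 2 (Ce t)) {M : Subgroup G}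
    (hM : IsStronglyEmbedded M) :
    (∃ (F : Type) (_ : Field F) (_ : Fintype F), 3 < Fintype.card F ∧
      Nonempty (G ≃* Matrix.ProjectiveSpecialLinearGroup (Fin 2) F)) ∨ Lie.IsoSuzuki G := by
  obtain ⟨S, hS⟩ := exists_isSylowIn 2 (⊤ : Subgroup G)
  obtain ⟨v, -, vv, v1⟩ := exists_inv hS.pgroup (sylow_ne_bot hG hS)
  obtain ⟨X, -, -⟩ := bender_suz hM (four_of_simple hG (s := v) ⟨vv, v1⟩).not_pRankLE
    (pPrimeCore_eq_bot_of_simple (s := v) ⟨vv, v1⟩)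
  have h := X.rk1 X.core_eq_bot
  have h4 := X.four_le_q
  have hS := X.struct
  have e : Rec.gen X.Q X.t ≃* G := (MulEquiv.subgroupCongr
    (((Rec.gen_normal h).eq_bot_or_eq_top).resolve_left fun e =>
      X.tH ((mem_bot.1 (e ▸ Rec.Rk1.t_mem (Q := X.Q)) : X.t = 1) ▸ one_mem _))).trans topEquiv
  rcases hS.cases with ⟨hr, hQ | ⟨hc, w, hw, x, hx, hne⟩⟩ | ⟨hr, hc, -⟩
  · obtain ⟨-, -, F, _, _, h1, h2, ⟨f⟩⟩ := Rec.rec_L2 h hQ
    exact Or.inl ⟨F, _, _, h4.trans h2.ge, ⟨e.symm.trans f⟩⟩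
  · exfalso
    obtain ⟨h1, h2⟩ := X.mem_W.1 hw
    have hw' : w ∈ Ce X.s := mem_cent.2 (h2 _ X.s_mem_Z)
    have hQ : X.Q ≤ Ce X.s := fun y hy => mem_cent.2 (X.Z_comm X.s_mem_Z hy).symm
    have := H6.HasNormalPComplement.mem_centralizer (hI X.s (H4.orderOf_eq_two_of X.ss X.s1))
      (pgroup_subgroupOf hS.two _) (g := ⟨w, hw'⟩)
      (H9.mem_normalizer_of_conj_mem fun y hy => X.conj_mem_Q (X.D_le h1) hy)
      (by rw [← orderOf_coe]; exact (Nat.coprime_two_right).2 (X.odd_orderOf h1))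
    exact hne (congrArg Subtype.val (this ⟨x, hQ hx⟩ hx)).symm
  · obtain ⟨-, -, F, _, _, m, h1, h2, -, ⟨f⟩⟩ := Rec.rec_Sz h hS.two hc fun a => by
      have h5 := hS.ab fun x hx y hy => congrArg Subtype.val (a.is_comm.comm (⟨x, hx⟩ : X.Q) ⟨y, hy⟩)
      rw [h5] at hc
      change X.q = _ at hc
      nlinarith
    exact Or.inr ⟨F, _, _, m, h1, h2, ⟨e.symm.trans f⟩⟩

theorem nil_main (hR : Rank2.{u}) [IsSimpleGroup G] (hG : ¬ IsMulCommutative G)
    (hI : ∀ t : G, orderOf t = 2 → HasNormalPComplement 2 (Ce t)) :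
    (∃ (F : Type) (_ : Field F) (_ : Fintype F), 3 < Fintype.card F ∧
        Nonempty (G ≃* Matrix.ProjectiveSpecialLinearGroup (Fin 2) F)) ∨
      Lie.IsoSuzuki G ∨ Nonempty (G ≃* ↥(alternatingGroup (Fin 7))) ∨
      (∃ (F : Type) (_ : Field F) (_ : Fintype F), Fintype.card F = 4 ∧
        Nonempty (G ≃* Matrix.ProjectiveSpecialLinearGroup (Fin 3) F)) := by
  by_cases hse : ∃ M : Subgroup G, IsStronglyEmbedded M
  · obtain ⟨M, hM⟩ := hse
    exact (se_case hG hI hM).imp_right Or.inl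
  obtain ⟨S, hS⟩ := exists_isSylowIn 2 (⊤ : Subgroup G)
  by_cases h2 : PRankLE 2 2 G
  · have hcd : GW.CD S := by
      by_cases hn : ∀ t ∈ S, t * t = 1 → ∀ s ∈ S, s * t = t * s
      · exact cd_of_card_four ((hR G hG hS.toSylowTop hn h2).resolve_right hse)
      · exact cd_of_rank_two hG h2 hI hS hn
    rcases GW.gw_psl hG (ds_of_cd hS hcd) with ⟨F, _, _, -, ⟨e⟩⟩ | h1
    · exact Or.inl ⟨F, inferInstance, inferInstance, three_lt_card_of_psl hG e, ⟨e⟩⟩
    · exact Or.inr (Or.inr (Or.inl (H3.A7.nonempty_equiv h1)))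
  · exact Or.inr (Or.inr (Or.inr ⟨H1.F4, inferInstance, inferInstance, by decide,
      psl_of_cit hG (cit_of_rank hG h2 hI) (e8p hG h2) (not_exists.1 hse) hS (sylow_ne_bot hG hS)⟩))

end Cfsg.Agent.H2.CI
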