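import Cfsg.Agent.H2.L4g

/-! Sylow `2`-subgroups of type `L₃(4)`: involutions and automorphisms. -/

set_option autoImplicit false
set_option linter.unusedSectionVars false

namespace Cfsg.Agent.H2.L4

open Subgroup Cfsg.Agent.FT Cfsg.Agent.L0 Cfsg.Agent.H8 Cfsg.Agent.WA.GS Cfsg.Agent.WA.GS.C7
open Cfsg.Agent.H2.CI (cjm cjm' ea_comm ea_pgroup inv_eq mem_cj' cj_mem_cj Pt Fl)

universe u

variable {G : Type u} [Group G] [Finite G] {Z E U S P X X' Y Y' : Subgroup G} {g : G}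

def mp (σ : MulAut G) (X : Subgroup G) : Subgroup G := X.map σ.toMonoidHom

theorem mp_mul (σ τ : MulAut G) (X : Subgroup G) : mp (σ * τ) X = mp σ (mp τ X) := by
  rw [mp, mp, mp, map_map]; rfl

theorem mp_one (X : Subgroup G) : mp 1 X = X := map_id X

theorem mp_cj (σ : MulAut G) (g : G) (X : Subgroup G) : mp σ (cj g X) = cj (σ g) (mp σ X) := map_cj _ g X

theorem fl_mp {σ : MulAut G} (h : Fl E U (mp σ X) (mp σ Y)) (h' : Fl X Y X' Y') : Fl E U (mp σ X') (mp σ Y') := by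
  obtain ⟨g, rfl, rfl⟩ := h'
  rw [mp_cj, mp_cj]; exact h.conj _

def autP (E U : Subgroup G) : Subgroup (MulAut G) where
  carrier := {σ | Fl E U (mp σ E) (mp σ U)}
  mul_mem' ha hb := by simpa only [Set.mem_setOf_eq, mp_mul] using fl_mp ha hb
  one_mem' := ⟨1, by rw [mp_one, cj_one], by rw [mp_one, cj_one]⟩
  inv_mem' := fun {σ} ⟨g, h1, h2⟩ => ⟨σ⁻¹ g⁻¹, by
    rw [← cj_inv_cj g E, ← h1, mp_cj, ← mp_mul, inv_mul_cancel, mp_one, h1, cj_inv_cj], by
    rw [← cj_inv_cj g U, ← h2, mp_cj, ← mp_mul, inv_mul_cancel, mp_one, h2, cj_inv_cj]⟩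

namespace T2

variable (h : T2 Z E U S)
include h

theorem core_bot : (𝐍(E)).normalCore = ⊥ := by
  rw [eq_bot_iff, ← h.hO]
  refine L0.le_pPrimeCore' inferInstance fun hd => h.hU fun g hg => h.p.nZ_of ?_ hg
  obtain ⟨t, ht⟩ := exists_prime_orderOf_dvd_card' (G := (𝐍(E)).normalCore) 2 hd
  rw [← orderOf_coe] at ht
  obtain ⟨z, hz, z1⟩ := h.p.exists_z
  obtain ⟨k, hk⟩ := h.p.conj_z h.hS h.hE h.hU hz z1 (H4.mul_self_of_orderOf_two ht) (H4.ne_one_of_orderOf_two ht)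
  have hzk : z ∈ (𝐍(E)).normalCore := by
    have := (normalCore_normal _).conj_mem' _ t.2 k
    rwa [← hk, show k⁻¹ * (k * z * k⁻¹) * k = z by group] at this
  refine cj_eq_self_iff.mp (h.pt_N ⟨1, (cj_one _).symm⟩ ⟨g, rfl⟩ fun e he => ?_).symm
  have : e ∈ (𝐍(E)).normalCore := by
    by_cases e1 : e = 1
    · rw [e1]; exact one_mem _
    obtain ⟨l, rfl⟩ := h.p.conj_z h.hS h.hE h.hU hz z1 (h.p.sE e he) e1
    exact (normalCore_normal _).conj_mem _ hzk l
  rw [← cj_normalizer, mem_cj]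
  simpa using this g⁻¹

theorem aut_or (σ : MulAut G) : Fl E U (mp σ E) (mp σ U) ∨ Fl E U (mp σ U) (mp σ E) := by
  have h1 := h.hS.map σ.toMonoidHom
  rw [map_top_of_surjective _ σ.surjective] at h1
  obtain ⟨k, -, e⟩ := h1.exists_cj_eq h.hS
  have q := (h.p.map (f := σ.toMonoidHom) σ.injective).cj k
  rw [e] at q
  have f : ∀ {X Y : Subgroup G}, H8.cj k X = Y → X = H8.cj k⁻¹ Y := fun e => by rw [← e, cj_inv_cj]
  rcases h.p.eq_or q.leE q.sE q.cE with e1 | e1 <;> rcases h.p.eq_or q.leU q.sU q.cU with e2 | e2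
  · exact absurd (e1.trans e2.symm) q.ne
  · exact Or.inl ⟨k⁻¹, f e1, f e2⟩
  · exact Or.inr ⟨k⁻¹, f e2, f e1⟩
  · exact absurd (e1.trans e2.symm) q.ne

theorem index_autP : (autP E U).index ∣ 2 := by
  by_cases h1 : ∀ σ, σ ∈ autP E U
  · exact index_dvd_two_iff.mpr ⟨1, fun b => Or.inr (h1 b)⟩
  obtain ⟨τ, hτ⟩ := not_forall.mp h1
  refine index_dvd_two_iff.mpr ⟨τ, fun σ => (h.aut_or σ).symm.imp_left fun h2 => ?_⟩
  change Fl E U (mp (σ * τ) E) (mp (σ * τ) U)
  rw [mp_mul, mp_mul]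
  exact fl_mp h2 ((h.aut_or τ).resolve_left hτ).symm

theorem big : {t : G | t * t = 1 ∧ t ≠ 1}.ncard = 315 ∧ Nat.card (MulAut G) ≤ 241920 := by
  classical
  haveI := Fintype.ofFinite (Subgroup G)
  have h' := h.symm
  have five : ∀ {E U : Subgroup G}, T2 Z E U S → ∀ Y, Pt U Y → (Finset.univ.filter fun X => Fl E U X Y).card = 5 :=
    fun h Y hY => by rw [← h.five hY, ← Set.ncard_coe_finset]; congr 1; ext; simp
  let x0 : {X // Pt E X} := ⟨E, 1, (cj_one _).symm⟩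
  let blk : Subgroup G → Finset {X // Pt E X} := fun Y => Finset.univ.filter fun x => Fl E U x.1 Y
  have hblk : ∀ Y, Pt U Y → (blk Y).card = 5 := fun Y hY => by
    rw [← five h Y hY]
    refine Finset.card_bij (fun x _ => x.1) (fun x hx => ?_) (fun _ _ _ _ e => Subtype.ext e) fun X hX => ?_
    · simpa [blk] using hx
    · have := (Finset.mem_filter.1 hX).2
      exact ⟨⟨X, this.pt⟩, by simpa [blk] using this, rfl⟩
  let B : Set (Finset {X // Pt E X}) := {b | ∃ Y, Pt U Y ∧ b = blk Y}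
  have hB : IsSteinerSystem 2 5 B := by
    refine ⟨by rintro _ ⟨Y, hY, rfl⟩; exact hblk Y hY, fun s hs => ?_⟩
    obtain ⟨x, y, hne, rfl⟩ := Finset.card_eq_two.1 hs
    obtain ⟨Y, h1, h2⟩ := h.collinear' x.2 y.2
    refine ⟨blk Y, ⟨⟨Y, h1.symm.pt, rfl⟩, ?_⟩, ?_⟩
    · intro z hz
      simp only [Finset.mem_insert, Finset.mem_singleton] at hz
      rcases hz with rfl | rfl <;> simpa [blk]
    · rintro _ ⟨⟨Y', -, rfl⟩, hs⟩
      have h3 := (Finset.mem_filter.1 (hs (Finset.mem_insert_self x {y}))).2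
      have h4 := (Finset.mem_filter.1 (hs (Finset.mem_insert_of_mem (Finset.mem_singleton_self y)))).2
      rw [h.uniq h3 h4 h1 h2 fun e => hne (Subtype.ext e)]
  have hα : Fintype.card {X // Pt E X} = 21 := by
    have c1 := Finset.card_mul_eq_card_mul (s := Finset.univ.erase x0)
      (t := Finset.univ.filter fun Y => Fl U E Y E) (fun x Y => Fl E U x.1 Y) (m := 1) (n := 4)
      (fun x hx => by
        obtain ⟨Y, h1, h2⟩ := h.collinear x.2
        refine Finset.card_eq_one.2 ⟨Y, Finset.eq_singleton_iff_unique_mem.2 ⟨?_, fun Y' hY' => ?_⟩⟩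
        · exact Finset.mem_bipartiteAbove _ |>.2 ⟨Finset.mem_filter.2 ⟨Finset.mem_univ _, h1.symm⟩, h2⟩
        · rw [Finset.mem_bipartiteAbove] at hY'
          exact h.uniq hY'.2 (Finset.mem_filter.1 hY'.1).2.symm h2 h1
            fun e => (Finset.mem_erase.1 hx).1 (Subtype.ext e))
      fun Y hY => by
        have h1 := (Finset.mem_filter.1 hY).2
        have : (Finset.univ.erase x0).bipartiteBelow (fun x Y => Fl E U x.1 Y) Y = (blk Y).erase x0 := by
          ext x; simp [blk, Finset.mem_bipartiteBelow]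
        rw [this, Finset.card_erase_of_mem (by simpa [blk] using h1.symm), hblk Y h1.pt]
    rw [five h' E x0.2, Finset.card_erase_of_mem (Finset.mem_univ _), Finset.card_univ] at c1
    omega
  constructor
  · have := WA.Te.ncard_rel {X | Pt E X} {t : G | t * t = 1 ∧ t ≠ 1} (fun X t => t ∈ X) (m := 15) (n := 1)
      (fun X hX => by
        have : {t | t ∈ {t : G | t * t = 1 ∧ t ≠ 1} ∧ t ∈ X} = (X : Set G) \ {1} :=
          Set.ext fun t => ⟨fun ht => ⟨ht.2, ht.1.2⟩, fun ht => ⟨⟨h.pt_ea hX t ht.1, ht.2⟩, ht.1⟩⟩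
        rw [this, Set.ncard_diff_singleton_of_mem (one_mem X), ← Nat.card_coe_set_eq]
        exact congrArg (· - 1) (h.pt_card hX))
      fun t ht => by
        obtain ⟨z, hz, z1⟩ := h.p.exists_z
        obtain ⟨k, rfl⟩ := h.p.conj_z h.hS h.hE h.hU hz z1 ht.1 ht.2
        have hk := conj_mem_cj k (h.p.ZE hz)
        exact Set.ncard_eq_one.mpr ⟨H8.cj k E, Set.eq_singleton_iff_unique_mem.mpr ⟨⟨⟨k, rfl⟩, hk⟩,
          fun X hX => h.pt_ti hX.1 ⟨k, rfl⟩ hX.2 hk ht.2⟩⟩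
    rw [← Nat.card_coe_set_eq, show Nat.card {X | Pt E X} = 21 from Nat.card_eq_fintype_card.trans hα] at this
    omega
  letI : MulAction (autP E U) {X // Pt E X} :=
    { smul := fun σ x => ⟨mp σ x.1, by obtain ⟨g, e⟩ := x.2; exact (fl_mp σ.2 ⟨g, e, rfl⟩).pt⟩
      one_smul := fun x => Subtype.ext (mp_one _)
      mul_smul := fun σ τ x => Subtype.ext (mp_mul _ _ _) }
  have sm : ∀ (σ : autP E U) (x : {X // Pt E X}), (σ • x).1 = mp σ x.1 := fun _ _ => rfl
  let φ : autP E U →* setSystemAut B := (MulAction.toPermHom _ {X // Pt E X}).codRestrict _ fun σ => by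
    refine CI.mem_aut_of_sub ?_
    rintro _ ⟨_, ⟨g, rfl⟩, rfl⟩
    refine ⟨mp σ (H8.cj g U), (fl_mp σ.2 ⟨g, rfl, rfl⟩).symm.pt, ?_⟩
    ext x
    simp only [blk, Finset.mem_smul_finset, Finset.mem_filter, Finset.mem_univ, true_and]
    constructor
    · rintro ⟨y, hy, rfl⟩
      exact fl_mp σ.2 hy
    · intro hx
      refine ⟨σ⁻¹ • x, ?_, smul_inv_smul σ x⟩
      simpa only [sm, ← mp_mul, coe_inv, inv_mul_cancel, mp_one] using fl_mp σ⁻¹.2 hx
  have hφ : Function.Injective φ := (injective_iff_map_eq_one φ).mpr fun σ hσ => by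
    have h1 : ∀ g, H8.cj (σ.1 g) (mp σ E) = H8.cj g E := fun g => (mp_cj _ _ _).symm.trans
      (congrArg (fun τ : setSystemAut B => (τ.1 ⟨H8.cj g E, g, rfl⟩).1) hσ)
    have h2 : mp σ E = E := by simpa only [map_one, cj_one] using h1 1
    have h3 : ∀ g, g⁻¹ * σ.1 g ∈ 𝐍(E) := fun g => cj_eq_self_iff.mp (by
      have := h1 g
      rw [h2] at this
      rw [cj_mul, this, cj_inv_cj])
    refine Subtype.ext (MulEquiv.ext fun g => (inv_mul_eq_one.mp (mem_bot.mp (h.core_bot.le fun k => ?_))).symm)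
    have := mul_mem (h3 (g * k⁻¹)) (inv_mem (h3 k⁻¹))
    simpa [mul_assoc] using this
  have c1 := Nat.card_le_card_of_injective φ hφ
  rw [L34.card_aut_21 hα hB] at c1
  rw [← (autP E U).card_mul_index]
  exact Nat.mul_le_mul c1 (Nat.le_of_dvd two_pos h.index_autP)

end T2

end Cfsg.Agent.H2.L4
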