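import Mathlib

/-! A small verified search framework for set systems on `Fin n`, subsets coded by bit masks. -/

set_option autoImplicit false

namespace Cfsg.Agent.H2.Chk

open Finset
open scoped Pointwise

/-- kernel friendly conditional -/
scoped notation "BIF " c " THEN " a " ELSE " b:max => @Bool.rec (fun _ => _) b a c

theorem brec_eq {β : Type} (c : Bool) (a b : β) : (BIF c THEN a ELSE b) = cond c a b := by
  cases c <;> rfl

/-- kernel friendly `testBit` -/
scoped notation "TB(" m ", " i ")" => Nat.beq (Nat.land (Nat.shiftRight m i) 1) 1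

theorem bit_eq (m i : ℕ) : Nat.land (Nat.shiftRight m i) 1 = cond (m.testBit i) 1 0 := by
  change (m >>> i) &&& 1 = _
  rw [Nat.and_one_is_mod, Nat.testBit, Nat.one_and_eq_mod_two]
  rcases Nat.mod_two_eq_zero_or_one (m >>> i) with h | h <;> simp [h]

theorem tb_eq (m i : ℕ) : TB(m, i) = m.testBit i := by
  rw [bit_eq]; cases m.testBit i <;> rfl

/-- the subset of `Fin n` coded by the bits of `m` -/
def toF (n m : ℕ) : Finset (Fin n) := univ.filter (fun i => m.testBit i.val = true)

theorem mem_toF {n m : ℕ} {i : Fin n} : i ∈ toF n m ↔ m.testBit i.val = true := by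
  simp [toF]

/-- mask of a list of points -/
noncomputable def mk (l : List ℕ) : ℕ :=
  List.rec 0 (fun x _ a => Nat.lor a (Nat.shiftLeft 1 x)) l

theorem testBit_mk (l : List ℕ) (i : ℕ) : (mk l).testBit i = true ↔ i ∈ l := by
  induction l with
  | nil =>
    have : mk [] = 0 := rfl
    simp [this]
  | cons x l ih =>
    have : mk (x :: l) = mk l ||| (1 <<< x) := rfl
    rw [this, Nat.testBit_or, Bool.or_eq_true, ih, Nat.one_shiftLeft, Nat.testBit_two_pow]
    simp only [decide_eq_true_eq, List.mem_cons]
    tauto

theorem mem_toF_mk {n : ℕ} {l : List ℕ} {i : Fin n} : i ∈ toF n (mk l) ↔ i.val ∈ l := by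
  rw [mem_toF, testBit_mk]

/-- number of points of the list `l` in the mask `b` -/
noncomputable def cnt (b : ℕ) (l : List ℕ) : ℕ :=
  List.rec 0 (fun x _ a => Nat.add (Nat.land (Nat.shiftRight b x) 1) a) l

theorem cnt_eq_countP (b : ℕ) (l : List ℕ) : cnt b l = l.countP (fun x => b.testBit x) := by
  induction l with
  | nil => rfl
  | cons x l ih =>
    have : cnt b (x :: l) = Nat.land (Nat.shiftRight b x) 1 + cnt b l := rfl
    rw [this, List.countP_cons, ih, bit_eq]
    cases b.testBit x <;> simp [add_comm]

theorem card_inter_mk {n : ℕ} (b : ℕ) {l : List ℕ} (hl : l.Nodup) (hn : ∀ x ∈ l, x < n) :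
    (toF n b ∩ toF n (mk l)).card = cnt b l := by
  rw [cnt_eq_countP, List.countP_eq_length_filter, ← List.toFinset_card_of_nodup (hl.filter _),
    ← Finset.card_map Fin.valEmbedding]
  congr 1
  ext x
  simp only [mem_map, mem_inter, mem_toF, testBit_mk, Fin.valEmbedding_apply, List.mem_toFinset,
    List.mem_filter]
  constructor
  · rintro ⟨a, ⟨h1, h2⟩, rfl⟩
    exact ⟨h2, h1⟩
  · rintro ⟨h1, h2⟩
    exact ⟨⟨x, hn x h1⟩, ⟨h2, h1⟩, rfl⟩

theorem card_toF_mk {n : ℕ} {l : List ℕ} (hl : l.Nodup) (hn : ∀ x ∈ l, x < n) :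
    (toF n (mk l)).card = l.length := by
  rw [← List.toFinset_card_of_nodup hl, ← Finset.card_map Fin.valEmbedding]
  congr 1
  ext x
  simp only [mem_map, mem_toF, testBit_mk, Fin.valEmbedding_apply, List.mem_toFinset]
  constructor
  · rintro ⟨a, h2, rfl⟩
    exact h2
  · intro h1
    exact ⟨⟨x, hn x h1⟩, h1, rfl⟩

theorem card_toF (n b : ℕ) : (toF n b).card = cnt b (List.range n) := by
  rw [← card_inter_mk (n := n) b List.nodup_range (fun x hx => List.mem_range.1 hx)]
  congr 1
  ext x
  simp [mem_toF_mk]

theorem toF_and (n b c : ℕ) : toF n (b &&& c) = toF n b ∩ toF n c := by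
  ext x; simp [mem_toF]

theorem toF_or (n b c : ℕ) : toF n (b ||| c) = toF n b ∪ toF n c := by
  ext x; simp [mem_toF]

theorem toF_xor (n b c : ℕ) : toF n (b ^^^ c) = symmDiff (toF n b) (toF n c) := by
  ext x
  simp only [mem_toF, Nat.testBit_xor, mem_symmDiff]
  cases b.testBit x <;> cases c.testBit x <;> simp

theorem toF_injOn {n a b : ℕ} (ha : a < 2 ^ n) (hb : b < 2 ^ n) (h : toF n a = toF n b) : a = b := by
  apply Nat.eq_of_testBit_eq
  intro i
  by_cases hi : i < n
  · have := Finset.ext_iff.1 h ⟨i, hi⟩
    simp only [mem_toF] at this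
    exact Bool.eq_iff_iff.2 this
  · have h2 : 2 ^ n ≤ 2 ^ i := Nat.pow_le_pow_right (by norm_num) (not_lt.1 hi)
    rw [Nat.testBit_lt_two_pow (ha.trans_le h2), Nat.testBit_lt_two_pow (hb.trans_le h2)]

theorem subset_toF_of_and_eq {n a b : ℕ} (h : a &&& b = a) : toF n a ⊆ toF n b := by
  rw [← h, toF_and]; exact inter_subset_right

/-- swap the bits `i` and `j` -/
noncomputable def sw (m i j : ℕ) : ℕ :=
  BIF Nat.beq (Nat.land (Nat.shiftRight m i) 1) (Nat.land (Nat.shiftRight m j) 1) THEN m
  ELSE (Nat.xor m (Nat.lor (Nat.shiftLeft 1 i) (Nat.shiftLeft 1 j)))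

theorem sw_eq (m i j : ℕ) :
    sw m i j = cond (m.testBit i == m.testBit j) m (m ^^^ ((1 <<< i) ||| (1 <<< j))) := by
  unfold sw
  rw [brec_eq, bit_eq, bit_eq]
  cases m.testBit i <;> cases m.testBit j <;> rfl

theorem toF_sw {n : ℕ} (m : ℕ) (i j : Fin n) :
    toF n (sw m i j) = Equiv.swap i j • toF n m := by
  ext x
  rw [← Finset.inv_smul_mem_iff, Equiv.swap_inv, Equiv.Perm.smul_def, mem_toF, mem_toF]
  rw [sw_eq]
  by_cases hi : x = i
  · subst hi
    rw [Equiv.swap_apply_left]
    cases h1 : m.testBit x <;> cases h2 : m.testBit j <;>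
      simp [h1, Nat.one_shiftLeft, Nat.testBit_two_pow]
  by_cases hj : x = j
  · subst hj
    rw [Equiv.swap_apply_right]
    cases h1 : m.testBit x <;> cases h2 : m.testBit i <;>
      simp [h1, Nat.one_shiftLeft, Nat.testBit_two_pow]
  rw [Equiv.swap_apply_of_ne_of_ne hi hj]
  have hi' : i.val ≠ x.val := fun e => hi (Fin.ext e.symm)
  have hj' : j.val ≠ x.val := fun e => hj (Fin.ext e.symm)
  cases h1 : m.testBit j <;> cases h2 : m.testBit i <;>
      simp [Nat.one_shiftLeft, hi', hj']

/-- apply a list of swaps -/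
noncomputable def sws (l : List (ℕ × ℕ)) (m : ℕ) : ℕ := List.rec m (fun p _ a => sw a p.1 p.2) l

/-- membership test for lists of naturals -/
noncomputable def el (l : List ℕ) (x : ℕ) : Bool :=
  List.rec false (fun y _ a => BIF Nat.beq x y THEN true ELSE a) l

theorem mem_of_el {l : List ℕ} {x : ℕ} (h : el l x = true) : x ∈ l := by
  induction l with
  | nil => exact absurd h Bool.false_ne_true
  | cons y l ih =>
    have : el (y :: l) x = cond (Nat.beq x y) true (el l x) := brec_eq _ _ _
    rw [this] at h
    cases h1 : Nat.beq x y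
    · rw [h1] at h
      exact List.mem_cons_of_mem _ (ih h)
    · rw [Nat.eq_of_beq_eq_true h1]; exact List.mem_cons_self

theorem el_of_mem {l : List ℕ} {x : ℕ} (h : x ∈ l) : el l x = true := by
  induction l with
  | nil => simp at h
  | cons y l ih =>
    have : el (y :: l) x = cond (Nat.beq x y) true (el l x) := brec_eq _ _ _
    rw [this]
    rcases List.mem_cons.1 h with rfl | h
    · simp
    · rw [ih h]; cases Nat.beq x y <;> rfl

/-- `all` with `cond` -/
noncomputable def al {β : Type} (l : List β) (p : β → Bool) : Bool :=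
  List.rec true (fun y _ a => BIF p y THEN a ELSE false) l

theorem al_iff {β : Type} {l : List β} {p : β → Bool} : al l p = true ↔ ∀ x ∈ l, p x = true := by
  induction l with
  | nil => exact ⟨fun _ _ h => absurd h List.not_mem_nil, fun _ => rfl⟩
  | cons y l ih =>
    have : al (y :: l) p = cond (p y) (al l p) false := brec_eq _ _ _
    rw [this]
    cases h1 : p y <;> simp [h1, ih]

/-- `map` by the recursor -/
noncomputable def mp {β γ : Type} (f : β → γ) (l : List β) : List γ :=
  List.rec [] (fun x _ a => f x :: a) l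

theorem mp_eq {β γ : Type} (f : β → γ) (l : List β) : mp f l = l.map f := by
  induction l with
  | nil => rfl
  | cons x l ih => exact congrArg (f x :: ·) ih

/-- `filter` by the recursor -/
noncomputable def fl {β : Type} (p : β → Bool) (l : List β) : List β :=
  List.rec [] (fun x _ a => BIF p x THEN x :: a ELSE a) l

theorem fl_eq {β : Type} (p : β → Bool) (l : List β) : fl p l = l.filter p := by
  induction l with
  | nil => rfl
  | cons x l ih =>
    have : fl p (x :: l) = cond (p x) (x :: fl p l) (fl p l) := brec_eq _ _ _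
    rw [this, ih, List.filter_cons]
    cases p x <;> rfl

/-- evaluate a number before going on -/
noncomputable def force {β : Type} (x : ℕ) (k : ℕ → β) : β :=
  Nat.rec (k 0) (fun m _ => k (Nat.succ m)) x

theorem force_eq {β : Type} (x : ℕ) (k : ℕ → β) : force x k = k x := by
  cases x <;> rfl

section Framework

variable {n : ℕ} (P Q : Set (Finset (Fin n)) → Prop)

/-- every system with property `P` containing the sets coded by `L` has property `Q` -/
def Claim (L : List ℕ) : Prop := ∀ B, P B → (∀ m ∈ L, toF n m ∈ B) → Q B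

variable (vs : ℕ → ℕ → Bool) (cands : List ℕ → List ℕ → Option (List ℕ))

/-- soundness data -/
structure Sound : Prop where
  lt : ∀ i j, vs i j = true → i < n ∧ j < n
  hP : ∀ i j : Fin n, vs i j = true → ∀ B, P B → P (Equiv.swap i j • B)
  hQ : ∀ i j : Fin n, vs i j = true → ∀ B, Q (Equiv.swap i j • B) → Q B
  hc : ∀ L s l B, cands L s = some l → P B → (∀ m ∈ L, toF n m ∈ B) → ∃ c ∈ l, toF n c ∈ B

/-- forced steps -/
noncomputable def chain (fin : List ℕ → Bool) (steps : List (List ℕ)) : List ℕ → Bool :=
  List.rec fin (fun s _ rest L =>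
    match cands L s with
    | none => false
    | some [] => true
    | some [c] => force c (fun c' => rest (c' :: L))
    | some (_ :: _ :: _) => false) steps

/-- reduce to an already established claim by a list of swaps -/
noncomputable def red (Ls : List (List ℕ)) (h : List (ℕ × ℕ) × ℕ) (L : List ℕ) : Bool :=
  al h.1 (fun p => vs p.1 p.2) &&
    match Ls[h.2]? with
    | none => false
    | some L' => al L' (el (mp (sws h.1) L))

/-- branching step -/
noncomputable def branch (Ls : List (List ℕ)) (s : List ℕ) (h : ℕ → List (ℕ × ℕ) × ℕ) (L : List ℕ) : Bool :=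
  match cands L s with
  | none => false
  | some l => al l (fun c => red vs Ls (h c) (c :: L))

variable {P Q vs cands}

theorem claim_sws (S : Sound P Q vs cands) (l : List (ℕ × ℕ))
    (hl : ∀ p ∈ l, vs p.1 p.2 = true) (L : List ℕ) (h : Claim P Q (L.map (sws l))) :
    Claim P Q L := by
  induction l generalizing L with
  | nil =>
    have : L.map (sws []) = L := by
      have : sws [] = id := rfl
      rw [this, List.map_id]
    rwa [this] at h
  | cons p l ih =>
    apply ih (fun q hq => hl q (List.mem_cons_of_mem _ hq))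
    have hp := hl p List.mem_cons_self
    obtain ⟨h1, h2⟩ := S.lt _ _ hp
    intro B hB hL
    apply S.hQ ⟨p.1, h1⟩ ⟨p.2, h2⟩ hp
    apply h _ (S.hP ⟨p.1, h1⟩ ⟨p.2, h2⟩ hp B hB)
    intro m hm
    obtain ⟨m', hm', rfl⟩ := List.mem_map.1 hm
    have : sws (p :: l) m' = sw (sws l m') (⟨p.1, h1⟩ : Fin n) (⟨p.2, h2⟩ : Fin n) := rfl
    rw [this, toF_sw]
    exact Set.smul_mem_smul_set (hL _ (List.mem_map_of_mem hm'))

theorem claim_mono {L L' : List ℕ} (h : ∀ m ∈ L', m ∈ L) (h' : Claim P Q L') : Claim P Q L :=
  fun B hB hL => h' B hB fun m hm => hL m (h m hm)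

theorem claim_red (S : Sound P Q vs cands) {Ls : List (List ℕ)} (hLs : ∀ L ∈ Ls, Claim P Q L)
    (h : List (ℕ × ℕ) × ℕ) (L : List ℕ) (hr : red vs Ls h L = true) : Claim P Q L := by
  unfold red at hr
  rw [Bool.and_eq_true, al_iff] at hr
  obtain ⟨h1, h2⟩ := hr
  split at h2
  · exact absurd h2 (by simp)
  · rename_i L' hL'
    rw [al_iff, mp_eq] at h2
    exact claim_sws S h.1 h1 L (claim_mono (fun m hm => mem_of_el (h2 m hm))
      (hLs _ (List.mem_of_getElem? hL')))

theorem claim_cands (S : Sound P Q vs cands) {L s l : List ℕ} (h : cands L s = some l)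
    (hl : ∀ c ∈ l, Claim P Q (c :: L)) : Claim P Q L := by
  intro B hB hL
  obtain ⟨c, hc, hcB⟩ := S.hc L s l B h hB hL
  refine hl c hc B hB fun m hm => ?_
  rcases List.mem_cons.1 hm with rfl | hm
  · exact hcB
  · exact hL m hm

theorem claim_branch (S : Sound P Q vs cands) {Ls : List (List ℕ)} (hLs : ∀ L ∈ Ls, Claim P Q L)
    (s : List ℕ) (h : ℕ → List (ℕ × ℕ) × ℕ) (L : List ℕ)
    (hr : branch vs cands Ls s h L = true) : Claim P Q L := by
  unfold branch at hr
  split at hr
  · exact absurd hr (by simp)
  · rename_i l hl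
    rw [al_iff] at hr
    exact claim_cands S hl fun c hc => claim_red S hLs _ _ (hr c hc)

theorem claim_chain (S : Sound P Q vs cands) {fin : List ℕ → Bool}
    (hfin : ∀ L, fin L = true → Claim P Q L) (steps : List (List ℕ)) (L : List ℕ)
    (h : chain cands fin steps L = true) : Claim P Q L := by
  induction steps generalizing L with
  | nil => exact hfin L h
  | cons s steps ih =>
    have e : chain cands fin (s :: steps) L = match cands L s with
      | none => false
      | some [] => true
      | some [c] => force c (fun c' => chain cands fin steps (c' :: L))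
      | some (_ :: _ :: _) => false := rfl
    rw [e] at h
    split at h
    · exact absurd h (by simp)
    · rename_i hl
      exact claim_cands S hl (by simp)
    · rename_i c hl
      refine claim_cands S hl fun c' hc' => ?_
      rw [List.mem_singleton.1 hc']
      rw [force_eq] at h
      exact ih _ h
    · exact absurd h (by simp)

/-- node ending in a branching -/
theorem node_branch (S : Sound P Q vs cands) {Ls : List (List ℕ)} (hLs : ∀ L ∈ Ls, Claim P Q L)
    (steps : List (List ℕ)) (s : List ℕ) (h : ℕ → List (ℕ × ℕ) × ℕ) (L : List ℕ)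
    (hr : chain cands (branch vs cands Ls s h) steps L = true) : Claim P Q L :=
  claim_chain S (fun L hL => claim_branch S hLs s h L hL) steps L hr

/-- node ending in a reduction -/
theorem node_red (S : Sound P Q vs cands) {L0 : List ℕ} (hL0 : Claim P Q L0)
    (steps : List (List ℕ)) (h : List (ℕ × ℕ)) (L : List ℕ)
    (hr : chain cands (red vs [L0] (h, 0)) steps L = true) : Claim P Q L :=
  claim_chain S (fun L hL => claim_red S (by simpa using hL0) _ L hL) steps L hr

/-- node ending in a contradiction -/
theorem node_dead (S : Sound P Q vs cands)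
    (steps : List (List ℕ)) (L : List ℕ)
    (hr : chain cands (fun _ => false) steps L = true) : Claim P Q L :=
  claim_chain S (fun _ hL => absurd hL (by simp)) steps L hr

theorem all_nil : ∀ L ∈ ([] : List (List ℕ)), Claim P Q L := by simp

theorem all_cons {L : List ℕ} {Ls : List (List ℕ)} (h : Claim P Q L) (hs : ∀ L ∈ Ls, Claim P Q L) :
    ∀ L' ∈ L :: Ls, Claim P Q L' := by
  intro L' hL'
  rcases List.mem_cons.1 hL' with rfl | h'
  · exact h
  · exact hs _ h'

end Framework

/-- untrusted hints: the points of a mask -/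
noncomputable def bitsOf (n m : ℕ) : List ℕ := fl (fun x => TB(m, x)) (List.range n)

theorem bitsOf_eq (n m : ℕ) : bitsOf n m = (List.range n).filter (fun x => m.testBit x) := by
  simp only [bitsOf, fl_eq, tb_eq]

/-- untrusted hints: swaps carrying `c` to `r` -/
noncomputable def autoSw (n c r : ℕ) : List (ℕ × ℕ) :=
  (bitsOf n (Nat.land c (Nat.xor c r))).zip (bitsOf n (Nat.land r (Nat.xor c r)))

/-- untrusted hints: table lookup with automatic default -/
noncomputable def hint (n : ℕ) (tbl : List (ℕ × List (ℕ × ℕ) × ℕ)) (r : ℕ) (c : ℕ) :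
    List (ℕ × ℕ) × ℕ :=
  List.rec (autoSw n c r, 0) (fun e _ a => BIF Nat.beq e.1 c THEN e.2 ELSE a) tbl

/-- all sublists of a given length, consed in reverse onto `acc`, filtered by `p` -/
noncomputable def subs (p : List ℕ → Bool) (av : List ℕ) : ℕ → List ℕ → List ℕ → List ℕ :=
  List.rec
    (fun r acc out => Nat.rec (BIF p acc THEN mk acc :: out ELSE out) (fun _ _ => out) r)
    (fun x _ rest r acc out => Nat.rec (BIF p acc THEN mk acc :: out ELSE out)
      (fun r' _ => rest r' (x :: acc) (rest (Nat.succ r') acc out)) r) av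

theorem subs_mono (p : List ℕ → Bool) (av : List ℕ) (r : ℕ) (acc out : List ℕ) (m : ℕ)
    (hm : m ∈ out) : m ∈ subs p av r acc out := by
  induction av generalizing r acc out with
  | nil =>
    cases r with
    | zero =>
      change m ∈ (BIF p acc THEN mk acc :: out ELSE out)
      cases p acc <;> simp [hm]
    | succ r => exact hm
  | cons x av ih =>
    cases r with
    | zero =>
      change m ∈ (BIF p acc THEN mk acc :: out ELSE out)
      cases p acc <;> simp [hm]
    | succ r => exact ih _ _ _ (ih _ _ _ hm)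

theorem mem_subs (p : List ℕ → Bool) (av : List ℕ) (u acc out : List ℕ) (hu : u.Sublist av)
    (hp : p (u.reverse ++ acc) = true) :
    mk (u.reverse ++ acc) ∈ subs p av u.length acc out := by
  induction hu generalizing acc out with
  | slnil =>
    change _ ∈ (BIF p acc THEN mk acc :: out ELSE out)
    simp only [List.reverse_nil, List.nil_append] at hp ⊢
    rw [hp]; simp
  | @cons u av x _ ih =>
    cases u with
    | nil =>
      change _ ∈ (BIF p acc THEN mk acc :: out ELSE out)
      simp only [List.reverse_nil, List.nil_append] at hp ⊢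
      rw [hp]; simp
    | cons y u =>
      exact subs_mono p av u.length (x :: acc) _ _ (ih acc out hp)
  | @cons_cons u av x _ ih =>
    have e : (x :: u).reverse ++ acc = u.reverse ++ (x :: acc) := by simp
    rw [e] at hp ⊢
    exact ih (x :: acc) _ hp

end Cfsg.Agent.H2.Chk
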