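import Mathlib

/-! Simplicity criteria for permutation groups; groups of prime degree (Chapman's argument). -/

set_option autoImplicit false

namespace Cfsg.Agent.H2

open MulAction Subgroup

variable {G α : Type*} [Group G] [MulAction G α]

theorem fixedPoints_ne_univ_of_ne_bot [FaithfulSMul G α] {N : Subgroup G} (hN : N ≠ ⊥) :
    fixedPoints N α ≠ Set.univ := by
  intro h
  apply hN
  rw [eq_bot_iff]
  intro n hn
  rw [Subgroup.mem_bot]
  apply FaithfulSMul.eq_of_smul_eq_smul (α := α)
  intro x
  have : x ∈ fixedPoints N α := h ▸ Set.mem_univ x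
  rw [one_smul]
  exact this ⟨n, hn⟩

theorem normal_pretransitive [FaithfulSMul G α] [IsPreprimitive G α] (N : Subgroup G) [N.Normal]
    (hN : N ≠ ⊥) : IsPretransitive N α :=
  IsQuasiPreprimitive.isPretransitive_of_normal (fixedPoints_ne_univ_of_ne_bot hN)

theorem card_dvd_of_pretransitive [Finite G] [IsPretransitive G α] [Nonempty α] :
    Nat.card α ∣ Nat.card G := by
  obtain ⟨a⟩ := ‹Nonempty α›
  rw [← index_stabilizer_of_transitive G a]
  exact index_dvd_card _

theorem card_eq_card_mul_stabilizer [IsPretransitive G α] (a : α) :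
    Nat.card G = Nat.card α * Nat.card (stabilizer G a) := by
  rw [← index_stabilizer_of_transitive G a, mul_comm, card_mul_index]

theorem eq_top_of_pretransitive_of_stabilizer_le (N : Subgroup G) [IsPretransitive N α] (a : α)
    (h : stabilizer G a ≤ N) : N = ⊤ := by
  rw [eq_top_iff]
  intro g _
  obtain ⟨n, hn⟩ := exists_smul_eq N a (g • a)
  have : (n : G)⁻¹ * g ∈ stabilizer G a := by
    rw [mem_stabilizer_iff, mul_smul, ← hn, Subgroup.smul_def, inv_smul_smul]
  have := N.mul_mem n.2 (h this)
  simpa using this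

/-- primitive, faithful, simple point stabilizer, no regular normal subgroup ⇒ simple -/
theorem simple_of_stabilizer_simple [FaithfulSMul G α] [IsPreprimitive G α] (a : α)
    [hs : IsSimpleGroup (stabilizer G a)]
    (hreg : ∀ N : Subgroup G, N.Normal → IsPretransitive N α → N ⊓ stabilizer G a ≠ ⊥) :
    IsSimpleGroup G := by
  have : Nontrivial G := by
    obtain ⟨x, y, hxy⟩ := hs.toNontrivial
    exact ⟨x, y, fun h => hxy (Subtype.ext h)⟩
  refine ⟨fun N hN => ?_⟩
  by_cases h : N = ⊥
  · exact Or.inl h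
  right
  have ht := normal_pretransitive (α := α) N h
  rcases hs.eq_bot_or_eq_top_of_normal (N.subgroupOf (stabilizer G a)) inferInstance with h1 | h1
  · rw [subgroupOf_eq_bot, disjoint_iff] at h1
    exact absurd h1 (hreg N hN ht)
  · rw [subgroupOf_eq_top] at h1
    exact eq_top_of_pretransitive_of_stabilizer_le N a h1

theorem card_eq_of_regular (N : Subgroup G) [IsPretransitive N α] (a : α)
    (h : N ⊓ stabilizer G a = ⊥) : Nat.card N = Nat.card α := by
  have : stabilizer N a = ⊥ := by
    rw [eq_bot_iff]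
    intro n hn
    have : (n : G) ∈ N ⊓ stabilizer G a := ⟨n.2, hn⟩
    rw [h, Subgroup.mem_bot] at this
    exact Subgroup.mem_bot.2 (Subtype.ext this)
  rw [card_eq_card_mul_stabilizer (G := N) a, this]
  simp

/-- a 2-transitive group whose degree has two prime divisors has no regular normal subgroup -/
theorem no_regular_normal_of_two_trans [Finite α] (a : α)
    (h2 : ∀ x y : α, x ≠ a → y ≠ a → ∃ g : G, g • a = a ∧ g • x = y)
    {p q : ℕ} (hp : p.Prime) (hq : q.Prime) (hpq : p ≠ q) (hpα : p ∣ Nat.card α)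
    (hqα : q ∣ Nat.card α) (N : Subgroup G) (hN : N.Normal) (ht : IsPretransitive N α) :
    N ⊓ stabilizer G a ≠ ⊥ := by
  intro h
  have hc := card_eq_of_regular N a h
  have : Finite N := by
    apply Nat.finite_of_card_ne_zero
    rw [hc]
    have : Nonempty α := ⟨a⟩
    exact Nat.card_pos.ne'
  have := Fact.mk hp
  have := Fact.mk hq
  obtain ⟨x, hx⟩ := exists_prime_orderOf_dvd_card' (G := N) p (hc ▸ hpα)
  obtain ⟨y, hy⟩ := exists_prime_orderOf_dvd_card' (G := N) q (hc ▸ hqα)
  have key : ∀ n : G, n ∈ N → n • a = a → n = 1 := fun n hn hna => by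
    have : n ∈ N ⊓ stabilizer G a := ⟨hn, hna⟩
    rwa [h, Subgroup.mem_bot] at this
  have hx1 : (x : G) • a ≠ a := fun e => by
    have : x = 1 := Subtype.ext (key _ x.2 e)
    rw [this, orderOf_one] at hx
    exact hp.one_lt.ne hx
  have hy1 : (y : G) • a ≠ a := fun e => by
    have : y = 1 := Subtype.ext (key _ y.2 e)
    rw [this, orderOf_one] at hy
    exact hq.one_lt.ne hy
  obtain ⟨g, hga, hg⟩ := h2 _ _ hx1 hy1
  have hga' : g⁻¹ • a = a := by rw [inv_smul_eq_iff, hga]
  have : (y : G)⁻¹ * (g * x * g⁻¹) = 1 := by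
    apply key _ (N.mul_mem (N.inv_mem y.2) (hN.conj_mem _ x.2 g))
    rw [mul_smul, mul_smul, mul_smul, hga', hg, inv_smul_smul]
  rw [inv_mul_eq_one] at this
  have h3 : orderOf (y : G) = orderOf (x : G) := by
    rw [this]
    exact (MulAut.conj g).orderOf_eq x
  rw [Subgroup.orderOf_coe, Subgroup.orderOf_coe, hx, hy] at h3
  exact hpq h3.symm

section PrimeDegree

variable [FaithfulSMul G α] {p : ℕ} [hp : Fact p.Prime]

theorem pretransitive_of_card_prime (hα : Nat.card α = p) (Q : Subgroup G) (hQ : Nat.card Q = p) :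
    IsPretransitive Q α := by
  have hQb : Q ≠ ⊥ := by
    rintro rfl
    rw [Subgroup.card_bot] at hQ
    exact hp.out.one_lt.ne hQ
  have : Finite α := Nat.finite_of_card_ne_zero (hα ▸ hp.out.ne_zero)
  obtain ⟨a, ha⟩ := (Set.ne_univ_iff_exists_notMem _).1 (fixedPoints_ne_univ_of_ne_bot (α := α) hQb)
  rw [isPretransitive_iff_orbit_eq_univ a]
  have h1 : (stabilizer Q a).index ∣ p := hQ ▸ index_dvd_card _
  rw [index_stabilizer] at h1
  rcases (Nat.dvd_prime hp.out).1 h1 with h | h
  · exfalso
    apply ha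
    obtain ⟨b, hb⟩ := Set.ncard_eq_one.1 h
    intro q
    have h1 : q • a ∈ orbit Q a := mem_orbit a q
    have h2 : a ∈ orbit Q a := mem_orbit_self a
    rw [hb, Set.mem_singleton_iff] at h1 h2
    rw [h1, h2]
  · rw [Set.eq_univ_iff_ncard, h, hα]

theorem centralizer_le_of_card_prime (hα : Nat.card α = p) (Q : Subgroup G) (hQ : Nat.card Q = p) :
    centralizer (Q : Set G) ≤ Q := by
  have ht := pretransitive_of_card_prime hα Q hQ
  have : Nonempty α := (Nat.card_ne_zero.1 (hα ▸ hp.out.ne_zero)).1
  obtain ⟨a⟩ := this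
  have hcyc : IsCyclic Q := isCyclic_of_prime_card hQ
  intro g hg
  obtain ⟨q, hq⟩ := exists_smul_eq Q a (g • a)
  have : g = q := by
    apply FaithfulSMul.eq_of_smul_eq_smul (α := α)
    intro x
    obtain ⟨r, rfl⟩ := exists_smul_eq Q a x
    have e1 : (r : G) * g = g * r := hg r r.2
    have e2 : (q : G) * r = r * q := by
      have := hcyc.isMulCommutative.is_comm.comm q r
      exact congrArg Subtype.val this
    rw [Subgroup.smul_def, ← mul_smul, ← e1, mul_smul, ← hq, ← mul_smul (q : G), e2, mul_smul]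
    rfl
  rw [this]
  exact q.2

theorem card_normalizer_of_card_prime [Finite G] (hα : Nat.card α = p) (Q : Subgroup G)
    (hQ : Nat.card Q = p) : ∃ r, r ∣ p - 1 ∧ Nat.card (normalizer (Q : Set G)) = p * r := by
  have hcyc : IsCyclic Q := isCyclic_of_prime_card hQ
  have hC : centralizer (Q : Set G) = Q := by
    refine le_antisymm (centralizer_le_of_card_prime hα Q hQ) ?_
    have := hcyc.isMulCommutative
    exact Q.le_centralizer
  have key := card_dvd_of_injective _ (QuotientGroup.kerLift_injective Q.normalizerMonoidHom)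
  rw [normalizerMonoidHom_ker, ← index, hcyc.card_mulAut, hQ, Nat.totient_prime hp.out, hC] at key
  refine ⟨_, key, ?_⟩
  rw [← card_mul_index (Q.subgroupOf (normalizer (Q : Set G))),
    Nat.card_congr (subgroupOfEquivOfLe le_normalizer).toEquiv, hQ]

/-- The congruence: if `|G| = p * m` with `p ∤ m`, then `m = n * r` with `n ≡ 1 [MOD p]`,
`r ∣ p - 1` and `|N(Q)| = p * r`. -/
theorem sylow_data_of_prime_degree [Finite G] (hα : Nat.card α = p) {m : ℕ}
    (hG : Nat.card G = p * m) (hm : ¬ p ∣ m) (Q : Subgroup G) (hQ : Nat.card Q = p) :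
    ∃ n r, m = n * r ∧ n ≡ 1 [MOD p] ∧ r ∣ p - 1 ∧
      Nat.card (normalizer (Q : Set G)) = p * r := by
  obtain ⟨r, hr, hN⟩ := card_normalizer_of_card_prime hα Q hQ
  have hi : Q.index = m := by
    have := card_mul_index Q
    rw [hQ, hG] at this
    exact Nat.eq_of_mul_eq_mul_left hp.out.pos this
  have hpQ : IsPGroup p Q := IsPGroup.of_card (n := 1) (by rw [hQ, pow_one])
  let P : Sylow p G := hpQ.toSylow (hi ▸ hm)
  have h1 := card_sylow_modEq_one p G
  rw [P.card_eq_index_normalizer] at h1
  have h2 := card_mul_index (normalizer (Q : Set G))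
  rw [hN, hG, mul_assoc] at h2
  refine ⟨_, r, ?_, h1, hr, hN⟩
  rw [mul_comm]
  exact (Nat.eq_of_mul_eq_mul_left hp.out.pos h2).symm

theorem exists_subgroup_card_prime [Finite G] (h : p ∣ Nat.card G) :
    ∃ Q : Subgroup G, Nat.card Q = p := by
  obtain ⟨Q, hQ⟩ := Sylow.exists_subgroup_card_pow_prime (G := G) p (n := 1) (by simpa using h)
  exact ⟨Q, by simpa using hQ⟩

/-- Chapman's simplicity criterion for transitive groups of prime degree. -/
theorem simple_of_prime_degree [Finite G] [IsPretransitive G α] (hα : Nat.card α = p) {m r : ℕ}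
    (hG : Nat.card G = p * m) (hm : ¬ p ∣ m) (hr : r.Prime) (hmr : m ≠ r)
    (hnum : ∀ n s, m = n * s → n ≡ 1 [MOD p] → s ∣ p - 1 → s = r) : IsSimpleGroup G := by
  have hprim : IsPreprimitive G α := IsPreprimitive.of_prime_card (hα ▸ hp.out)
  have hne : Nonempty α := (Nat.card_ne_zero.1 (hα ▸ hp.out.ne_zero)).1
  have : Nontrivial G := by
    rw [← Finite.one_lt_card_iff_nontrivial, hG]
    have := hp.out.one_lt
    have : 0 < m := Nat.pos_of_ne_zero (by rintro rfl; exact hm (dvd_zero _))
    nlinarith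
  refine ⟨fun H hH => ?_⟩
  by_cases h : H = ⊥
  · exact Or.inl h
  right
  have ht := normal_pretransitive (α := α) H h
  have hpH : p ∣ Nat.card H := by
    have h5 := card_dvd_of_pretransitive (G := H) (α := α)
    rwa [hα] at h5
  obtain ⟨m', hm'⟩ := hpH
  have hm'm : m' ∣ m := by
    have := card_subgroup_dvd_card H
    rw [hm', hG] at this
    exact Nat.dvd_of_mul_dvd_mul_left hp.out.pos this
  have hpm' : ¬ p ∣ m' := fun e => hm (e.trans hm'm)
  obtain ⟨Q', hQ'⟩ := exists_subgroup_card_prime (G := H) (p := p) ⟨m', hm'⟩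
  have hi : Q'.index = m' := by
    have := card_mul_index Q'
    rw [hQ', hm'] at this
    exact Nat.eq_of_mul_eq_mul_left hp.out.pos this
  have hpQ : IsPGroup p Q' := IsPGroup.of_card (n := 1) (by rw [hQ', pow_one])
  let P : Sylow p H := hpQ.toSylow (hi ▸ hpm')
  have hfr := P.normalizer_sup_eq_top
  set Q : Subgroup G := Q'.map H.subtype with hQdef
  have hQ : Nat.card Q = p := by rw [hQdef, card_map_of_injective H.subtype_injective, hQ']
  obtain ⟨n, s, e1, e2, e3, e4⟩ := sylow_data_of_prime_degree hα hG hm Q hQ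
  obtain rfl := hnum n s e1 e2 e3
  change normalizer (Q : Set G) ⊔ H = ⊤ at hfr
  have hQH : Q ≤ H := map_subtype_le _
  -- the subgroup K = N(Q) ⊓ H
  have hK1 : Nat.card (normalizer (Q : Set G) ⊓ H : Subgroup G) ∣ p * s :=
    e4 ▸ card_dvd_of_le inf_le_left
  have hK2 : p ∣ Nat.card (normalizer (Q : Set G) ⊓ H : Subgroup G) :=
    hQ ▸ card_dvd_of_le (le_inf le_normalizer hQH)
  obtain ⟨u, hu⟩ := hK2
  rw [hu] at hK1
  rcases (Nat.dvd_prime hr).1 (Nat.dvd_of_mul_dvd_mul_left hp.out.pos hK1) with h1 | h1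
  · exfalso
    have hKQ : Q = normalizer (Q : Set G) ⊓ H := by
      apply eq_of_le_of_card_ge (le_inf le_normalizer hQH)
      rw [hu, h1, hQ, mul_one]
    have hNP : normalizer (P : Set H) ≤ centralizer (P : Set H) := by
      intro x hx
      have hx' : (x : G) ∈ normalizer (Q : Set G) := by
        have := Subgroup.le_normalizer_map (H := Q') H.subtype
        exact this ⟨x, hx, rfl⟩
      have hxQ : (x : G) ∈ Q := hKQ ▸ (⟨hx', x.2⟩ : (x : G) ∈ normalizer (Q : Set G) ⊓ H)
      obtain ⟨y, hy, hyx⟩ := hxQ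
      have : y = x := Subtype.ext hyx
      subst this
      have hcyc : IsCyclic Q' := isCyclic_of_prime_card hQ'
      have := hcyc.isMulCommutative
      exact Q'.le_centralizer hy
    have hc := MonoidHom.ker_transferSylow_isComplement' P hNP
    have hnd := MonoidHom.not_dvd_card_ker_transferSylow P hNP
    have hprimH : IsPreprimitive H α := IsPreprimitive.of_prime_card (hα ▸ hp.out)
    have hker : (MonoidHom.transferSylow P hNP).ker = ⊥ := by
      by_contra hk
      have := normal_pretransitive (α := α) _ hk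
      have h5 := card_dvd_of_pretransitive (G := (MonoidHom.transferSylow P hNP).ker) (α := α)
      rw [hα] at h5
      exact hnd h5
    have hcm := hc.card_mul_card
    rw [hker, Subgroup.card_bot, one_mul] at hcm
    have hQeq : Q = H := by
      apply eq_of_le_of_card_ge hQH
      rw [← hcm, hQ]
      exact hQ'.le
    have : normalizer (Q : Set G) = ⊤ := by
      rw [hQeq]; exact normalizer_eq_top H
    rw [this, Subgroup.card_top, hG] at e4
    exact hmr (Nat.eq_of_mul_eq_mul_left hp.out.pos e4)
  · have hKQ : normalizer (Q : Set G) ⊓ H = normalizer (Q : Set G) := by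
      apply eq_of_le_of_card_ge inf_le_left
      rw [hu, h1, e4]
    rw [inf_eq_left] at hKQ
    rwa [sup_eq_right.2 hKQ] at hfr

end PrimeDegree

end Cfsg.Agent.H2
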