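import Cfsg.Agent.H2.ChkSteiner
import Cfsg.Agent.H2.PermSimple

/-! Transport of set systems, and a verified enumeration of point stabilizers in their groups. -/

set_option autoImplicit false

namespace Cfsg.Agent.H2

open Finset
open scoped Pointwise

section Transport

variable {α β γ : Type*} [DecidableEq α] [DecidableEq β] [DecidableEq γ]

/-- image of a set system under a bijection -/
def mapSys (e : α ≃ β) (B : Set (Finset α)) : Set (Finset β) := (fun b => b.image e) '' B

theorem mem_mapSys {e : α ≃ β} {B : Set (Finset α)} {c : Finset β} :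
    c ∈ mapSys e B ↔ c.image e.symm ∈ B := by
  constructor
  · rintro ⟨b, hb, rfl⟩
    simpa [Finset.image_image] using hb
  · intro h
    exact ⟨_, h, by simp [Finset.image_image]⟩

omit [DecidableEq α] in
theorem image_mem_mapSys {e : α ≃ β} {B : Set (Finset α)} {b : Finset α} (h : b ∈ B) :
    b.image e ∈ mapSys e B := ⟨b, h, rfl⟩

omit [DecidableEq α] in
theorem mapSys_trans (e : α ≃ β) (e' : β ≃ γ) (B : Set (Finset α)) :
    mapSys (e.trans e') B = mapSys e' (mapSys e B) := by
  simp [mapSys, Set.image_image, Finset.image_image]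

theorem mapSys_refl (B : Set (Finset α)) : mapSys (Equiv.refl α) B = B := by
  simp [mapSys]

theorem mapSys_perm (σ : Equiv.Perm α) (B : Set (Finset α)) : mapSys σ B = σ • B := rfl

theorem mapSys_symm {e : α ≃ β} {B : Set (Finset α)} {B' : Set (Finset β)} (h : mapSys e B = B') :
    mapSys e.symm B' = B := by
  rw [← h, ← mapSys_trans, Equiv.self_trans_symm, mapSys_refl]

theorem steiner_mapSys {t k : ℕ} {B : Set (Finset α)} (hB : IsSteinerSystem t k B) (e : α ≃ β) :
    IsSteinerSystem t k (mapSys e B) := by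
  constructor
  · rintro _ ⟨b, hb, rfl⟩
    rw [Finset.card_image_of_injective _ e.injective, hB.1 b hb]
  · intro s hs
    obtain ⟨b, ⟨hb, hsb⟩, hu⟩ := hB.2 (s.image e.symm)
      (by rw [Finset.card_image_of_injective _ e.symm.injective, hs])
    refine ⟨b.image e, ⟨image_mem_mapSys hb, ?_⟩, ?_⟩
    · intro x hx
      exact Finset.mem_image.2 ⟨e.symm x, hsb (Finset.mem_image_of_mem _ hx), by simp⟩
    · rintro _ ⟨⟨c, hc, rfl⟩, hsc⟩
      have : c = b := by
        refine hu c ⟨hc, ?_⟩
        intro x hx
        obtain ⟨y, hy, rfl⟩ := Finset.mem_image.1 hx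
        obtain ⟨z, hz, rfl⟩ := Finset.mem_image.1 (hsc hy)
        simpa using hz
      rw [this]

theorem mem_aut_iff {B : Set (Finset α)} {g : Equiv.Perm α} : g ∈ setSystemAut B ↔ g • B = B :=
  Iff.rfl

theorem trans_symm_mem_aut {B : Set (Finset α)} {B' : Set (Finset β)} {e e' : α ≃ β}
    (h : mapSys e B = B') (h' : mapSys e' B = B') :
    (e.trans e'.symm : Equiv.Perm α) ∈ setSystemAut B := by
  rw [mem_aut_iff, ← mapSys_perm, mapSys_trans, h, mapSys_symm h']

theorem permCongr_mem_aut {B : Set (Finset α)} {B' : Set (Finset β)} {e : α ≃ β}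
    (h : mapSys e B = B') {g : Equiv.Perm α} (hg : g ∈ setSystemAut B) :
    e.permCongr g ∈ setSystemAut B' := by
  rw [mem_aut_iff, ← mapSys_perm, Equiv.permCongr_def, mapSys_trans, mapSys_trans, mapSys_symm h,
    mapSys_perm, hg, h]

/-- isomorphic systems have isomorphic groups -/
def autEquiv {B : Set (Finset α)} {B' : Set (Finset β)} {e : α ≃ β} (h : mapSys e B = B') :
    setSystemAut B ≃* setSystemAut B' where
  toFun g := ⟨e.permCongr g, permCongr_mem_aut h g.2⟩
  invFun g := ⟨e.symm.permCongr g, permCongr_mem_aut (mapSys_symm h) g.2⟩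
  left_inv g := by ext x; simp
  right_inv g := by ext x; simp
  map_mul' g g' := by ext x; simp

theorem autEquiv_smul {B : Set (Finset α)} {B' : Set (Finset β)} {e : α ≃ β}
    (h : mapSys e B = B') (g : setSystemAut B) (a : α) : autEquiv h g • e a = e (g • a) := by
  change e.permCongr g (e a) = e (g.1 a)
  simp

omit [DecidableEq α] in
theorem exists_equiv_fin [Fintype α] {n f : ℕ} (hα : Fintype.card α = n) (hf : f ≤ n)
    (x : Fin f ↪ α) : ∃ e : α ≃ Fin n, ∀ i, e (x i) = Fin.castLE hf i := by
  let e1 := Fintype.equivFinOfCardEq hα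
  obtain ⟨g, hg⟩ := Equiv.Perm.exists_smul_eq_embedding (x.trans e1.toEmbedding) (Fin.castLEEmb hf)
  refine ⟨e1.trans g, fun i => ?_⟩
  have := DFunLike.congr_fun hg i
  simpa using this

end Transport

theorem card_eq_descFactorial_mul {G α : Type*} [Group G] [MulAction G α] [Fintype α] {f : ℕ}
    [MulAction.IsMultiplyPretransitive G α f] (x : Fin f ↪ α) :
    Nat.card G = (Fintype.card α).descFactorial f * Nat.card {g : G // ∀ i, g • x i = x i} := by
  classical
  rw [card_eq_card_mul_stabilizer (G := G) x,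
    Nat.card_eq_fintype_card (α := Fin f ↪ α), Fintype.card_embedding_eq, Fintype.card_fin]
  congr 1
  refine Nat.card_congr (Equiv.subtypeEquivRight fun g => ?_)
  rw [MulAction.mem_stabilizer_iff, DFunLike.ext_iff]
  rfl

namespace Chk

/-- every Steiner system with the given parameters is carried to `sys n L0` with any given
`f` points going to `0, …, f-1` -/
def Strong (n t k f : ℕ) (L0 : List ℕ) : Prop :=
  ∀ B : Set (Finset (Fin n)), IsSteinerSystem t k B →
    ∃ σ : Equiv.Perm (Fin n), (∀ i : Fin n, i.val < f → σ i = i) ∧ σ • B = sys n L0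

theorem strong_of_claim {n t k f : ℕ} {L0 : List ℕ} (h1 : nd L0 = true)
    (h2 : al L0 (fun m => Nat.blt m (2 ^ n)) = true) (h3 : L0.length * k.choose t = n.choose t)
    (h4 : 0 < k.choose t) (h : Claim (IsSteinerSystem t k) (Goal n f L0) []) :
    Strong n t k f L0 := by
  intro B hB
  obtain ⟨σ, hσ, hL⟩ := h B hB (by simp)
  refine ⟨σ, hσ, eq_sys h1 h2 ?_ hL⟩
  have := lam_mul (steiner_smul hB σ) ∅ (by simp)
  simp only [lam, empty_subset, filter_true, card_blk, card_empty, tsub_zero,
    Fintype.card_fin] at this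
  exact Nat.eq_of_mul_eq_mul_right h4 (this.trans h3.symm)

variable {α β : Type*} [Fintype α] [DecidableEq α] [Fintype β] [DecidableEq β]

theorem Strong.exists_equiv {n t k f : ℕ} {L0 : List ℕ} (h : Strong n t k f L0)
    (hα : Fintype.card α = n) (hf : f ≤ n) {B : Set (Finset α)} (hB : IsSteinerSystem t k B)
    (x : Fin f ↪ α) : ∃ e : α ≃ Fin n, (∀ i, e (x i) = Fin.castLE hf i) ∧ mapSys e B = sys n L0 := by
  obtain ⟨e, he⟩ := exists_equiv_fin hα hf x
  obtain ⟨σ, h1, h2⟩ := h _ (steiner_mapSys hB e)
  refine ⟨e.trans σ, fun i => ?_, by rw [mapSys_trans, mapSys_perm, h2]⟩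
  rw [Equiv.trans_apply, he, h1]
  exact i.2

theorem Strong.exists_equiv' {n t k f : ℕ} {L0 : List ℕ} (h : Strong n t k f L0)
    (hα : Fintype.card α = n) {B : Set (Finset α)} (hB : IsSteinerSystem t k B) :
    ∃ e : α ≃ Fin n, mapSys e B = sys n L0 := by
  let e := Fintype.equivFinOfCardEq hα
  obtain ⟨σ, -, h2⟩ := h _ (steiner_mapSys hB e)
  exact ⟨e.trans σ, by rw [mapSys_trans, mapSys_perm, h2]⟩

theorem Strong.iso {n t k f : ℕ} {L0 : List ℕ} (h : Strong n t k f L0)
    (hα : Fintype.card α = n) (hβ : Fintype.card β = n) {B : Set (Finset α)} {B' : Set (Finset β)}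
    (hB : IsSteinerSystem t k B) (hB' : IsSteinerSystem t k B') : SetSystemIso B B' := by
  obtain ⟨e, he⟩ := h.exists_equiv' hα hB
  obtain ⟨e', he'⟩ := h.exists_equiv' hβ hB'
  refine ⟨e.trans e'.symm, ?_⟩
  change mapSys _ _ = _
  rw [mapSys_trans, he, mapSys_symm he']

/-- isomorphism with prescribed images of `f` points -/
theorem Strong.iso_map {n t k f : ℕ} {L0 : List ℕ} (h : Strong n t k f L0) (hf : f ≤ n)
    (hα : Fintype.card α = n) (hβ : Fintype.card β = n) {B : Set (Finset α)} {B' : Set (Finset β)}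
    (hB : IsSteinerSystem t k B) (hB' : IsSteinerSystem t k B') (x : Fin f ↪ α) (y : Fin f ↪ β) :
    ∃ e : α ≃ β, (∀ i, e (x i) = y i) ∧ mapSys e B = B' := by
  obtain ⟨e, hx, he⟩ := h.exists_equiv hα hf hB x
  obtain ⟨e', hy, he'⟩ := h.exists_equiv hβ hf hB' y
  refine ⟨e.trans e'.symm, fun i => ?_, ?_⟩
  · rw [Equiv.trans_apply, hx, ← hy, Equiv.symm_apply_apply]
  · rw [mapSys_trans, he, mapSys_symm he']

theorem Strong.multiplyPretransitive {n t k f : ℕ} {L0 : List ℕ} (h : Strong n t k f L0)
    (hα : Fintype.card α = n) (hf : f ≤ n) {B : Set (Finset α)} (hB : IsSteinerSystem t k B) :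
    MulAction.IsMultiplyPretransitive (setSystemAut B) α f := by
  refine ⟨fun x y => ?_⟩
  obtain ⟨e, hx, he⟩ := h.iso_map hf hα hα hB hB x y
  exact ⟨⟨e, he⟩, by ext i; exact hx i⟩

/-- union of the blocks containing `m` -/
noncomputable def cover (L0 : List ℕ) (m : ℕ) : ℕ :=
  force m (fun m' =>
    List.rec 0 (fun b _ a => BIF Nat.beq (Nat.land m' b) m' THEN Nat.lor a b ELSE a) L0)

theorem testBit_cover (L0 : List ℕ) (m y : ℕ) :
    (cover L0 m).testBit y = true ↔ ∃ b ∈ L0, m &&& b = m ∧ b.testBit y = true := by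
  induction L0 with
  | nil =>
    have : cover [] m = 0 := force_eq _ _
    simp [this]
  | cons b L ih =>
    have e : cover (b :: L) m = cond (Nat.beq (m &&& b) m) (cover L m ||| b) (cover L m) := by
      simp only [cover, force_eq]
      exact brec_eq _ _ _
    rw [e]
    cases h : Nat.beq (m &&& b) m
    · have := Nat.ne_of_beq_eq_false h
      simp [ih, this]
    · have := Nat.eq_of_beq_eq_true h
      simp [ih, this, or_comm]

/-- image of a list of points under the map coded by `acc` -/
noncomputable def img (acc s : List ℕ) : ℕ := mk (mp (fun x => acc.getD x 0) s)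

theorem img_eq (acc s : List ℕ) : img acc s = mk (s.map (fun x => acc.getD x 0)) := by
  rw [img, mp_eq]

/-- depth first enumeration of the possible images -/
noncomputable def dfs (n : ℕ) (L0 : List ℕ) (tests : List (List (List ℕ))) :
    List ℕ → List (List ℕ) → List (List ℕ) :=
  List.rec (fun acc out => acc :: out) (fun ts _ rest acc out =>
    force (ts.foldr (fun s a => a &&& cover L0 (img acc s)) (2 ^ n - 1)) (fun am =>
      List.rec out (fun y _ o => BIF TB(am, y) THEN
        (BIF el acc y THEN o ELSE (rest (acc ++ [y]) o)) ELSE o) (List.range n))) tests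

/-- the tests are valid -/
noncomputable def testsOK (L0 : List ℕ) (tests : List (List (List ℕ))) : ℕ → Bool :=
  tests.foldr (fun ts rest j =>
    al ts (fun s => al s (fun x => Nat.blt x j) && (cover L0 (mk s)).testBit j) && rest (j + 1))
    (fun _ => true)

theorem foldr_mono {β : Type} (F : ℕ → List β → List β) (hF : ∀ y o m, m ∈ o → m ∈ F y o)
    (l : List ℕ) (out : List β) (m : β) (hm : m ∈ out) : m ∈ l.foldr F out := by
  induction l with
  | nil => exact hm
  | cons y l ih => exact hF _ _ _ ih

theorem foldr_mem {β : Type} (F : ℕ → List β → List β) (hF : ∀ y o m, m ∈ o → m ∈ F y o)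
    (l : List ℕ) (out : List β) (m : β) (y : ℕ) (hy : y ∈ l) (hm : ∀ o, m ∈ F y o) :
    m ∈ l.foldr F out := by
  induction l with
  | nil => simp at hy
  | cons z l ih =>
    rcases List.mem_cons.1 hy with rfl | hy
    · exact hm _
    · exact hF _ _ _ (ih hy)

theorem dfs_cons (n : ℕ) (L0 : List ℕ) (ts : List (List ℕ)) (tests : List (List (List ℕ)))
    (acc : List ℕ) (out : List (List ℕ)) :
    dfs n L0 (ts :: tests) acc out = (List.range n).foldr
      (fun y o => cond ((ts.foldr (fun s a => a &&& cover L0 (img acc s)) (2 ^ n - 1)).testBit y)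
        (cond (el acc y) o (dfs n L0 tests (acc ++ [y]) o)) o) out := by
  have e : dfs n L0 (ts :: tests) acc out =
    force (ts.foldr (fun s a => a &&& cover L0 (img acc s)) (2 ^ n - 1)) (fun am =>
      List.rec out (fun y _ o => BIF TB(am, y) THEN
        (BIF el acc y THEN o ELSE (dfs n L0 tests (acc ++ [y]) o)) ELSE o) (List.range n)) := rfl
  rw [e, force_eq]
  generalize List.range n = l
  induction l with
  | nil => rfl
  | cons y l ih =>
    rw [List.foldr_cons, ← ih, ← brec_eq, ← brec_eq, ← tb_eq]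

theorem dfs_mono (n : ℕ) (L0 : List ℕ) (tests : List (List (List ℕ))) (acc : List ℕ)
    (out : List (List ℕ)) (m : List ℕ) (hm : m ∈ out) : m ∈ dfs n L0 tests acc out := by
  induction tests generalizing acc out m with
  | nil => exact List.mem_cons_of_mem _ hm
  | cons ts tests ih =>
    rw [dfs_cons]
    refine foldr_mono _ (fun y o m' hm' => ?_) _ _ _ hm
    generalize Nat.testBit _ y = c
    cases c
    · exact hm'
    · cases el acc y
      · exact ih _ _ _ hm'
      · exact hm'

/-- values of a permutation of `Fin n` as a function on naturals -/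
def gv {n : ℕ} (g : Equiv.Perm (Fin n)) (x : ℕ) : ℕ := if h : x < n then (g ⟨x, h⟩).val else 0

theorem gv_val {n : ℕ} (g : Equiv.Perm (Fin n)) (x : Fin n) : gv g x = (g x).val := by
  simp [gv]

theorem gv_testBit {n : ℕ} {g : Equiv.Perm (Fin n)} {b b' : ℕ} (h : toF n b' = g • toF n b)
    {x : ℕ} (hx : x < n) (hb : b.testBit x = true) : b'.testBit (gv g x) = true := by
  have : g ⟨x, hx⟩ ∈ toF n b' := by
    rw [h]; exact Finset.smul_mem_smul_finset (a := g) (mem_toF.2 hb)
  rw [mem_toF] at this
  rwa [show gv g x = (g ⟨x, hx⟩).val from gv_val g ⟨x, hx⟩]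

theorem getD_map_range (F : ℕ → ℕ) {j x : ℕ} (hx : x < j) :
    ((List.range j).map F).getD x 0 = F x := by
  simp [List.getD_eq_getElem?_getD, hx]

theorem mem_dfs {n : ℕ} {L0 : List ℕ} {g : Equiv.Perm (Fin n)} (hg : g • sys n L0 = sys n L0)
    (tests : List (List (List ℕ))) (j : ℕ) (hj : j + tests.length ≤ n)
    (hok : testsOK L0 tests j = true) (out : List (List ℕ)) :
    (List.range (j + tests.length)).map (gv g) ∈
      dfs n L0 tests ((List.range j).map (gv g)) out := by
  induction tests generalizing j out with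
  | nil => exact List.mem_cons_self
  | cons ts tests ih =>
    have e : testsOK L0 (ts :: tests) j = (al ts (fun s => al s (fun x => Nat.blt x j) &&
      (cover L0 (mk s)).testBit j) && testsOK L0 tests (j + 1)) := rfl
    rw [e] at hok
    simp only [Bool.and_eq_true, al_iff, Nat.blt_eq] at hok
    obtain ⟨h1, h2⟩ := hok
    rw [List.length_cons] at hj
    have hjn : j < n := by omega
    have hgj : gv g j < n := by
      rw [show gv g j = (g ⟨j, hjn⟩).val from gv_val g ⟨j, hjn⟩]; exact (g _).2
    rw [dfs_cons]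
    refine foldr_mem _ (fun y o m' hm' => ?_) _ _ _ (gv g j) (List.mem_range.2 hgj) (fun o => ?_)
    · generalize Nat.testBit _ y = c
      cases c
      · exact hm'
      · cases el _ y
        · exact dfs_mono _ _ _ _ _ _ hm'
        · exact hm'
    · have a1 : (ts.foldr (fun s a => a &&& cover L0 (img ((List.range j).map (gv g)) s))
          (2 ^ n - 1)).testBit (gv g j) = true := by
        clear e
        induction ts with
        | nil => simp [hgj]
        | cons s ts ih2 =>
          rw [List.foldr_cons, Nat.testBit_and, Bool.and_eq_true]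
          refine ⟨ih2 fun s' hs' => h1 s' (List.mem_cons_of_mem _ hs'), ?_⟩
          obtain ⟨hs, hc⟩ := h1 s List.mem_cons_self
          obtain ⟨b, hb, hb1, hb2⟩ := (testBit_cover _ _ _).1 hc
          have : g • toF n b ∈ sys n L0 := by
            rw [← hg]; exact Set.smul_mem_smul_set ⟨b, hb, rfl⟩
          obtain ⟨b', hb', e'⟩ := this
          refine (testBit_cover _ _ _).2 ⟨b', hb', ?_, gv_testBit e' hjn hb2⟩
          apply Nat.eq_of_testBit_eq
          intro i
          rw [Nat.testBit_and]
          cases hi : (img ((List.range j).map (gv g)) s).testBit i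
          · rfl
          · rw [img_eq, testBit_mk] at hi
            obtain ⟨x, hx, rfl⟩ := List.mem_map.1 hi
            rw [getD_map_range _ (hs x hx), Bool.true_and]
            refine gv_testBit e' ((hs x hx).trans hjn) ?_
            have := (testBit_mk s x).2 hx
            rw [← hb1, Nat.testBit_and, Bool.and_eq_true] at this
            exact this.2
      have a2 : el ((List.range j).map (gv g)) (gv g j) = false := by
        rw [← Bool.not_eq_true]
        intro h
        obtain ⟨x, hx, e'⟩ := List.mem_map.1 (mem_of_el h)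
        have hx' := List.mem_range.1 hx
        rw [show gv g j = (g ⟨j, hjn⟩).val from gv_val g ⟨j, hjn⟩,
          show gv g x = (g ⟨x, hx'.trans hjn⟩).val from gv_val g ⟨x, hx'.trans hjn⟩] at e'
        have := congrArg Fin.val (g.injective (Fin.ext e'))
        simp only at this
        omega
      rw [a1, a2]
      have a3 : (List.range j).map (gv g) ++ [gv g j] = (List.range (j + 1)).map (gv g) := by
        simp [List.range_succ]
      simp only [cond_true, cond_false, a3]
      have := ih (j + 1) (by omega) h2 o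
      rwa [List.length_cons, show j + (tests.length + 1) = j + 1 + tests.length by omega]

/-- the list codes a permutation -/
noncomputable def isPerm (n : ℕ) (l : List ℕ) : Bool :=
  Nat.beq l.length n && nd l && al l (fun x => Nat.blt x n)

theorem exists_perm {n : ℕ} {l : List ℕ} (h : isPerm n l = true) :
    ∃ g : Equiv.Perm (Fin n), (List.range n).map (gv g) = l := by
  simp only [isPerm, Bool.and_eq_true, al_iff, Nat.blt_eq, Nat.beq_eq] at h
  obtain ⟨⟨h1, h2⟩, h3⟩ := h
  subst h1
  let F : Fin l.length → Fin l.length := fun i => ⟨l[i], h3 _ (List.getElem_mem _)⟩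
  have hF : Function.Injective F := by
    intro i j e
    exact Fin.ext (((nodup_of_nd h2).getElem_inj_iff).1 (congrArg Fin.val e))
  refine ⟨Equiv.ofBijective F (Finite.injective_iff_bijective.1 hF), ?_⟩
  apply List.ext_getElem
  · simp
  · intro i h4 h5
    simp [gv, h5, F]

theorem toF_img {n : ℕ} (g : Equiv.Perm (Fin n)) (b : ℕ) :
    toF n (img ((List.range n).map (gv g)) (bitsOf n b)) = g • toF n b := by
  ext x
  rw [img_eq, mem_toF_mk, List.mem_map, Finset.mem_smul_finset]
  simp only [bitsOf_eq, List.mem_filter, List.mem_range]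
  constructor
  · rintro ⟨y, ⟨hy, hb⟩, e⟩
    rw [getD_map_range _ hy, show gv g y = (g ⟨y, hy⟩).val from gv_val g ⟨y, hy⟩] at e
    exact ⟨⟨y, hy⟩, mem_toF.2 hb, Fin.ext e⟩
  · rintro ⟨y, hy, rfl⟩
    exact ⟨y, ⟨y.2, mem_toF.1 hy⟩, by rw [getD_map_range _ y.2, gv_val]; rfl⟩

/-- the generating blocks are mapped to blocks -/
noncomputable def autOK (n : ℕ) (L0 Lg l : List ℕ) : Bool :=
  al Lg (fun b => force (img l (bitsOf n b)) (el L0))

theorem aut_of_autOK {n t k : ℕ} {L0 Lg : List ℕ} (hS : IsSteinerSystem t k (sys n L0))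
    (hdet : Claim (IsSteinerSystem t k) (Goal n n L0) Lg) {g : Equiv.Perm (Fin n)}
    (h : autOK n L0 Lg ((List.range n).map (gv g)) = true) : g • sys n L0 = sys n L0 := by
  simp only [autOK, al_iff, force_eq] at h
  have h1 := det_of_claim hdet _ (steiner_smul hS g⁻¹) (fun m hm => by
    rw [Set.mem_inv_smul_set_iff, ← toF_img]
    exact ⟨_, mem_of_el (h m hm), rfl⟩)
  apply Set.eq_of_subset_of_ncard_le
  · rintro _ ⟨_, ⟨m, hm, rfl⟩, rfl⟩
    exact Set.mem_inv_smul_set_iff.1 (h1 m hm)
  · rw [Set.ncard_smul_set]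
  · exact Set.toFinite _

/-- numeric code of a list -/
def code (l : List ℕ) : ℕ := l.foldr (fun x a => a * 128 + x) 0

/-- the complete check on the list of leaves -/
noncomputable def leavesOK (n f : ℕ) (L0 Lg : List ℕ) (N : ℕ) (lv : List (List ℕ)) : Bool :=
  Nat.beq lv.length N && nd (lv.map code) &&
    al lv (fun l => isPerm n l && autOK n L0 Lg l &&
      al (List.range f) (fun i => Nat.beq (l.getD i 0) i))

theorem gv_injective {n : ℕ} {g g' : Equiv.Perm (Fin n)}
    (h : (List.range n).map (gv g) = (List.range n).map (gv g')) : g = g' := by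
  ext x
  have := getD_map_range (gv g) x.2
  rw [h, getD_map_range _ x.2, gv_val, gv_val] at this
  exact this.symm

theorem card_stab {n t k f : ℕ} {L0 Lg : List ℕ} (hS : IsSteinerSystem t k (sys n L0))
    (hdet : Claim (IsSteinerSystem t k) (Goal n n L0) Lg) (tests : List (List (List ℕ)))
    (hlen : f + tests.length = n) (hok : testsOK L0 tests f = true) {N : ℕ}
    (h : leavesOK n f L0 Lg N (dfs n L0 tests (List.range f) []) = true) :
    Nat.card {g : Equiv.Perm (Fin n) //
      g • sys n L0 = sys n L0 ∧ ∀ i : Fin n, i.val < f → g i = i} = N := by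
  set lv := dfs n L0 tests (List.range f) [] with hlv
  simp only [leavesOK, Bool.and_eq_true, al_iff, Nat.beq_eq] at h
  obtain ⟨⟨h1, h2⟩, h3⟩ := h
  have hnd : lv.Nodup := (nodup_of_nd h2).of_map _
  rw [← h1, ← List.toFinset_card_of_nodup hnd, ← Nat.card_eq_finsetCard]
  refine Nat.card_congr (Equiv.ofBijective (fun g => ⟨(List.range n).map (gv g.1), ?_⟩) ⟨?_, ?_⟩)
  · have := mem_dfs g.2.1 tests f hlen.le hok []
    have e : (List.range f).map (gv g.1) = List.range f := by
      conv_rhs => rw [← List.map_id (List.range f)]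
      refine List.map_congr_left fun x hx => ?_
      have hx' := List.mem_range.1 hx
      have hxn : x < n := by omega
      rw [show gv g.1 x = (g.1 ⟨x, hxn⟩).val from gv_val g.1 ⟨x, hxn⟩, g.2.2 _ hx']
      rfl
    rw [hlen, e] at this
    exact List.mem_toFinset.2 this
  · intro g g' e
    exact Subtype.ext (gv_injective (congrArg Subtype.val e))
  · rintro ⟨l, hl⟩
    obtain ⟨⟨a1, a2⟩, a3⟩ := h3 l (List.mem_toFinset.1 hl)
    obtain ⟨g, rfl⟩ := exists_perm a1
    refine ⟨⟨g, aut_of_autOK hS hdet a2, fun i hi => ?_⟩, rfl⟩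
    have := a3 i (List.mem_range.2 hi)
    rw [getD_map_range _ i.2, gv_val] at this
    exact Fin.ext this

theorem card_aut {n t k f : ℕ} {L0 : List ℕ} (hS : IsSteinerSystem t k (sys n L0)) (hf : f ≤ n)
    (h : Strong n t k f L0) {N : ℕ}
    (hN : Nat.card {g : Equiv.Perm (Fin n) //
      g • sys n L0 = sys n L0 ∧ ∀ i : Fin n, i.val < f → g i = i} = N) :
    Nat.card (setSystemAut (sys n L0)) = n.descFactorial f * N := by
  have := h.multiplyPretransitive (Fintype.card_fin n) hf hS
  rw [card_eq_descFactorial_mul (G := setSystemAut (sys n L0)) (Fin.castLEEmb hf),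
    Fintype.card_fin, ← hN]
  congr 1
  exact Nat.card_congr ⟨fun g => ⟨g.1.1, g.1.2, fun i hi => g.2 ⟨i, hi⟩⟩,
    fun g => ⟨⟨g.1, g.2.1⟩, fun i => g.2.2 (Fin.castLE hf i) i.2⟩, fun _ => rfl, fun _ => rfl⟩

theorem Strong.card_aut {n t k f : ℕ} {L0 : List ℕ} (h : Strong n t k f L0) (hf : f ≤ n)
    {N : ℕ} (hN : IsSteinerSystem t k (sys n L0) → Nat.card {g : Equiv.Perm (Fin n) //
      g • sys n L0 = sys n L0 ∧ ∀ i : Fin n, i.val < f → g i = i} = N)
    (hα : Fintype.card α = n) {B : Set (Finset α)} (hB : IsSteinerSystem t k B) :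
    Nat.card (setSystemAut B) = n.descFactorial f * N := by
  obtain ⟨e, he⟩ := h.exists_equiv' hα hB
  have hS : IsSteinerSystem t k (sys n L0) := he ▸ steiner_mapSys hB e
  rw [Nat.card_congr (autEquiv he).toEquiv, Chk.card_aut hS hf h (hN hS)]

end Chk

end Cfsg.Agent.H2
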