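import Cfsg.Prelude.Def_Sporadic_a

/-! Counting lemmas for Steiner systems. -/

set_option autoImplicit false

namespace Cfsg.Agent.H2

open Finset

variable {α : Type*} [Fintype α] [DecidableEq α]

/-- the blocks as a finset -/
noncomputable def blk (B : Set (Finset α)) : Finset (Finset α) := (Set.toFinite B).toFinset

omit [DecidableEq α] in
@[simp] theorem mem_blk {B : Set (Finset α)} {b : Finset α} : b ∈ blk B ↔ b ∈ B := by
  simp [blk]

omit [DecidableEq α] in
theorem card_blk (B : Set (Finset α)) : (blk B).card = B.ncard := by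
  rw [blk, Set.ncard_eq_toFinset_card]

omit [Fintype α] [DecidableEq α] in
theorem steiner_card {t k : ℕ} {B : Set (Finset α)} (hB : IsSteinerSystem t k B) {b : Finset α}
    (hb : b ∈ B) : b.card = k := hB.1 b hb

omit [Fintype α] [DecidableEq α] in
theorem steiner_exists {t k : ℕ} {B : Set (Finset α)} (hB : IsSteinerSystem t k B) {s : Finset α}
    (hs : s.card = t) : ∃ b ∈ B, s ⊆ b := by
  obtain ⟨b, hb, -⟩ := hB.2 s hs
  exact ⟨b, hb.1, hb.2⟩

omit [Fintype α] [DecidableEq α] in
theorem steiner_unique {t k : ℕ} {B : Set (Finset α)} (hB : IsSteinerSystem t k B)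
    {s b c : Finset α} (hs : s.card = t) (hb : b ∈ B) (hc : c ∈ B) (hsb : s ⊆ b) (hsc : s ⊆ c) :
    b = c := (hB.2 s hs).unique ⟨hb, hsb⟩ ⟨hc, hsc⟩

omit [Fintype α] in
theorem steiner_inter_lt {t k : ℕ} {B : Set (Finset α)} (hB : IsSteinerSystem t k B)
    {b c : Finset α} (hb : b ∈ B) (hc : c ∈ B) (hbc : b ≠ c) : (b ∩ c).card < t := by
  by_contra h
  push Not at h
  obtain ⟨s, hs, hst⟩ := Finset.exists_subset_card_eq h
  exact hbc (steiner_unique hB hst hb hc (hs.trans inter_subset_left) (hs.trans inter_subset_right))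

omit [Fintype α] in
theorem steiner_eq_of_le_inter {t k : ℕ} {B : Set (Finset α)} (hB : IsSteinerSystem t k B)
    {b c : Finset α} (hb : b ∈ B) (hc : c ∈ B) (h : t ≤ (b ∩ c).card) : b = c := by
  by_contra hbc
  exact absurd (steiner_inter_lt hB hb hc hbc) (not_lt.2 h)

omit [Fintype α] [DecidableEq α] in
/-- A Steiner system contained in another with the same parameters equals it. -/
theorem steiner_eq_of_subset {t k : ℕ} {B B' : Set (Finset α)} (hB : IsSteinerSystem t k B)
    (hB' : IsSteinerSystem t k B') (htk : t ≤ k) (h : B ⊆ B') : B = B' := by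
  refine Set.Subset.antisymm h fun b' hb' => ?_
  obtain ⟨s, hs, hst⟩ := Finset.exists_subset_card_eq (s := b') (n := t)
    (by rw [steiner_card hB' hb']; exact htk)
  obtain ⟨b, hb, hsb⟩ := steiner_exists hB hst
  rw [← steiner_unique hB' hst (h hb) hb' hsb hs]
  exact hb

/-- number of blocks containing `s` -/
noncomputable def lam (B : Set (Finset α)) (s : Finset α) : ℕ := ((blk B).filter (s ⊆ ·)).card

theorem lam_mul {t k : ℕ} {B : Set (Finset α)} (hB : IsSteinerSystem t k B) (s : Finset α)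
    (hs : s.card ≤ t) :
    lam B s * (k - s.card).choose (t - s.card) = (Fintype.card α - s.card).choose (t - s.card) := by
  have key := Finset.sum_card_bipartiteAbove_eq_sum_card_bipartiteBelow
    (s := (blk B).filter (s ⊆ ·)) (t := powersetCard (t - s.card) sᶜ) (fun b u => u ⊆ b)
  have h1 : ∀ b ∈ (blk B).filter (s ⊆ ·),
      (bipartiteAbove (fun b u => u ⊆ b) (powersetCard (t - s.card) sᶜ) b).card
        = (k - s.card).choose (t - s.card) := by
    intro b hb
    rw [mem_filter, mem_blk] at hb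
    have : bipartiteAbove (fun b u => u ⊆ b) (powersetCard (t - s.card) sᶜ) b
        = powersetCard (t - s.card) (b \ s) := by
      ext u
      simp only [mem_bipartiteAbove, mem_powersetCard, subset_sdiff, subset_compl_iff_disjoint_right]
      tauto
    rw [this, card_powersetCard, card_sdiff_of_subset hb.2, steiner_card hB hb.1]
  have h2 : ∀ u ∈ powersetCard (t - s.card) sᶜ,
      (bipartiteBelow (fun b u => u ⊆ b) ((blk B).filter (s ⊆ ·)) u).card = 1 := by
    intro u hu
    rw [mem_powersetCard, subset_compl_iff_disjoint_right] at hu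
    have hc : (s ∪ u).card = t := by
      rw [card_union_of_disjoint hu.1.symm, hu.2]; omega
    obtain ⟨b, hb, hub⟩ := hB.2 _ hc
    rw [card_eq_one]
    refine ⟨b, ?_⟩
    ext c
    simp only [mem_bipartiteBelow, mem_filter, mem_blk, mem_singleton]
    constructor
    · rintro ⟨⟨h1, h2⟩, h3⟩
      exact hub c ⟨h1, union_subset h2 h3⟩
    · rintro rfl
      exact ⟨⟨hb.1, subset_union_left.trans hb.2⟩, subset_union_right.trans hb.2⟩
  rw [sum_congr rfl h1, sum_congr rfl h2] at key
  simp only [sum_const, smul_eq_mul, mul_one, card_powersetCard, card_compl] at key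
  exact key

theorem lam_eq {t k : ℕ} {B : Set (Finset α)} (hB : IsSteinerSystem t k B) {v j l : ℕ}
    (hv : Fintype.card α = v) (hj : j ≤ t) (hpos : 0 < (k - j).choose (t - j))
    (hl : l * (k - j).choose (t - j) = (v - j).choose (t - j)) (s : Finset α) (hs : s.card = j) :
    lam B s = l := by
  have := lam_mul hB s (hs ▸ hj)
  rw [hs, hv, ← hl] at this
  exact Nat.eq_of_mul_eq_mul_right hpos this

theorem moment_sum {B : Set (Finset α)} {j l : ℕ} (hl : ∀ s : Finset α, s.card = j → lam B s = l)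
    (S : Finset α) : ∑ b ∈ blk B, (b ∩ S).card.choose j = S.card.choose j * l := by
  have key := Finset.sum_card_bipartiteAbove_eq_sum_card_bipartiteBelow
    (s := blk B) (t := powersetCard j S) (fun b u => u ⊆ b)
  have h1 : ∀ b ∈ blk B,
      (bipartiteAbove (fun b u => u ⊆ b) (powersetCard j S) b).card = (b ∩ S).card.choose j := by
    intro b _
    have : bipartiteAbove (fun b u => u ⊆ b) (powersetCard j S) b = powersetCard j (b ∩ S) := by
      ext u
      simp only [mem_bipartiteAbove, mem_powersetCard, subset_inter_iff]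
      tauto
    rw [this, card_powersetCard]
  have h2 : ∀ u ∈ powersetCard j S,
      (bipartiteBelow (fun b u => u ⊆ b) (blk B) u).card = l := by
    intro u hu
    rw [mem_powersetCard] at hu
    exact hl u hu.2
  rw [sum_congr rfl h1, sum_congr rfl h2] at key
  simpa only [sum_const, smul_eq_mul, card_powersetCard] using key

/-- number of blocks meeting `S` in exactly `i` points -/
noncomputable def nInt (B : Set (Finset α)) (S : Finset α) (i : ℕ) : ℕ :=
  ((blk B).filter (fun b => (b ∩ S).card = i)).card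

theorem moment {B : Set (Finset α)} {k j l : ℕ} (hk : ∀ b ∈ B, b.card = k)
    (hl : ∀ s : Finset α, s.card = j → lam B s = l) (S : Finset α) :
    ∑ i ∈ range (k + 1), nInt B S i * i.choose j = S.card.choose j * l := by
  rw [← moment_sum hl S]
  rw [← Finset.sum_fiberwise_of_maps_to (s := blk B) (t := range (k + 1))
    (g := fun b => (b ∩ S).card)]
  · refine sum_congr rfl fun i _ => ?_
    rw [nInt, card_eq_sum_ones, sum_mul]
    refine sum_congr rfl fun b hb => ?_
    rw [mem_filter] at hb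
    rw [hb.2, one_mul]
  · intro b hb
    rw [mem_blk] at hb
    rw [mem_range, Nat.lt_succ_iff, ← hk b hb]
    exact card_le_card inter_subset_left

theorem nInt_eq_zero_iff {B : Set (Finset α)} {S : Finset α} {i : ℕ} :
    nInt B S i = 0 ↔ ∀ b ∈ B, (b ∩ S).card ≠ i := by
  simp [nInt, card_eq_zero, filter_eq_empty_iff]

theorem nInt_pos_iff {B : Set (Finset α)} {S : Finset α} {i : ℕ} :
    0 < nInt B S i ↔ ∃ b ∈ B, (b ∩ S).card = i := by
  simp [nInt, card_pos, Finset.Nonempty]

theorem nInt_eq_zero_of_lt {B : Set (Finset α)} {S : Finset α} {i : ℕ} (h : S.card < i) :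
    nInt B S i = 0 := by
  rw [nInt_eq_zero_iff]
  intro b _ hb
  have := card_le_card (inter_subset_right (s₁ := b) (s₂ := S))
  omega

theorem nInt_eq_ncard (B : Set (Finset α)) (S : Finset α) (i : ℕ) :
    nInt B S i = {c : Finset α | c ∈ B ∧ (c ∩ S).card = i}.ncard := by
  rw [nInt, ← Set.ncard_coe_finset]
  congr 1
  ext c
  simp

/-- for a block `b` of a Steiner system, `nInt` at `k` is one -/
theorem nInt_self {t k : ℕ} {B : Set (Finset α)} (hB : IsSteinerSystem t k B) (htk : t ≤ k)
    {b : Finset α} (hb : b ∈ B) : nInt B b k = 1 := by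
  rw [nInt, card_eq_one]
  refine ⟨b, ?_⟩
  ext c
  simp only [mem_filter, mem_blk, mem_singleton]
  constructor
  · rintro ⟨hc, h⟩
    exact steiner_eq_of_le_inter hB hc hb (h ▸ htk)
  · rintro rfl
    exact ⟨hb, by rw [inter_self, steiner_card hB hb]⟩

theorem nInt_block_eq_zero {t k : ℕ} {B : Set (Finset α)} (hB : IsSteinerSystem t k B)
    {b : Finset α} (hb : b ∈ B) {i : ℕ} (hi : t ≤ i) (hik : i ≠ k) : nInt B b i = 0 := by
  rw [nInt_eq_zero_iff]
  intro c hc h
  have := steiner_eq_of_le_inter hB hc hb (h ▸ hi)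
  subst this
  rw [inter_self, steiner_card hB hb] at h
  exact hik h.symm

/-! ### S(5,8,24) -/

theorem moments_24 (hα : Fintype.card α = 24) {B : Set (Finset α)} (hB : IsSteinerSystem 5 8 B)
    (S : Finset α) :
    (∑ i ∈ range 9, nInt B S i * i.choose 0 = S.card.choose 0 * 759) ∧
    (∑ i ∈ range 9, nInt B S i * i.choose 1 = S.card.choose 1 * 253) ∧
    (∑ i ∈ range 9, nInt B S i * i.choose 2 = S.card.choose 2 * 77) ∧
    (∑ i ∈ range 9, nInt B S i * i.choose 3 = S.card.choose 3 * 21) ∧
    (∑ i ∈ range 9, nInt B S i * i.choose 4 = S.card.choose 4 * 5) ∧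
    (∑ i ∈ range 9, nInt B S i * i.choose 5 = S.card.choose 5 * 1) :=
  ⟨moment hB.1 (lam_eq hB hα (by norm_num) (by decide) (by decide)) S,
   moment hB.1 (lam_eq hB hα (by norm_num) (by decide) (by decide)) S,
   moment hB.1 (lam_eq hB hα (by norm_num) (by decide) (by decide)) S,
   moment hB.1 (lam_eq hB hα (by norm_num) (by decide) (by decide)) S,
   moment hB.1 (lam_eq hB hα (by norm_num) (by decide) (by decide)) S,
   moment hB.1 (lam_eq hB hα (by norm_num) (by decide) (by decide)) S⟩

theorem nInt_block_24 (hα : Fintype.card α = 24) {B : Set (Finset α)} (hB : IsSteinerSystem 5 8 B)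
    {b : Finset α} (hb : b ∈ B) :
    nInt B b 0 = 30 ∧ nInt B b 1 = 0 ∧ nInt B b 2 = 448 ∧ nInt B b 3 = 0 ∧ nInt B b 4 = 280 := by
  obtain ⟨h0, h1, h2, h3, h4, -⟩ := moments_24 hα hB b
  have e5 := nInt_block_eq_zero hB hb (i := 5) (by norm_num) (by norm_num)
  have e6 := nInt_block_eq_zero hB hb (i := 6) (by norm_num) (by norm_num)
  have e7 := nInt_block_eq_zero hB hb (i := 7) (by norm_num) (by norm_num)
  have e8 := nInt_self hB (by norm_num) hb
  rw [steiner_card hB hb] at h0 h1 h2 h3 h4
  simp only [sum_range_succ, range_zero, sum_empty, Nat.choose] at h0 h1 h2 h3 h4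
  omega

theorem inter_24 (hα : Fintype.card α = 24) {B : Set (Finset α)} (hB : IsSteinerSystem 5 8 B)
    {b c : Finset α} (hb : b ∈ B) (hc : c ∈ B) (hbc : b ≠ c) :
    (b ∩ c).card = 0 ∨ (b ∩ c).card = 2 ∨ (b ∩ c).card = 4 := by
  obtain ⟨-, h1, -, h3, -⟩ := nInt_block_24 hα hB hc
  have := nInt_eq_zero_iff.1 h1 b hb
  have := nInt_eq_zero_iff.1 h3 b hb
  have := steiner_inter_lt hB hb hc hbc
  omega

theorem inter_even_24 (hα : Fintype.card α = 24) {B : Set (Finset α)} (hB : IsSteinerSystem 5 8 B)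
    {b c : Finset α} (hb : b ∈ B) (hc : c ∈ B) : (b ∩ c).card % 2 = 0 := by
  by_cases hbc : b = c
  · subst hbc; rw [inter_self, steiner_card hB hb]
  · have := inter_24 hα hB hb hc hbc; omega

omit [Fintype α] in
theorem card_inter_symmDiff (d b c : Finset α) :
    (d ∩ symmDiff b c).card + 2 * (d ∩ b ∩ c).card = (d ∩ b).card + (d ∩ c).card := by
  have h1 : (d ∩ b).card = (d ∩ b ∩ c).card + (d ∩ (b \ c)).card := by
    rw [← card_union_of_disjoint]
    · congr 1; ext x; simp; tauto
    · rw [disjoint_left]; intro x; simp; tauto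
  have h2 : (d ∩ c).card = (d ∩ b ∩ c).card + (d ∩ (c \ b)).card := by
    rw [← card_union_of_disjoint]
    · congr 1; ext x; simp; tauto
    · rw [disjoint_left]; intro x; simp; tauto
  have h3 : (d ∩ symmDiff b c).card = (d ∩ (b \ c)).card + (d ∩ (c \ b)).card := by
    rw [← card_union_of_disjoint]
    · congr 1; ext x; simp [mem_symmDiff]; tauto
    · rw [disjoint_left]; intro x; simp; tauto
  omega

omit [Fintype α] in
theorem card_symmDiff_add (b c : Finset α) :
    (symmDiff b c).card + 2 * (b ∩ c).card = b.card + c.card := by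
  have := card_inter_symmDiff (b ∪ c) b c
  have e1 : (b ∪ c) ∩ symmDiff b c = symmDiff b c := by
    ext x; simp [mem_symmDiff]; tauto
  have e2 : (b ∪ c) ∩ b ∩ c = b ∩ c := by ext x; simp
  have e3 : (b ∪ c) ∩ b = b := by ext x; simp
  have e4 : (b ∪ c) ∩ c = c := by ext x; simp
  rw [e1, e2, e3, e4] at this
  exact this

/-- an 8-set meeting all octads evenly is an octad -/
theorem mem_of_even_24 (hα : Fintype.card α = 24) {B : Set (Finset α)} (hB : IsSteinerSystem 5 8 B)
    {S : Finset α} (hS : S.card = 8) (h : ∀ b ∈ B, (b ∩ S).card % 2 = 0) : S ∈ B := by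
  obtain ⟨-, -, -, h3, h4, h5⟩ := moments_24 hα hB S
  have e3 : nInt B S 3 = 0 := nInt_eq_zero_iff.2 fun b hb e => by have := h b hb; omega
  have e5 : nInt B S 5 = 0 := nInt_eq_zero_iff.2 fun b hb e => by have := h b hb; omega
  have e7 : nInt B S 7 = 0 := nInt_eq_zero_iff.2 fun b hb e => by have := h b hb; omega
  rw [hS] at h3 h4 h5
  simp only [sum_range_succ, range_zero, sum_empty, Nat.choose] at h3 h4 h5
  have : 0 < nInt B S 8 := by omega
  obtain ⟨b, hb, e⟩ := nInt_pos_iff.1 this
  have e1 : b ∩ S = b := eq_of_subset_of_card_le inter_subset_left (by rw [e, steiner_card hB hb])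
  have e2 : b ∩ S = S := eq_of_subset_of_card_le inter_subset_right (by rw [e, hS])
  rw [← e2, e1]; exact hb

theorem symmDiff_mem_24 (hα : Fintype.card α = 24) {B : Set (Finset α)}
    (hB : IsSteinerSystem 5 8 B) {b c : Finset α} (hb : b ∈ B) (hc : c ∈ B)
    (h4 : (b ∩ c).card = 4) : symmDiff b c ∈ B := by
  refine mem_of_even_24 hα hB ?_ fun d hd => ?_
  · have := card_symmDiff_add b c
    rw [steiner_card hB hb, steiner_card hB hc] at this
    omega
  · have := card_inter_symmDiff d b c
    have := inter_even_24 hα hB hd hb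
    have := inter_even_24 hα hB hd hc
    omega

/-- a nonempty set of at most 7 points meets some octad oddly -/
theorem exists_odd_24 (hα : Fintype.card α = 24) {B : Set (Finset α)} (hB : IsSteinerSystem 5 8 B)
    {S : Finset α} (hS : 0 < S.card) (hS' : S.card ≤ 7) : ∃ b ∈ B, (b ∩ S).card % 2 = 1 := by
  by_contra h
  push Not at h
  obtain ⟨-, h1, h2, h3, h4, h5⟩ := moments_24 hα hB S
  have e1 : nInt B S 1 = 0 := nInt_eq_zero_iff.2 fun b hb e => by have := h b hb; omega
  have e3 : nInt B S 3 = 0 := nInt_eq_zero_iff.2 fun b hb e => by have := h b hb; omega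
  have e5 : nInt B S 5 = 0 := nInt_eq_zero_iff.2 fun b hb e => by have := h b hb; omega
  have e7 : nInt B S 7 = 0 := nInt_eq_zero_iff.2 fun b hb e => by have := h b hb; omega
  have e8 : nInt B S 8 = 0 := nInt_eq_zero_of_lt (by omega)
  have e6 : S.card < 6 → nInt B S 6 = 0 := nInt_eq_zero_of_lt
  have e4 : S.card < 4 → nInt B S 4 = 0 := nInt_eq_zero_of_lt
  have e2 : S.card < 2 → nInt B S 2 = 0 := nInt_eq_zero_of_lt
  generalize S.card = n at *
  interval_cases n <;>
    simp only [sum_range_succ, range_zero, sum_empty, Nat.choose] at h1 h2 h3 h4 h5 <;> omega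

/-! ### S(4,7,23) -/

theorem moments_23 (hα : Fintype.card α = 23) {B : Set (Finset α)} (hB : IsSteinerSystem 4 7 B)
    (S : Finset α) :
    (∑ i ∈ range 8, nInt B S i * i.choose 0 = S.card.choose 0 * 253) ∧
    (∑ i ∈ range 8, nInt B S i * i.choose 1 = S.card.choose 1 * 77) ∧
    (∑ i ∈ range 8, nInt B S i * i.choose 2 = S.card.choose 2 * 21) ∧
    (∑ i ∈ range 8, nInt B S i * i.choose 3 = S.card.choose 3 * 5) ∧
    (∑ i ∈ range 8, nInt B S i * i.choose 4 = S.card.choose 4 * 1) :=
  ⟨moment hB.1 (lam_eq hB hα (by norm_num) (by decide) (by decide)) S,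
   moment hB.1 (lam_eq hB hα (by norm_num) (by decide) (by decide)) S,
   moment hB.1 (lam_eq hB hα (by norm_num) (by decide) (by decide)) S,
   moment hB.1 (lam_eq hB hα (by norm_num) (by decide) (by decide)) S,
   moment hB.1 (lam_eq hB hα (by norm_num) (by decide) (by decide)) S⟩

theorem inter_23 (hα : Fintype.card α = 23) {B : Set (Finset α)} (hB : IsSteinerSystem 4 7 B)
    {b c : Finset α} (hb : b ∈ B) (hc : c ∈ B) (hbc : b ≠ c) :
    (b ∩ c).card = 1 ∨ (b ∩ c).card = 3 := by
  obtain ⟨h0, h1, h2, h3, -⟩ := moments_23 hα hB c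
  have e4 := nInt_block_eq_zero hB hc (i := 4) (by norm_num) (by norm_num)
  have e5 := nInt_block_eq_zero hB hc (i := 5) (by norm_num) (by norm_num)
  have e6 := nInt_block_eq_zero hB hc (i := 6) (by norm_num) (by norm_num)
  have e7 := nInt_self hB (by norm_num) hc
  rw [steiner_card hB hc] at h0 h1 h2 h3
  simp only [sum_range_succ, range_zero, sum_empty, Nat.choose] at h0 h1 h2 h3
  have := nInt_eq_zero_iff.1 (show nInt B c 0 = 0 by omega) b hb
  have := nInt_eq_zero_iff.1 (show nInt B c 2 = 0 by omega) b hb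
  have := steiner_inter_lt hB hb hc hbc
  omega

/-! ### S(3,6,22) -/

theorem moments_22 (hα : Fintype.card α = 22) {B : Set (Finset α)} (hB : IsSteinerSystem 3 6 B)
    (S : Finset α) :
    (∑ i ∈ range 7, nInt B S i * i.choose 0 = S.card.choose 0 * 77) ∧
    (∑ i ∈ range 7, nInt B S i * i.choose 1 = S.card.choose 1 * 21) ∧
    (∑ i ∈ range 7, nInt B S i * i.choose 2 = S.card.choose 2 * 5) ∧
    (∑ i ∈ range 7, nInt B S i * i.choose 3 = S.card.choose 3 * 1) :=
  ⟨moment hB.1 (lam_eq hB hα (by norm_num) (by decide) (by decide)) S,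
   moment hB.1 (lam_eq hB hα (by norm_num) (by decide) (by decide)) S,
   moment hB.1 (lam_eq hB hα (by norm_num) (by decide) (by decide)) S,
   moment hB.1 (lam_eq hB hα (by norm_num) (by decide) (by decide)) S⟩

theorem nInt_block_22 (hα : Fintype.card α = 22) {B : Set (Finset α)} (hB : IsSteinerSystem 3 6 B)
    {b : Finset α} (hb : b ∈ B) :
    nInt B b 0 = 16 ∧ nInt B b 1 = 0 ∧ nInt B b 2 = 60 := by
  obtain ⟨h0, h1, h2, -⟩ := moments_22 hα hB b
  have e3 := nInt_block_eq_zero hB hb (i := 3) (by norm_num) (by norm_num)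
  have e4 := nInt_block_eq_zero hB hb (i := 4) (by norm_num) (by norm_num)
  have e5 := nInt_block_eq_zero hB hb (i := 5) (by norm_num) (by norm_num)
  have e6 := nInt_self hB (by norm_num) hb
  rw [steiner_card hB hb] at h0 h1 h2
  simp only [sum_range_succ, range_zero, sum_empty, Nat.choose] at h0 h1 h2
  omega

theorem inter_22 (hα : Fintype.card α = 22) {B : Set (Finset α)} (hB : IsSteinerSystem 3 6 B)
    {b c : Finset α} (hb : b ∈ B) (hc : c ∈ B) (hbc : b ≠ c) :
    (b ∩ c).card = 0 ∨ (b ∩ c).card = 2 := by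
  obtain ⟨-, h1, -⟩ := nInt_block_22 hα hB hc
  have := nInt_eq_zero_iff.1 h1 b hb
  have := steiner_inter_lt hB hb hc hbc
  omega

/-! ### S(5,6,12) -/

theorem moments_12 (hα : Fintype.card α = 12) {B : Set (Finset α)} (hB : IsSteinerSystem 5 6 B)
    (S : Finset α) :
    (∑ i ∈ range 7, nInt B S i * i.choose 0 = S.card.choose 0 * 132) ∧
    (∑ i ∈ range 7, nInt B S i * i.choose 1 = S.card.choose 1 * 66) ∧
    (∑ i ∈ range 7, nInt B S i * i.choose 2 = S.card.choose 2 * 30) ∧
    (∑ i ∈ range 7, nInt B S i * i.choose 3 = S.card.choose 3 * 12) ∧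
    (∑ i ∈ range 7, nInt B S i * i.choose 4 = S.card.choose 4 * 4) ∧
    (∑ i ∈ range 7, nInt B S i * i.choose 5 = S.card.choose 5 * 1) :=
  ⟨moment hB.1 (lam_eq hB hα (by norm_num) (by decide) (by decide)) S,
   moment hB.1 (lam_eq hB hα (by norm_num) (by decide) (by decide)) S,
   moment hB.1 (lam_eq hB hα (by norm_num) (by decide) (by decide)) S,
   moment hB.1 (lam_eq hB hα (by norm_num) (by decide) (by decide)) S,
   moment hB.1 (lam_eq hB hα (by norm_num) (by decide) (by decide)) S,
   moment hB.1 (lam_eq hB hα (by norm_num) (by decide) (by decide)) S⟩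

theorem nInt_block_12 (hα : Fintype.card α = 12) {B : Set (Finset α)} (hB : IsSteinerSystem 5 6 B)
    {b : Finset α} (hb : b ∈ B) :
    nInt B b 0 = 1 ∧ nInt B b 1 = 0 ∧ nInt B b 2 = 45 ∧ nInt B b 3 = 40 ∧ nInt B b 4 = 45 := by
  obtain ⟨h0, h1, h2, h3, h4, -⟩ := moments_12 hα hB b
  have e5 := nInt_block_eq_zero hB hb (i := 5) (by norm_num) (by norm_num)
  have e6 := nInt_self hB (by norm_num) hb
  rw [steiner_card hB hb] at h0 h1 h2 h3 h4
  simp only [sum_range_succ, range_zero, sum_empty, Nat.choose] at h0 h1 h2 h3 h4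
  omega

theorem compl_mem_12 (hα : Fintype.card α = 12) {B : Set (Finset α)} (hB : IsSteinerSystem 5 6 B)
    {b : Finset α} (hb : b ∈ B) : bᶜ ∈ B := by
  obtain ⟨h0, -⟩ := nInt_block_12 hα hB hb
  obtain ⟨c, hc, e⟩ := (nInt_pos_iff (B := B) (S := b) (i := 0)).1 (by omega)
  have : c = bᶜ := by
    apply eq_of_subset_of_card_le
    · rw [subset_compl_iff_disjoint_right, disjoint_iff_inter_eq_empty]
      exact card_eq_zero.1 e
    · rw [card_compl, hα, steiner_card hB hb, steiner_card hB hc]
  rwa [← this]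

/-! ### S(4,5,11) -/

theorem moments_11 (hα : Fintype.card α = 11) {B : Set (Finset α)} (hB : IsSteinerSystem 4 5 B)
    (S : Finset α) :
    (∑ i ∈ range 6, nInt B S i * i.choose 0 = S.card.choose 0 * 66) ∧
    (∑ i ∈ range 6, nInt B S i * i.choose 1 = S.card.choose 1 * 30) ∧
    (∑ i ∈ range 6, nInt B S i * i.choose 2 = S.card.choose 2 * 12) ∧
    (∑ i ∈ range 6, nInt B S i * i.choose 3 = S.card.choose 3 * 4) ∧
    (∑ i ∈ range 6, nInt B S i * i.choose 4 = S.card.choose 4 * 1) :=
  ⟨moment hB.1 (lam_eq hB hα (by norm_num) (by decide) (by decide)) S,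
   moment hB.1 (lam_eq hB hα (by norm_num) (by decide) (by decide)) S,
   moment hB.1 (lam_eq hB hα (by norm_num) (by decide) (by decide)) S,
   moment hB.1 (lam_eq hB hα (by norm_num) (by decide) (by decide)) S,
   moment hB.1 (lam_eq hB hα (by norm_num) (by decide) (by decide)) S⟩

theorem nInt_block_11 (hα : Fintype.card α = 11) {B : Set (Finset α)} (hB : IsSteinerSystem 4 5 B)
    {b : Finset α} (hb : b ∈ B) :
    nInt B b 0 = 0 ∧ nInt B b 1 = 15 ∧ nInt B b 2 = 20 ∧ nInt B b 3 = 30 := by
  obtain ⟨h0, h1, h2, h3, -⟩ := moments_11 hα hB b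
  have e4 := nInt_block_eq_zero hB hb (i := 4) (by norm_num) (by norm_num)
  have e5 := nInt_self hB (by norm_num) hb
  rw [steiner_card hB hb] at h0 h1 h2 h3
  simp only [sum_range_succ, range_zero, sum_empty, Nat.choose] at h0 h1 h2 h3
  omega

end Cfsg.Agent.H2
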