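import Cfsg.Agent.H2.Chk
import Cfsg.Agent.H2.SteinerCount

/-! The search framework specialised to Steiner systems. -/

set_option autoImplicit false

namespace Cfsg.Agent.H2

open Finset
open scoped Pointwise

theorem steiner_smul {α : Type*} [DecidableEq α] {t k : ℕ} {B : Set (Finset α)}
    (hB : IsSteinerSystem t k B) (σ : Equiv.Perm α) : IsSteinerSystem t k (σ • B) := by
  constructor
  · rintro _ ⟨b, hb, rfl⟩
    rw [Finset.card_smul_finset, hB.1 b hb]
  · intro s hs
    obtain ⟨b, ⟨hb, hsb⟩, hu⟩ := hB.2 (σ⁻¹ • s) (by rw [Finset.card_smul_finset, hs])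
    refine ⟨σ • b, ⟨Set.smul_mem_smul_set hb, ?_⟩, ?_⟩
    · rw [← Finset.smul_finset_subset_smul_finset_iff (a := σ⁻¹), inv_smul_smul]; exact hsb
    · rintro _ ⟨⟨c, hc, rfl⟩, hsc⟩
      have : c = b := by
        refine hu c ⟨hc, ?_⟩
        rw [← Finset.smul_finset_subset_smul_finset_iff (a := σ), smul_inv_smul]; exact hsc
      rw [this]

namespace Chk

/-- duplicate check -/
noncomputable def nd (l : List ℕ) : Bool :=
  List.rec true (fun x l a => BIF el l x THEN false ELSE a) l

theorem nodup_of_nd {l : List ℕ} (h : nd l = true) : l.Nodup := by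
  induction l with
  | nil => simp
  | cons x l ih =>
    have e : nd (x :: l) = cond (el l x) false (nd l) := brec_eq _ _ _
    rw [e] at h
    cases h1 : el l x
    · rw [h1] at h
      refine List.nodup_cons.2 ⟨fun hx => ?_, ih h⟩
      rw [el_of_mem hx] at h1
      exact absurd h1 (by simp)
    · rw [h1] at h
      exact absurd h (by simp)

/-- union of `s` and of the known blocks meeting `s` in `t - 1` points -/
noncomputable def bad (t : ℕ) (L s : List ℕ) : ℕ :=
  List.rec (mk s) (fun b _ a => BIF Nat.ble t (Nat.succ (cnt b s)) THEN Nat.lor a b ELSE a) L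

theorem bad_spec (t : ℕ) (L s : List ℕ) (x : ℕ) (h : (bad t L s).testBit x = true) :
    x ∈ s ∨ ∃ b ∈ L, t ≤ cnt b s + 1 ∧ b.testBit x = true := by
  induction L with
  | nil => exact Or.inl ((testBit_mk s x).1 h)
  | cons b L ih =>
    have e : bad t (b :: L) s = cond (Nat.ble t (cnt b s + 1)) (bad t L s ||| b) (bad t L s) :=
      brec_eq _ _ _
    rw [e] at h
    have ih' : (bad t L s).testBit x = true → x ∈ s ∨ ∃ b' ∈ b :: L, t ≤ cnt b' s + 1 ∧
        b'.testBit x = true := fun h => (ih h).imp id fun ⟨b', h1, h2⟩ =>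
      ⟨b', List.mem_cons_of_mem _ h1, h2⟩
    cases h1 : Nat.ble t (cnt b s + 1)
    · rw [h1] at h; exact ih' h
    · rw [h1] at h
      simp only [cond_true, Nat.testBit_or, Bool.or_eq_true] at h
      rcases h with h | h
      · exact ih' h
      · exact Or.inr ⟨b, List.mem_cons_self, Nat.le_of_ble_eq_true h1, h⟩

/-- candidates for the block through the uncovered `t`-set `s` -/
noncomputable def candsS (n t k alw : ℕ) (L s : List ℕ) : Option (List ℕ) :=
  cond (Nat.beq s.length t && nd s && al s (fun x => Nat.blt x n) &&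
      al L (fun b => Nat.ble (Nat.succ (cnt b s)) t))
    (some (subs (fun c => al L (fun b => TB(alw, cnt b c)))
      (force (bad t L s) (fun bd => fl (fun x => !TB(bd, x)) (List.range n))) (k - t) s []))
    none

theorem candsS_sound {n t k alw : ℕ} {B : Set (Finset (Fin n))} (hB : IsSteinerSystem t k B)
    (halw : ∀ b ∈ B, ∀ c ∈ B, b ≠ c → alw.testBit (b ∩ c).card = true) {L s l : List ℕ}
    (h : candsS n t k alw L s = some l) (hL : ∀ m ∈ L, toF n m ∈ B) : ∃ c ∈ l, toF n c ∈ B := by
  unfold candsS at h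
  rw [Bool.cond_eq_ite] at h
  simp only [force_eq, fl_eq, tb_eq] at h
  split_ifs at h with hc
  simp only [Bool.and_eq_true, al_iff, Nat.blt_eq, Nat.beq_eq, Nat.ble_eq, Nat.succ_le_iff] at hc
  obtain ⟨⟨⟨h1, h2⟩, h3⟩, h4⟩ := hc
  have h2' := nodup_of_nd h2
  have hs : (toF n (mk s)).card = t := by rw [card_toF_mk h2' h3, h1]
  obtain ⟨c, hc, hsc⟩ := steiner_exists hB hs
  have hne : ∀ b ∈ L, toF n b ≠ c := by
    intro b hb e
    have := card_inter_mk b h2' h3
    rw [e, inter_eq_right.2 hsc, hs] at this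
    have := h4 b hb
    omega
  set av := (List.range n).filter (fun x => !(bad t L s).testBit x) with hav
  let inc : ℕ → Bool := fun x => if hx : x < n then decide (⟨x, hx⟩ ∈ c) else false
  set u := av.filter inc with hu
  have hun : ∀ x ∈ u, x < n := fun x hx =>
    List.mem_range.1 (List.mem_filter.1 (List.mem_filter.1 hx).1).1
  have hund : u.Nodup := (List.nodup_range.filter _).filter _
  have hus : ∀ x ∈ u, x ∉ s := by
    intro x hx hxs
    have h5 := (List.mem_filter.1 (List.mem_filter.1 hx).1).2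
    have : (bad t L s).testBit x = true := by
      clear h4 hne hL h hav hu hun hund h5 hx
      induction L with
      | nil => exact (testBit_mk s x).2 hxs
      | cons b L ih =>
        have e : bad t (b :: L) s =
          cond (Nat.ble t (cnt b s + 1)) (bad t L s ||| b) (bad t L s) :=
      brec_eq _ _ _
        rw [e]
        cases Nat.ble t (cnt b s + 1) <;> simp [ih]
    simp [this] at h5
  have hnd : (u.reverse ++ s).Nodup := by
    rw [List.nodup_append]
    refine ⟨List.nodup_reverse.2 hund, h2', fun a ha b hb e => ?_⟩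
    exact hus a (List.mem_reverse.1 ha) (e ▸ hb)
  have hn : ∀ x ∈ u.reverse ++ s, x < n := by
    intro x hx
    rcases List.mem_append.1 hx with hx | hx
    · exact hun x (List.mem_reverse.1 hx)
    · exact h3 x hx
  have key : toF n (mk (u.reverse ++ s)) = c := by
    ext x
    rw [mem_toF_mk, List.mem_append, List.mem_reverse]
    constructor
    · rintro (hx | hx)
      · have := (List.mem_filter.1 hx).2
        simpa [inc] using this
      · exact hsc (mem_toF_mk.2 hx)
    · intro hx
      by_cases hxs : x.val ∈ s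
      · exact Or.inr hxs
      left
      rw [hu, List.mem_filter, hav, List.mem_filter, List.mem_range]
      refine ⟨⟨x.2, ?_⟩, by simpa [inc] using hx⟩
      rw [Bool.not_eq_true', ← Bool.not_eq_true]
      intro hbad
      rcases bad_spec t L s x hbad with h5 | ⟨b, hb, h5, h6⟩
      · exact hxs h5
      · have h7 := steiner_inter_lt hB (hL b hb) hc (hne b hb)
        have h8 : insert x (toF n b ∩ toF n (mk s)) ⊆ toF n b ∩ c := by
          intro y hy
          rcases mem_insert.1 hy with rfl | hy
          · exact mem_inter.2 ⟨mem_toF.2 h6, hx⟩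
          · exact mem_inter.2 ⟨(mem_inter.1 hy).1, hsc (mem_inter.1 hy).2⟩
        have h9 := card_le_card h8
        rw [card_insert_of_notMem (fun hy => hxs (mem_toF_mk.1 (mem_inter.1 hy).2)),
          card_inter_mk b h2' h3] at h9
        omega
  have hlen : u.length = k - t := by
    have := card_toF_mk hnd hn
    rw [key, steiner_card hB hc, List.length_append, List.length_reverse] at this
    omega
  refine ⟨mk (u.reverse ++ s), ?_, key ▸ hc⟩
  rw [← Option.some.inj h, ← hlen]
  refine mem_subs _ _ _ _ _ List.filter_sublist ?_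
  rw [al_iff]
  intro b hb
  rw [← card_inter_mk b hnd hn, key]
  exact halw _ (hL b hb) _ hc (hne b hb)

/-- candidates, with symmetric difference steps `[n, b, c]` when `xr ≠ 0` -/
noncomputable def candsX (n t k alw xr : ℕ) (L s : List ℕ) : Option (List ℕ) :=
  cond (Nat.beq (s.headD 0) n && Nat.blt 0 xr)
    (cond (el L (s.getD 1 0) && el L (s.getD 2 0) &&
        Nat.beq (cnt (s.getD 1 0 &&& s.getD 2 0) (List.range n)) xr)
      (some [s.getD 1 0 ^^^ s.getD 2 0]) none)
    (candsS n t k alw L s)

/-- the goal: some permutation fixing the points `< f` makes `B` contain all of `L0` -/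
def Goal (n f : ℕ) (L0 : List ℕ) (B : Set (Finset (Fin n))) : Prop :=
  ∃ σ : Equiv.Perm (Fin n), (∀ i : Fin n, i.val < f → σ i = i) ∧ ∀ m ∈ L0, toF n m ∈ σ • B

/-- allowed swaps -/
def vsw (n f i j : ℕ) : Bool := Nat.ble f i && Nat.ble f j && Nat.blt i n && Nat.blt j n

theorem sound_steiner {n t k alw xr : ℕ} (f : ℕ) (L0 : List ℕ)
    (halw : ∀ B : Set (Finset (Fin n)), IsSteinerSystem t k B →
      ∀ b ∈ B, ∀ c ∈ B, b ≠ c → alw.testBit (b ∩ c).card = true)
    (hx : 0 < xr → ∀ B : Set (Finset (Fin n)), IsSteinerSystem t k B →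
      ∀ b ∈ B, ∀ c ∈ B, (b ∩ c).card = xr → symmDiff b c ∈ B) :
    Sound (IsSteinerSystem t k) (Goal n f L0) (vsw n f) (candsX n t k alw xr) where
  lt i j h := by
    simp only [vsw, Bool.and_eq_true, Nat.blt_eq] at h
    exact ⟨h.1.2, h.2⟩
  hP i j _ B hB := steiner_smul hB _
  hQ i j h B := by
    simp only [vsw, Bool.and_eq_true, Nat.ble_eq] at h
    rintro ⟨σ, h1, h2⟩
    refine ⟨σ * Equiv.swap i j, fun x hx => ?_, fun m hm => ?_⟩
    · rw [Equiv.Perm.mul_apply, Equiv.swap_apply_of_ne_of_ne, h1 x hx]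
      · rintro rfl; omega
      · rintro rfl; omega
    · rw [mul_smul]; exact h2 m hm
  hc L s l B h hB hL := by
    unfold candsX at h
    rw [Bool.cond_eq_ite] at h
    split_ifs at h with h1
    · rw [Bool.cond_eq_ite] at h
      split_ifs at h with h2
      simp only [Bool.and_eq_true, Nat.blt_eq, Nat.beq_eq] at h1 h2
      rw [← Option.some.inj h]
      refine ⟨_, List.mem_singleton_self _, ?_⟩
      rw [toF_xor]
      refine hx h1.2 B hB _ (hL _ (mem_of_el h2.1.1)) _ (hL _ (mem_of_el h2.1.2)) ?_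
      rw [← toF_and, card_toF, h2.2]
    · exact candsS_sound hB (halw B hB) h hL

theorem claim_base {n : ℕ} (P : Set (Finset (Fin n)) → Prop) (f : ℕ) (L0 : List ℕ) :
    Claim P (Goal n f L0) L0 :=
  fun _ _ hL => ⟨1, fun _ _ => rfl, by simpa using hL⟩

theorem claim_weaken {n : ℕ} {P : Set (Finset (Fin n)) → Prop} {f f' : ℕ} {L0 L : List ℕ}
    (hf : f' ≤ f) (h : Claim P (Goal n f L0) L) : Claim P (Goal n f' L0) L := by
  intro B hB hL
  obtain ⟨σ, h1, h2⟩ := h B hB hL
  exact ⟨σ, fun i hi => h1 i (hi.trans_le hf), h2⟩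

theorem det_of_claim {n : ℕ} {P : Set (Finset (Fin n)) → Prop} {L0 L : List ℕ}
    (h : Claim P (Goal n n L0) L) (B : Set (Finset (Fin n))) (hB : P B)
    (hL : ∀ m ∈ L, toF n m ∈ B) : ∀ m ∈ L0, toF n m ∈ B := by
  obtain ⟨σ, h1, h2⟩ := h B hB hL
  have : σ = 1 := Equiv.ext fun i => h1 i i.2
  simpa [this] using h2

/-- the set system coded by a list -/
def sys (n : ℕ) (L : List ℕ) : Set (Finset (Fin n)) := {b | ∃ m ∈ L, toF n m = b}

theorem ncard_sys {n : ℕ} {L : List ℕ} (h1 : nd L = true)
    (h2 : al L (fun m => Nat.blt m (2 ^ n)) = true) : (sys n L).ncard = L.length := by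
  have : sys n L = toF n '' (L.toFinset : Set ℕ) := by
    ext b; simp [sys]
  rw [this, Set.InjOn.ncard_image, Set.ncard_coe_finset,
    List.toFinset_card_of_nodup (nodup_of_nd h1)]
  simp only [al_iff, Nat.blt_eq] at h2
  intro a ha b hb e
  exact toF_injOn (h2 a (by simpa using ha)) (h2 b (by simpa using hb)) e

theorem eq_sys {n : ℕ} {L : List ℕ} (h1 : nd L = true)
    (h2 : al L (fun m => Nat.blt m (2 ^ n)) = true) {B : Set (Finset (Fin n))}
    (hB : B.ncard = L.length) (hL : ∀ m ∈ L, toF n m ∈ B) : B = sys n L := by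
  symm
  apply Set.eq_of_subset_of_ncard_le
  · rintro _ ⟨m, hm, rfl⟩; exact hL m hm
  · rw [hB, ncard_sys h1 h2]
  · exact Set.toFinite _

end Chk

end Cfsg.Agent.H2
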