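import Cfsg.Agent.H2.ChkAut

/-! Uniqueness of S(4,5,11) in strong form, and the order of its group (generated certificates). -/

set_option autoImplicit false
set_option maxRecDepth 100000

namespace Cfsg.Agent.H2.D11

open Chk
open scoped Pointwise

def L0 : List ℕ := [1921, 1858, 1832, 1812, 1744, 1698, 1676, 1636, 1609, 1585, 1562, 1480, 964, 944, 1444,
    1426, 906, 1392, 865, 856, 1349, 806, 1315, 1305, 787, 1294, 781, 744, 482, 1249, 465, 1222, 1208, 425,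
    677, 412, 662, 1173, 244, 626, 364, 597, 205, 1069, 309, 1078, 572, 1116, 342, 218, 590, 179, 314, 1130,
    121, 1107, 331, 1163, 707, 1543, 174, 555, 665, 391, 103, 31]

def Lg : List ℕ := [174, 555, 665, 391, 103, 31]

theorem sndf (f : ℕ) : Sound (IsSteinerSystem 4 5) (Goal 11 f L0) (vsw 11 f) (candsX 11 4 5 14 0) :=
  sound_steiner f L0 (fun B hB b hb c hc hbc => by
    have h1 := nInt_eq_zero_iff.1 (nInt_block_11 (Fintype.card_fin _) hB hc).1 b hb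
    have h2 := steiner_inter_lt hB hb hc hbc
    generalize (b ∩ c).card = i at h1 h2
    interval_cases i <;> first | decide | exact absurd rfl h1) (fun h => absurd h (by decide))

theorem det : Claim (IsSteinerSystem 4 5) (Goal 11 11 L0) Lg :=
  node_red (sndf 11) (claim_base _ _ _) [[0, 1, 2, 9], [0, 1, 7, 9], [0, 1, 3, 7], [0, 1, 3, 6], [0, 1, 4, 6],
    [0, 3, 4, 6], [1, 3, 5, 6], [1, 3, 4, 5], [0, 1, 4, 5], [1, 2, 3, 6], [1, 3, 4, 6], [1, 2, 4, 6], [2, 3,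
    4, 6], [2, 3, 4, 5], [1, 2, 4, 5], [0, 2, 4, 5], [0, 2, 3, 5], [0, 2, 3, 6], [0, 2, 4, 6], [2, 3, 5, 6],
    [1, 4, 5, 6], [2, 4, 5, 6], [0, 2, 4, 7], [1, 2, 4, 7], [2, 3, 4, 7], [0, 2, 5, 7], [0, 3, 5, 7], [3, 4,
    5, 7], [1, 2, 6, 7], [0, 4, 6, 7], [0, 5, 6, 7], [1, 5, 6, 7], [3, 5, 6, 7], [0, 2, 3, 8], [1, 2, 3, 8],
    [0, 1, 4, 8], [0, 3, 4, 8], [0, 1, 5, 8], [1, 2, 5, 8], [0, 2, 6, 8], [3, 4, 6, 8], [0, 5, 6, 8], [4, 5,
    6, 8], [1, 3, 7, 8], [1, 4, 7, 8], [2, 5, 7, 8], [4, 5, 7, 8], [2, 6, 7, 8], [3, 6, 7, 8], [1, 3, 4, 9],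
    [0, 4, 5, 9], [0, 3, 6, 9], [2, 5, 6, 9], [2, 3, 7, 9], [1, 5, 7, 9], [4, 6, 7, 9], [2, 4, 8, 9], [3, 5,
    8, 9], [1, 6, 8, 9], [0, 7, 8, 9]] [] _ (by decide +kernel)

/-- the claims -/
abbrev Cl (L : List ℕ) : Prop := Claim (IsSteinerSystem 4 5) (Goal 11 4 L0) L

theorem snd : Sound (IsSteinerSystem 4 5) (Goal 11 4 L0) (vsw 11 4) (candsX 11 4 5 14 0) :=
  sndf 4

theorem ng : Cl Lg := claim_weaken (by decide) det

def L1 : List ℕ := [587, 171, 1633, 1561, 481, 409, 1921, 121, 1543, 391, 103, 31]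

theorem n1 : Cl L1 :=
  node_dead snd [[0, 1, 3, 8], [0, 1, 6, 8], [0, 1, 6, 7], [0, 1, 4, 7], [0, 1, 4, 5], [0, 4, 5, 7], [0, 4, 6,
    7]] _ (by decide +kernel)

def L2 : List ℕ := [171, 1633, 1561, 481, 409, 1921, 121, 1543, 391, 103, 31]

theorem n2 : Cl L2 :=
  node_branch snd (all_cons n1 all_nil) [] [0, 1, 3, 9]
    (hint 11 [(779, [(5, 7), (6, 8)], 0)] 587) _ (by decide +kernel)

def L3 : List ℕ := [409, 1921, 121, 1543, 391, 103, 31]

theorem n3 : Cl L3 :=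
  node_branch snd (all_cons n2 all_nil) [[0, 5, 7, 8], [0, 3, 4, 9], [0, 5, 6, 9]] [0, 1, 3, 5]
    (hint 11 [(555, [(7, 9), (8, 10)], 0), (1067, [(7, 9), (8, 10), (9, 10)], 0)] 171) _ (by decide +kernel)

def L4 : List ℕ := [174, 1609, 1585, 865, 1349, 1315, 787, 781, 1249, 707, 677, 1107, 309, 597, 1173, 179,
    331, 1163, 205, 1069, 555, 465, 425, 1305, 665, 1921, 121, 1543, 391, 103, 31]

theorem n4 : Cl L4 :=
  node_red snd ng [] [] _ (by decide +kernel)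

def L5 : List ℕ := [302, 1609, 1585, 865, 1349, 1315, 787, 781, 1249, 707, 677, 1107, 309, 597, 1173, 179,
    331, 1163, 205, 1069, 555, 465, 425, 1305, 665, 1921, 121, 1543, 391, 103, 31]

theorem n5 : Cl L5 :=
  node_red snd ng [[1, 3, 4, 5], [1, 2, 4, 5], [2, 3, 4, 5], [1, 3, 5, 6], [1, 3, 4, 6], [1, 2, 3, 6]] [(5,
    6), (7, 10), (8, 9)] _ (by decide +kernel)

def L6 : List ℕ := [555, 465, 425, 1305, 665, 1921, 121, 1543, 391, 103, 31]

theorem n6 : Cl L6 :=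
  node_branch snd (all_cons n4 (all_cons n5 all_nil)) [[0, 2, 3, 5], [0, 2, 3, 7], [0, 1, 3, 7], [0, 1, 3, 6],
    [0, 1, 4, 7], [0, 2, 4, 7], [0, 2, 4, 6], [0, 2, 4, 5], [0, 1, 4, 6], [0, 2, 5, 7], [0, 1, 6, 7], [0, 5,
    6, 7], [0, 2, 3, 8], [0, 1, 4, 8], [0, 1, 5, 8], [0, 2, 6, 8], [0, 5, 6, 8], [0, 4, 5, 9], [0, 3, 6, 9]]
    [1, 2, 3, 5]
    (hint 11 [(302, [], 1)] 174) _ (by decide +kernel)

def L7 : List ℕ := [425, 1305, 665, 1921, 121, 1543, 391, 103, 31]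

theorem n7 : Cl L7 :=
  node_branch snd (all_cons n6 all_nil) [[0, 4, 7, 8]] [0, 1, 3, 5]
    (hint 11 [(1067, [(7, 8), (9, 10)], 0)] 555) _ (by decide +kernel)

def L8 : List ℕ := [665, 1921, 121, 1543, 391, 103, 31]

theorem n8 : Cl L8 :=
  node_branch snd (all_cons n7 all_nil) [[0, 3, 4, 8]] [0, 3, 7, 8]
    (hint 11 [] 425) _ (by decide +kernel)

def L9 : List ℕ := [121, 1543, 391, 103, 31]

theorem n9 : Cl L9 :=
  node_branch snd (all_cons n3 (all_cons n8 all_nil)) [[7, 8, 9, 10]] [0, 3, 4, 7]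
    (hint 11 [(665, [], 1), (1177, [(9, 10)], 1)] 409) _ (by decide +kernel)

def L10 : List ℕ := [587, 171, 1634, 1562, 482, 410, 1922, 122, 1543, 391, 103, 31]

theorem n10 : Cl L10 :=
  node_dead snd [[0, 1, 3, 8], [0, 1, 6, 8], [0, 1, 6, 7], [0, 1, 4, 7], [0, 1, 4, 5], [1, 4, 5, 7], [1, 4, 6,
    7]] _ (by decide +kernel)

def L11 : List ℕ := [171, 1634, 1562, 482, 410, 1922, 122, 1543, 391, 103, 31]

theorem n11 : Cl L11 :=
  node_branch snd (all_cons n10 all_nil) [] [0, 1, 3, 9]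
    (hint 11 [(779, [(5, 7), (6, 8)], 0)] 587) _ (by decide +kernel)

def L12 : List ℕ := [410, 1922, 122, 1543, 391, 103, 31]

theorem n12 : Cl L12 :=
  node_branch snd (all_cons n11 all_nil) [[1, 5, 7, 8], [1, 3, 4, 9], [1, 5, 6, 9]] [0, 1, 3, 5]
    (hint 11 [(555, [(7, 9), (8, 10)], 0), (1067, [(7, 9), (8, 10), (9, 10)], 0)] 171) _ (by decide +kernel)

def L13 : List ℕ := [173, 1610, 1586, 866, 1350, 1315, 787, 782, 1250, 707, 678, 1107, 310, 598, 1174, 179,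
    331, 1163, 206, 1070, 555, 466, 426, 1306, 666, 1922, 122, 1543, 391, 103, 31]

theorem n13 : Cl L13 :=
  node_red snd ng [[2, 3, 4, 5], [0, 2, 4, 5], [0, 3, 4, 5]] [(5, 9), (6, 10), (7, 8)] _ (by decide +kernel)

def L14 : List ℕ := [301, 1610, 1586, 866, 1350, 1315, 787, 782, 1250, 707, 678, 1107, 310, 598, 1174, 179,
    331, 1163, 206, 1070, 555, 466, 426, 1306, 666, 1922, 122, 1543, 391, 103, 31]

theorem n14 : Cl L14 :=
  node_red snd ng [[0, 3, 4, 5], [0, 2, 4, 5], [2, 3, 4, 5], [0, 3, 5, 6], [0, 3, 4, 6]] [(5, 10), (6, 9), (7,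
    9), (8, 10)] _ (by decide +kernel)

def L15 : List ℕ := [555, 466, 426, 1306, 666, 1922, 122, 1543, 391, 103, 31]

theorem n15 : Cl L15 :=
  node_branch snd (all_cons n13 (all_cons n14 all_nil)) [[1, 2, 3, 5], [1, 2, 3, 7], [0, 1, 3, 7], [0, 1, 3,
    6], [0, 1, 4, 7], [1, 2, 4, 7], [1, 2, 4, 6], [1, 2, 4, 5], [0, 1, 4, 6], [1, 2, 5, 7], [0, 1, 6, 7], [1,
    5, 6, 7], [1, 2, 3, 8], [0, 1, 4, 8], [0, 1, 5, 8], [1, 2, 6, 8], [1, 5, 6, 8], [1, 4, 5, 9], [1, 3, 6,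
    9]] [0, 2, 3, 5]
    (hint 11 [(301, [], 1)] 173) _ (by decide +kernel)

def L16 : List ℕ := [426, 1306, 666, 1922, 122, 1543, 391, 103, 31]

theorem n16 : Cl L16 :=
  node_branch snd (all_cons n15 all_nil) [[1, 4, 7, 8]] [0, 1, 3, 5]
    (hint 11 [(1067, [(7, 8), (9, 10)], 0)] 555) _ (by decide +kernel)

def L17 : List ℕ := [666, 1922, 122, 1543, 391, 103, 31]

theorem n17 : Cl L17 :=
  node_branch snd (all_cons n16 all_nil) [[1, 3, 4, 8]] [1, 3, 7, 8]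
    (hint 11 [] 426) _ (by decide +kernel)

def L18 : List ℕ := [122, 1543, 391, 103, 31]

theorem n18 : Cl L18 :=
  node_branch snd (all_cons n12 (all_cons n17 all_nil)) [[7, 8, 9, 10]] [1, 3, 4, 7]
    (hint 11 [(666, [], 1), (1178, [(9, 10)], 1)] 410) _ (by decide +kernel)

def L19 : List ℕ := [684, 171, 1636, 1564, 484, 412, 1924, 124, 1543, 391, 103, 31]

theorem n19 : Cl L19 :=
  node_dead snd [[3, 4, 5, 7], [3, 5, 6, 7]] _ (by decide +kernel)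

def L20 : List ℕ := [171, 1636, 1564, 484, 412, 1924, 124, 1543, 391, 103, 31]

theorem n20 : Cl L20 :=
  node_branch snd (all_cons n19 all_nil) [] [2, 3, 5, 7]
    (hint 11 [] 684) _ (by decide +kernel)

def L21 : List ℕ := [412, 1924, 124, 1543, 391, 103, 31]

theorem n21 : Cl L21 :=
  node_branch snd (all_cons n20 all_nil) [[2, 5, 7, 8], [2, 3, 4, 9], [2, 5, 6, 9]] [0, 1, 3, 5]
    (hint 11 [(555, [(7, 9), (8, 10)], 0), (1067, [(7, 9), (8, 10), (9, 10)], 0)] 171) _ (by decide +kernel)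

def L22 : List ℕ := [171, 1612, 1588, 868, 1350, 1317, 789, 782, 1252, 709, 678, 1109, 310, 598, 1174, 181,
    333, 1165, 206, 1070, 557, 468, 428, 1308, 668, 1924, 124, 1543, 391, 103, 31]

theorem n22 : Cl L22 :=
  node_red snd ng [[1, 3, 4, 5], [0, 1, 4, 5], [0, 3, 4, 5], [0, 3, 5, 6], [0, 1, 3, 6], [0, 3, 4, 6], [0, 1,
    4, 6], [1, 3, 4, 6], [1, 3, 5, 6], [0, 4, 5, 6], [1, 4, 5, 6], [0, 1, 4, 7], [1, 3, 4, 7], [3, 4, 5, 7],
    [0, 1, 6, 7], [0, 5, 6, 7], [3, 5, 6, 7], [0, 1, 3, 8]] [(5, 7), (6, 8), (7, 10), (8, 9)] _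
    (by decide +kernel)

def L23 : List ℕ := [299, 1612, 1588, 868, 1350, 1317, 789, 782, 1252, 709, 678, 1109, 310, 598, 1174, 181,
    333, 1165, 206, 1070, 557, 468, 428, 1308, 668, 1924, 124, 1543, 391, 103, 31]

theorem n23 : Cl L23 :=
  node_red snd ng [[0, 3, 4, 5], [0, 1, 4, 5], [1, 3, 4, 5], [0, 3, 5, 6], [0, 3, 4, 6], [0, 1, 3, 6], [1, 3,
    4, 6], [0, 1, 4, 6], [1, 3, 5, 6], [0, 4, 5, 6], [1, 4, 5, 6], [0, 1, 3, 7]] [(5, 8), (6, 7), (7, 8)] _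
    (by decide +kernel)

def L24 : List ℕ := [557, 468, 428, 1308, 668, 1924, 124, 1543, 391, 103, 31]

theorem n24 : Cl L24 :=
  node_branch snd (all_cons n22 (all_cons n23 all_nil)) [[1, 2, 3, 5], [1, 2, 3, 7], [0, 2, 3, 7], [0, 2, 3,
    6], [0, 2, 4, 7], [1, 2, 4, 7], [1, 2, 4, 6], [1, 2, 4, 5], [0, 2, 4, 6], [1, 2, 5, 7], [0, 2, 6, 7], [2,
    5, 6, 7], [1, 2, 3, 8], [0, 2, 4, 8], [0, 2, 5, 8], [1, 2, 6, 8], [2, 5, 6, 8], [2, 4, 5, 9], [2, 3, 6,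
    9]] [0, 1, 3, 5]
    (hint 11 [(299, [], 1)] 171) _ (by decide +kernel)

def L25 : List ℕ := [428, 1308, 668, 1924, 124, 1543, 391, 103, 31]

theorem n25 : Cl L25 :=
  node_branch snd (all_cons n24 all_nil) [[2, 4, 7, 8]] [0, 2, 3, 5]
    (hint 11 [(1069, [(7, 8), (9, 10)], 0)] 557) _ (by decide +kernel)

def L26 : List ℕ := [668, 1924, 124, 1543, 391, 103, 31]

theorem n26 : Cl L26 :=
  node_branch snd (all_cons n25 all_nil) [[2, 3, 4, 8]] [2, 3, 7, 8]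
    (hint 11 [] 428) _ (by decide +kernel)

def L27 : List ℕ := [124, 1543, 391, 103, 31]

theorem n27 : Cl L27 :=
  node_branch snd (all_cons n21 (all_cons n26 all_nil)) [[7, 8, 9, 10]] [2, 3, 4, 7]
    (hint 11 [(668, [], 1), (1180, [(9, 10)], 1)] 412) _ (by decide +kernel)

def L28 : List ℕ := [391, 103, 31]

theorem n28 : Cl L28 :=
  node_branch snd (all_cons n9 (all_cons n18 (all_cons n27 all_nil))) [[0, 1, 2, 9]] [3, 4, 5, 6]
    (hint 11 [(122, [], 1), (124, [], 2)] 121) _ (by decide +kernel)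

def L29 : List ℕ := [103, 31]

theorem n29 : Cl L29 :=
  node_branch snd (all_cons n28 all_nil) [] [0, 1, 2, 7]
    (hint 11 [] 391) _ (by decide +kernel)

def L30 : List ℕ := [31]

theorem n30 : Cl L30 :=
  node_branch snd (all_cons n29 all_nil) [] [0, 1, 2, 5]
    (hint 11 [] 103) _ (by decide +kernel)

def L31 : List ℕ := []

theorem n31 : Cl L31 :=
  node_branch snd (all_cons n30 all_nil) [] [0, 1, 2, 3]
    (hint 11 [] 31) _ (by decide +kernel)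

theorem strong : Strong 11 4 5 4 L0 :=
  strong_of_claim (by decide +kernel) (by decide +kernel) (by decide +kernel) (by decide) n31

theorem card_stab (hS : IsSteinerSystem 4 5 (sys 11 L0)) :
    Nat.card {g : Equiv.Perm (Fin 11) //
      g • sys 11 L0 = sys 11 L0 ∧ ∀ i : Fin 11, i.val < 4 → g i = i} = 1 :=
  Chk.card_stab hS det [[[0, 1, 2, 3]], [], [[0, 3, 4, 5]], [[2, 4, 5, 6], [1, 2, 3, 5]], [[1, 5, 6, 7]], [[2,
    6, 7, 8]], []] rfl (by decide +kernel) (by decide +kernel)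

end Cfsg.Agent.H2.D11
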