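import Cfsg.Agent.H2.ChkAut

/-! Uniqueness of S(5,6,12) in strong form, and the order of its group (generated certificates). -/

set_option autoImplicit false
set_option maxRecDepth 100000

namespace Cfsg.Agent.H2.D12

open Chk
open scoped Pointwise

def L0 : List ℕ := [3852, 3843, 3736, 3717, 3684, 3665, 3658, 3625, 3606, 3489, 3476, 3466, 3432, 3410, 3397,
    3366, 3353, 3312, 3273, 3270, 3244, 3219, 3171, 3164, 3130, 3125, 3087, 1956, 1938, 2961, 1929, 2950,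
    2914, 1889, 1880, 2900, 2889, 1862, 1834, 2853, 2842, 1813, 1768, 1748, 1731, 1713, 1678, 2699, 1650,
    1613, 2631, 1596, 2606, 1575, 2589, 1563, 1008, 2532, 1506, 2520, 1489, 1484, 970, 965, 2499, 1464, 2482,
    931, 924, 2445, 1415, 1396, 2417, 876, 851, 2382, 1355, 2364, 825, 822, 1325, 2347, 1310, 2327, 2282, 489,
    742, 1253, 1242, 729, 470, 698, 2233, 1195, 2215, 1206, 430, 685, 437, 2206, 411, 1181, 2166, 1134, 606,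
    2139, 619, 359, 2157, 629, 2261, 252, 378, 1145, 243, 63, 663, 2611, 2680, 2770, 4032, 3746, 2740, 2785,
    2984, 3888, 2764, 349, 1111, 1331, 783, 207]

def Lg : List ℕ := [349, 1111, 1331, 783, 207]

theorem sndf (f : ℕ) : Sound (IsSteinerSystem 5 6) (Goal 12 f L0) (vsw 12 f) (candsX 12 5 6 29 0) :=
  sound_steiner f L0 (fun B hB b hb c hc hbc => by
    have h1 := nInt_eq_zero_iff.1 (nInt_block_12 (Fintype.card_fin _) hB hc).2.1 b hb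
    have h2 := steiner_inter_lt hB hb hc hbc
    generalize (b ∩ c).card = i at h1 h2
    interval_cases i <;> first | decide | exact absurd rfl h1) (fun h => absurd h (by decide))

theorem det : Claim (IsSteinerSystem 5 6) (Goal 12 12 L0) Lg :=
  node_red (sndf 12) (claim_base _ _ _) [[2, 3, 6, 7, 9], [4, 5, 8, 9, 10], [3, 5, 7, 9, 11], [5, 6, 7, 9,
    11], [4, 5, 7, 9, 11], [1, 5, 7, 9, 11], [6, 7, 9, 10, 11], [1, 6, 7, 9, 11], [4, 5, 6, 9, 11], [0, 4, 5,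
    9, 11], [0, 1, 2, 4, 9], [0, 1, 2, 4, 5], [0, 1, 4, 5, 6], [0, 3, 4, 5, 6], [1, 3, 4, 5, 6], [2, 3, 4, 5,
    6], [0, 2, 4, 6, 7], [0, 2, 4, 5, 6], [0, 2, 3, 5, 6], [0, 1, 2, 5, 6], [0, 1, 3, 5, 6], [0, 1, 3, 4, 6],
    [1, 2, 3, 4, 6], [1, 2, 3, 5, 6], [1, 2, 4, 5, 6], [0, 2, 3, 4, 7], [0, 1, 3, 4, 7], [1, 2, 3, 4, 7], [0,
    2, 4, 5, 7], [0, 2, 3, 5, 7], [1, 2, 3, 5, 7], [1, 2, 4, 5, 7], [0, 1, 2, 5, 7], [0, 1, 3, 5, 7], [0, 3,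
    4, 5, 7], [1, 3, 4, 5, 7], [1, 2, 4, 6, 7], [0, 3, 4, 6, 7], [1, 3, 4, 6, 7], [0, 2, 5, 6, 7], [1, 2, 5,
    6, 7], [0, 3, 5, 6, 7], [1, 3, 5, 6, 7], [0, 1, 2, 4, 8], [1, 2, 3, 4, 8], [0, 1, 3, 5, 8], [0, 2, 3, 5,
    8], [1, 2, 4, 5, 8], [0, 3, 4, 5, 8], [2, 3, 4, 5, 8], [0, 1, 3, 6, 8], [1, 2, 3, 6, 8], [0, 1, 4, 6, 8],
    [2, 3, 5, 6, 8], [0, 4, 5, 6, 8], [2, 4, 5, 6, 8], [0, 1, 2, 7, 8], [0, 2, 3, 7, 8], [2, 3, 4, 7, 8], [0,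
    1, 5, 7, 8], [1, 4, 5, 7, 8], [3, 4, 5, 7, 8], [0, 1, 6, 7, 8], [0, 2, 6, 7, 8], [1, 3, 6, 7, 8], [2, 3,
    6, 7, 8], [0, 4, 6, 7, 8], [3, 4, 6, 7, 8], [1, 5, 6, 7, 8], [2, 5, 6, 7, 8], [4, 5, 6, 7, 8], [0, 1, 3,
    4, 9], [0, 2, 3, 4, 9], [0, 1, 2, 5, 9], [1, 2, 3, 5, 9], [2, 3, 4, 5, 9], [0, 1, 2, 6, 9], [0, 2, 3, 6,
    9], [1, 4, 5, 6, 9], [0, 1, 3, 7, 9], [1, 2, 3, 7, 9], [0, 4, 5, 7, 9], [0, 1, 6, 7, 9], [2, 4, 6, 7, 9],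
    [3, 5, 6, 7, 9], [0, 2, 4, 8, 9], [1, 3, 4, 8, 9], [0, 2, 5, 8, 9], [1, 3, 5, 8, 9], [1, 2, 6, 8, 9], [0,
    3, 6, 8, 9], [2, 4, 6, 8, 9], [3, 4, 6, 8, 9], [0, 5, 6, 8, 9], [1, 5, 6, 8, 9], [1, 2, 7, 8, 9], [0, 3,
    7, 8, 9], [0, 4, 7, 8, 9], [1, 4, 7, 8, 9], [2, 5, 7, 8, 9], [0, 1, 2, 3, 10], [0, 2, 4, 5, 10], [1, 3, 4,
    5, 10], [2, 3, 4, 6, 10], [0, 1, 5, 6, 10], [0, 1, 4, 7, 10], [2, 3, 5, 7, 10], [1, 2, 6, 7, 10], [0, 3,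
    6, 7, 10], [4, 5, 6, 7, 10], [0, 3, 4, 8, 10], [1, 2, 5, 8, 10], [0, 2, 6, 8, 10], [1, 4, 6, 8, 10], [3,
    5, 6, 8, 10], [1, 3, 7, 8, 10], [2, 4, 7, 8, 10], [0, 5, 7, 8, 10], [1, 2, 4, 9, 10], [0, 3, 5, 9, 10],
    [1, 3, 6, 9, 10], [0, 4, 6, 9, 10], [2, 5, 6, 9, 10], [0, 2, 7, 9, 10], [3, 4, 7, 9, 10], [0, 1, 8, 9,
    10], [2, 3, 8, 9, 10]] [] _ (by decide +kernel)

/-- the claims -/
abbrev Cl (L : List ℕ) : Prop := Claim (IsSteinerSystem 5 6) (Goal 12 5 L0) L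

theorem snd : Sound (IsSteinerSystem 5 6) (Goal 12 5 L0) (vsw 12 5) (candsX 12 5 6 29 0) :=
  sndf 5

theorem ng : Cl Lg := claim_weaken (by decide) det

def L1 : List ℕ := [1372, 3752, 343, 3276, 3267, 3132, 3123, 972, 963, 828, 819, 3852, 3843, 252, 243, 3312,
    1008, 3087, 783, 3888, 207, 4032, 63]

theorem n1 : Cl L1 :=
  node_dead snd [[2, 4, 5, 6, 8], [2, 4, 6, 7, 8]] _ (by decide +kernel)

def L2 : List ℕ := [343, 3276, 3267, 3132, 3123, 972, 963, 828, 819, 3852, 3843, 252, 243, 3312, 1008, 3087,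
    783, 3888, 207, 4032, 63]

theorem n2 : Cl L2 :=
  node_branch snd (all_cons n1 all_nil) [[3, 5, 7, 10, 11]] [2, 3, 4, 6, 8]
    (hint 12 [] 1372) _ (by decide +kernel)

def L3 : List ℕ := [819, 3852, 3843, 252, 243, 3312, 1008, 3087, 783, 3888, 207, 4032, 63]

theorem n3 : Cl L3 :=
  node_branch snd (all_cons n2 all_nil) [[2, 4, 5, 8, 9], [0, 1, 6, 8, 9], [2, 3, 6, 8, 9], [0, 1, 4, 5, 10],
    [2, 3, 4, 5, 10], [0, 1, 6, 7, 10], [2, 3, 6, 7, 10]] [0, 1, 2, 4, 6]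
    (hint 12 [(1111, [(8, 10), (9, 11)], 0), (2135, [(8, 10), (9, 11), (10, 11)], 0)] 343) _
    (by decide +kernel)

def L4 : List ℕ := [349, 3736, 3684, 3476, 3432, 3219, 3171, 2984, 1956, 1880, 2900, 1768, 1748, 1731, 2740,
    2699, 2680, 2631, 1596, 1575, 1563, 2532, 1396, 876, 2364, 1464, 924, 2520, 2499, 1415, 1355, 2215, 619,
    1195, 2347, 359, 663, 2327, 411, 2139, 1111, 3244, 3164, 931, 851, 2764, 1484, 2611, 1331, 3852, 3843,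
    252, 243, 3312, 1008, 3087, 783, 3888, 207, 4032, 63]

theorem n4 : Cl L4 :=
  node_red snd ng [] [] _ (by decide +kernel)

def L5 : List ℕ := [605, 3736, 3684, 3476, 3432, 3219, 3171, 2984, 1956, 1880, 2900, 1768, 1748, 1731, 2740,
    2699, 2680, 2631, 1596, 1575, 1563, 2532, 1396, 876, 2364, 1464, 924, 2520, 2499, 1415, 1355, 2215, 619,
    1195, 2347, 359, 663, 2327, 411, 2139, 1111, 3244, 3164, 931, 851, 2764, 1484, 2611, 1331, 3852, 3843,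
    252, 243, 3312, 1008, 3087, 783, 3888, 207, 4032, 63]

theorem n5 : Cl L5 :=
  node_red snd ng [[1, 2, 3, 4, 6], [0, 2, 4, 5, 6], [0, 2, 3, 5, 6], [1, 2, 3, 5, 6], [1, 2, 4, 5, 6], [0, 3,
    4, 5, 6], [1, 3, 4, 5, 6], [0, 2, 4, 6, 7], [0, 2, 4, 5, 7], [0, 2, 3, 4, 7]] [(6, 7), (8, 11), (9, 10)] _
    (by decide +kernel)

def L6 : List ℕ := [1111, 3244, 3164, 931, 851, 2764, 1484, 2611, 1331, 3852, 3843, 252, 243, 3312, 1008,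
    3087, 783, 3888, 207, 4032, 63]

theorem n6 : Cl L6 :=
  node_branch snd (all_cons n4 (all_cons n5 all_nil)) [[0, 1, 3, 4, 6], [0, 1, 3, 4, 8], [0, 1, 2, 4, 8], [0,
    1, 2, 4, 7], [0, 1, 2, 5, 8], [0, 1, 3, 5, 8], [0, 1, 3, 5, 7], [0, 1, 3, 5, 6], [0, 1, 2, 5, 7], [0, 1,
    3, 6, 8], [0, 1, 2, 7, 8], [0, 1, 6, 7, 8], [3, 4, 6, 7, 8], [2, 3, 4, 7, 8], [3, 4, 5, 7, 8], [2, 3, 4,
    5, 8], [2, 3, 5, 6, 8], [2, 4, 5, 6, 8], [2, 5, 6, 7, 8], [0, 1, 3, 4, 9], [0, 1, 2, 5, 9], [2, 3, 4, 5,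
    9], [0, 1, 2, 6, 9], [3, 4, 5, 6, 9], [0, 1, 3, 7, 9], [2, 4, 5, 7, 9], [0, 1, 6, 7, 9], [2, 4, 6, 7, 9],
    [3, 5, 6, 7, 9], [2, 4, 6, 8, 9], [3, 4, 6, 8, 9], [2, 5, 7, 8, 9], [3, 5, 7, 8, 9], [0, 1, 5, 6, 10], [0,
    1, 4, 7, 10], [3, 5, 6, 8, 10], [2, 4, 7, 8, 10], [2, 5, 6, 9, 10], [3, 4, 7, 9, 10]] [0, 2, 3, 4, 6]
    (hint 12 [(605, [], 1)] 349) _ (by decide +kernel)

def L7 : List ℕ := [851, 2764, 1484, 2611, 1331, 3852, 3843, 252, 243, 3312, 1008, 3087, 783, 3888, 207, 4032,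
    63]

theorem n7 : Cl L7 :=
  node_branch snd (all_cons n6 all_nil) [[0, 1, 5, 8, 9], [2, 3, 6, 10, 11], [2, 3, 5, 10, 11]] [0, 1, 2, 4,
    6]
    (hint 12 [(2135, [(8, 9), (10, 11)], 0)] 1111) _ (by decide +kernel)

def L8 : List ℕ := [1331, 3852, 3843, 252, 243, 3312, 1008, 3087, 783, 3888, 207, 4032, 63]

theorem n8 : Cl L8 :=
  node_branch snd (all_cons n7 all_nil) [[0, 1, 4, 5, 9], [2, 3, 6, 7, 8], [2, 3, 6, 7, 9]] [0, 1, 4, 8, 9]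
    (hint 12 [] 851) _ (by decide +kernel)

def L9 : List ℕ := [243, 3312, 1008, 3087, 783, 3888, 207, 4032, 63]

theorem n9 : Cl L9 :=
  node_branch snd (all_cons n3 (all_cons n8 all_nil)) [[2, 4, 5, 6, 7], [0, 8, 9, 10, 11], [2, 8, 9, 10, 11]]
    [0, 1, 4, 5, 8]
    (hint 12 [(1331, [], 1), (2355, [(10, 11)], 1)] 819) _ (by decide +kernel)

def L10 : List ℕ := [1370, 3752, 343, 3274, 3269, 3130, 3125, 970, 965, 826, 821, 3850, 3845, 250, 245, 3312,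
    1008, 3087, 783, 3888, 207, 4032, 63]

theorem n10 : Cl L10 :=
  node_dead snd [[1, 4, 5, 6, 8], [1, 4, 6, 7, 8]] _ (by decide +kernel)

def L11 : List ℕ := [343, 3274, 3269, 3130, 3125, 970, 965, 826, 821, 3850, 3845, 250, 245, 3312, 1008, 3087,
    783, 3888, 207, 4032, 63]

theorem n11 : Cl L11 :=
  node_branch snd (all_cons n10 all_nil) [[3, 5, 7, 10, 11]] [1, 3, 4, 6, 8]
    (hint 12 [] 1370) _ (by decide +kernel)

def L12 : List ℕ := [821, 3850, 3845, 250, 245, 3312, 1008, 3087, 783, 3888, 207, 4032, 63]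

theorem n12 : Cl L12 :=
  node_branch snd (all_cons n11 all_nil) [[1, 4, 5, 8, 9], [0, 2, 6, 8, 9], [1, 3, 6, 8, 9], [0, 2, 4, 5, 10],
    [1, 3, 4, 5, 10], [0, 2, 6, 7, 10], [1, 3, 6, 7, 10]] [0, 1, 2, 4, 6]
    (hint 12 [(1111, [(8, 10), (9, 11)], 0), (2135, [(8, 10), (9, 11), (10, 11)], 0)] 343) _
    (by decide +kernel)

def L13 : List ℕ := [347, 3736, 3682, 3474, 3432, 3221, 3173, 2984, 1954, 1880, 2898, 1768, 1746, 1733, 2738,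
    2701, 2680, 2631, 1594, 1575, 1565, 2530, 1394, 874, 2362, 1464, 922, 2520, 2501, 1415, 1357, 2215, 621,
    1197, 2349, 359, 663, 2327, 413, 2141, 1111, 3242, 3162, 933, 853, 2762, 1482, 2613, 1333, 3850, 3845,
    250, 245, 3312, 1008, 3087, 783, 3888, 207, 4032, 63]

theorem n13 : Cl L13 :=
  node_red snd ng [[1, 2, 3, 4, 6], [1, 2, 4, 5, 6], [1, 2, 3, 5, 6], [0, 1, 3, 5, 6], [0, 1, 4, 5, 6]] [(6,
    10), (7, 11), (8, 9)] _ (by decide +kernel)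

def L14 : List ℕ := [603, 3736, 3682, 3474, 3432, 3221, 3173, 2984, 1954, 1880, 2898, 1768, 1746, 1733, 2738,
    2701, 2680, 2631, 1594, 1575, 1565, 2530, 1394, 874, 2362, 1464, 922, 2520, 2501, 1415, 1357, 2215, 621,
    1197, 2349, 359, 663, 2327, 413, 2141, 1111, 3242, 3162, 933, 853, 2762, 1482, 2613, 1333, 3850, 3845,
    250, 245, 3312, 1008, 3087, 783, 3888, 207, 4032, 63]

theorem n14 : Cl L14 :=
  node_red snd ng [[1, 2, 3, 4, 6], [0, 1, 4, 5, 6], [0, 1, 3, 5, 6], [1, 2, 3, 5, 6], [1, 2, 4, 5, 6], [0, 3,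
    4, 5, 6], [2, 3, 4, 5, 6], [0, 1, 4, 6, 7], [0, 1, 4, 5, 7]] [(6, 11), (7, 10), (8, 10), (9, 11)] _
    (by decide +kernel)

def L15 : List ℕ := [1111, 3242, 3162, 933, 853, 2762, 1482, 2613, 1333, 3850, 3845, 250, 245, 3312, 1008,
    3087, 783, 3888, 207, 4032, 63]

theorem n15 : Cl L15 :=
  node_branch snd (all_cons n13 (all_cons n14 all_nil)) [[0, 2, 3, 4, 6], [0, 2, 3, 4, 8], [0, 1, 2, 4, 8],
    [0, 1, 2, 4, 7], [0, 1, 2, 5, 8], [0, 2, 3, 5, 8], [0, 2, 3, 5, 7], [0, 2, 3, 5, 6], [0, 1, 2, 5, 7], [0,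
    2, 3, 6, 8], [0, 1, 2, 7, 8], [0, 2, 6, 7, 8], [3, 4, 6, 7, 8], [1, 3, 4, 7, 8], [3, 4, 5, 7, 8], [1, 3,
    4, 5, 8], [1, 3, 5, 6, 8], [1, 4, 5, 6, 8], [1, 5, 6, 7, 8], [0, 2, 3, 4, 9], [0, 1, 2, 5, 9], [1, 3, 4,
    5, 9], [0, 1, 2, 6, 9], [3, 4, 5, 6, 9], [0, 2, 3, 7, 9], [1, 4, 5, 7, 9], [0, 2, 6, 7, 9], [1, 4, 6, 7,
    9], [3, 5, 6, 7, 9], [1, 4, 6, 8, 9], [3, 4, 6, 8, 9], [1, 5, 7, 8, 9], [3, 5, 7, 8, 9], [0, 2, 5, 6, 10],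
    [0, 2, 4, 7, 10], [3, 5, 6, 8, 10], [1, 4, 7, 8, 10], [1, 5, 6, 9, 10], [3, 4, 7, 9, 10]] [0, 1, 3, 4, 6]
    (hint 12 [(603, [], 1)] 347) _ (by decide +kernel)

def L16 : List ℕ := [853, 2762, 1482, 2613, 1333, 3850, 3845, 250, 245, 3312, 1008, 3087, 783, 3888, 207,
    4032, 63]

theorem n16 : Cl L16 :=
  node_branch snd (all_cons n15 all_nil) [[0, 2, 5, 8, 9], [1, 3, 6, 10, 11], [1, 3, 5, 10, 11]] [0, 1, 2, 4,
    6]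
    (hint 12 [(2135, [(8, 9), (10, 11)], 0)] 1111) _ (by decide +kernel)

def L17 : List ℕ := [1333, 3850, 3845, 250, 245, 3312, 1008, 3087, 783, 3888, 207, 4032, 63]

theorem n17 : Cl L17 :=
  node_branch snd (all_cons n16 all_nil) [[0, 2, 4, 5, 9], [1, 3, 6, 7, 8], [1, 3, 6, 7, 9]] [0, 2, 4, 8, 9]
    (hint 12 [] 853) _ (by decide +kernel)

def L18 : List ℕ := [245, 3312, 1008, 3087, 783, 3888, 207, 4032, 63]

theorem n18 : Cl L18 :=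
  node_branch snd (all_cons n12 (all_cons n17 all_nil)) [[1, 4, 5, 6, 7], [0, 8, 9, 10, 11], [1, 8, 9, 10,
    11]] [0, 2, 4, 5, 8]
    (hint 12 [(1333, [], 1), (2357, [(10, 11)], 1)] 821) _ (by decide +kernel)

def L19 : List ℕ := [1369, 3752, 343, 3273, 3270, 3129, 3126, 969, 966, 825, 822, 3846, 3849, 246, 249, 3312,
    1008, 3087, 783, 3888, 207, 4032, 63]

theorem n19 : Cl L19 :=
  node_dead snd [[0, 4, 5, 6, 8], [0, 4, 6, 7, 8]] _ (by decide +kernel)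

def L20 : List ℕ := [343, 3273, 3270, 3129, 3126, 969, 966, 825, 822, 3846, 3849, 246, 249, 3312, 1008, 3087,
    783, 3888, 207, 4032, 63]

theorem n20 : Cl L20 :=
  node_branch snd (all_cons n19 all_nil) [[3, 5, 7, 10, 11]] [0, 3, 4, 6, 8]
    (hint 12 [] 1369) _ (by decide +kernel)

def L21 : List ℕ := [822, 3846, 3849, 246, 249, 3312, 1008, 3087, 783, 3888, 207, 4032, 63]

theorem n21 : Cl L21 :=
  node_branch snd (all_cons n20 all_nil) [[0, 4, 5, 8, 9], [1, 2, 6, 8, 9], [0, 3, 6, 8, 9], [1, 2, 4, 5, 10],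
    [0, 3, 4, 5, 10], [1, 2, 6, 7, 10], [0, 3, 6, 7, 10]] [0, 1, 2, 4, 6]
    (hint 12 [(1111, [(8, 10), (9, 11)], 0), (2135, [(8, 10), (9, 11), (10, 11)], 0)] 343) _
    (by decide +kernel)

def L22 : List ℕ := [347, 3736, 3681, 3473, 3432, 3222, 3174, 2984, 1953, 1880, 2897, 1768, 1745, 1734, 2737,
    2702, 2680, 2631, 1593, 1575, 1566, 2529, 1393, 873, 2361, 1464, 921, 2520, 2502, 1415, 1358, 2215, 622,
    1198, 2350, 359, 663, 2327, 414, 2142, 1111, 3241, 3161, 934, 854, 2761, 1481, 2614, 1334, 3846, 3849,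
    246, 249, 3312, 1008, 3087, 783, 3888, 207, 4032, 63]

theorem n22 : Cl L22 :=
  node_red snd ng [[0, 2, 3, 4, 6], [0, 2, 4, 5, 6], [0, 2, 3, 5, 6], [0, 1, 3, 5, 6], [0, 1, 4, 5, 6], [1, 3,
    4, 5, 6], [2, 3, 4, 5, 6], [0, 1, 4, 6, 7], [0, 1, 3, 4, 7], [0, 2, 3, 4, 7], [0, 1, 4, 5, 7]] [(6, 9),
    (7, 8), (8, 10), (9, 11)] _ (by decide +kernel)

def L23 : List ℕ := [603, 3736, 3681, 3473, 3432, 3222, 3174, 2984, 1953, 1880, 2897, 1768, 1745, 1734, 2737,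
    2702, 2680, 2631, 1593, 1575, 1566, 2529, 1393, 873, 2361, 1464, 921, 2520, 2502, 1415, 1358, 2215, 622,
    1198, 2350, 359, 663, 2327, 414, 2142, 1111, 3241, 3161, 934, 854, 2761, 1481, 2614, 1334, 3846, 3849,
    246, 249, 3312, 1008, 3087, 783, 3888, 207, 4032, 63]

theorem n23 : Cl L23 :=
  node_red snd ng [[0, 2, 3, 4, 6], [0, 1, 4, 5, 6]] [(6, 8), (7, 9), (10, 11)] _ (by decide +kernel)

def L24 : List ℕ := [1111, 3241, 3161, 934, 854, 2761, 1481, 2614, 1334, 3846, 3849, 246, 249, 3312, 1008,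
    3087, 783, 3888, 207, 4032, 63]

theorem n24 : Cl L24 :=
  node_branch snd (all_cons n22 (all_cons n23 all_nil)) [[1, 2, 3, 4, 6], [1, 2, 3, 4, 8], [0, 1, 2, 4, 8],
    [0, 1, 2, 4, 7], [0, 1, 2, 5, 8], [1, 2, 3, 5, 8], [1, 2, 3, 5, 7], [1, 2, 3, 5, 6], [0, 1, 2, 5, 7], [1,
    2, 3, 6, 8], [0, 1, 2, 7, 8], [1, 2, 6, 7, 8], [3, 4, 6, 7, 8], [0, 3, 4, 7, 8], [3, 4, 5, 7, 8], [0, 3,
    4, 5, 8], [0, 3, 5, 6, 8], [0, 4, 5, 6, 8], [0, 5, 6, 7, 8], [1, 2, 3, 4, 9], [0, 1, 2, 5, 9], [0, 3, 4,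
    5, 9], [0, 1, 2, 6, 9], [3, 4, 5, 6, 9], [1, 2, 3, 7, 9], [0, 4, 5, 7, 9], [1, 2, 6, 7, 9], [0, 4, 6, 7,
    9], [3, 5, 6, 7, 9], [0, 4, 6, 8, 9], [3, 4, 6, 8, 9], [0, 5, 7, 8, 9], [3, 5, 7, 8, 9], [1, 2, 5, 6, 10],
    [1, 2, 4, 7, 10], [3, 5, 6, 8, 10], [0, 4, 7, 8, 10], [0, 5, 6, 9, 10], [3, 4, 7, 9, 10]] [0, 1, 3, 4, 6]
    (hint 12 [(603, [], 1)] 347) _ (by decide +kernel)

def L25 : List ℕ := [854, 2761, 1481, 2614, 1334, 3846, 3849, 246, 249, 3312, 1008, 3087, 783, 3888, 207,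
    4032, 63]

theorem n25 : Cl L25 :=
  node_branch snd (all_cons n24 all_nil) [[1, 2, 5, 8, 9], [0, 3, 6, 10, 11], [0, 3, 5, 10, 11]] [0, 1, 2, 4,
    6]
    (hint 12 [(2135, [(8, 9), (10, 11)], 0)] 1111) _ (by decide +kernel)

def L26 : List ℕ := [1334, 3846, 3849, 246, 249, 3312, 1008, 3087, 783, 3888, 207, 4032, 63]

theorem n26 : Cl L26 :=
  node_branch snd (all_cons n25 all_nil) [[1, 2, 4, 5, 9], [0, 3, 6, 7, 8], [0, 3, 6, 7, 9]] [1, 2, 4, 8, 9]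
    (hint 12 [] 854) _ (by decide +kernel)

def L27 : List ℕ := [249, 3312, 1008, 3087, 783, 3888, 207, 4032, 63]

theorem n27 : Cl L27 :=
  node_branch snd (all_cons n21 (all_cons n26 all_nil)) [[1, 4, 5, 6, 7], [0, 8, 9, 10, 11], [1, 8, 9, 10,
    11]] [1, 2, 4, 5, 8]
    (hint 12 [(1334, [], 1), (2358, [(10, 11)], 1)] 822) _ (by decide +kernel)

def L28 : List ℕ := [783, 3888, 207, 4032, 63]

theorem n28 : Cl L28 :=
  node_branch snd (all_cons n9 (all_cons n18 (all_cons n27 all_nil))) [[0, 1, 2, 3, 10], [4, 5, 6, 8, 9], [4,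
    5, 6, 7, 10]] [0, 4, 5, 6, 7]
    (hint 12 [(245, [], 1), (249, [], 2)] 243) _ (by decide +kernel)

def L29 : List ℕ := [207, 4032, 63]

theorem n29 : Cl L29 :=
  node_branch snd (all_cons n28 all_nil) [[4, 8, 9, 10, 11]] [0, 1, 2, 3, 8]
    (hint 12 [] 783) _ (by decide +kernel)

def L30 : List ℕ := [63]

theorem n30 : Cl L30 :=
  node_branch snd (all_cons n29 all_nil) [[6, 7, 8, 9, 10]] [0, 1, 2, 3, 6]
    (hint 12 [] 207) _ (by decide +kernel)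

def L31 : List ℕ := []

theorem n31 : Cl L31 :=
  node_branch snd (all_cons n30 all_nil) [] [0, 1, 2, 3, 4]
    (hint 12 [] 63) _ (by decide +kernel)

theorem strong : Strong 12 5 6 5 L0 :=
  strong_of_claim (by decide +kernel) (by decide +kernel) (by decide +kernel) (by decide) n31

theorem card_stab (hS : IsSteinerSystem 5 6 (sys 12 L0)) :
    Nat.card {g : Equiv.Perm (Fin 12) //
      g • sys 12 L0 = sys 12 L0 ∧ ∀ i : Fin 12, i.val < 5 → g i = i} = 1 :=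
  Chk.card_stab hS det [[[0, 1, 2, 3, 4]], [], [[2, 3, 4, 5, 6]], [[0, 3, 5, 6, 7]], [[4, 5, 6, 7, 8]], [[2,
    5, 7, 8, 9]], []] rfl (by decide +kernel) (by decide +kernel)

end Cfsg.Agent.H2.D12
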