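import Cfsg.Agent.H2.ChkAut

/-! Uniqueness of S(2,4,13) in strong form, and the order of its group (generated certificates). -/

set_option autoImplicit false
set_option maxRecDepth 100000

namespace Cfsg.Agent.H2.D13

open Chk
open scoped Pointwise

def L0 : List ℕ := [7169, 4418, 2594, 1320, 2248, 1604, 4632, 4260, 2324, 1170, 897, 113, 15]

def Lg : List ℕ := [4260, 2324, 1170, 897, 113, 15]

theorem sndf (f : ℕ) : Sound (IsSteinerSystem 2 4) (Goal 13 f L0) (vsw 13 f) (candsX 13 2 4 3 0) :=
  sound_steiner f L0 (fun B hB b hb c hc hbc => by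
    have h2 := steiner_inter_lt hB hb hc hbc
    generalize (b ∩ c).card = i at h2
    interval_cases i <;> decide) (fun h => absurd h (by decide))

theorem det : Claim (IsSteinerSystem 2 4) (Goal 13 13 L0) Lg :=
  node_red (sndf 13) (claim_base _ _ _) [[3, 4], [2, 6], [3, 7], [3, 5], [1, 5], [1, 6], [0, 10]] [] _
    (by decide +kernel)

/-- the claims -/
abbrev Cl (L : List ℕ) : Prop := Claim (IsSteinerSystem 2 4) (Goal 13 2 L0) L

theorem snd : Sound (IsSteinerSystem 2 4) (Goal 13 2 L0) (vsw 13 2) (candsX 13 2 4 3 0) :=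
  sndf 2

theorem ng : Cl Lg := claim_weaken (by decide) det

def L1 : List ℕ := [4260, 4632, 2324, 1170, 7169, 897, 113, 15]

theorem n1 : Cl L1 :=
  node_red snd ng [] [] _ (by decide +kernel)

def L2 : List ℕ := [2324, 1170, 7169, 897, 113, 15]

theorem n2 : Cl L2 :=
  node_branch snd (all_cons n1 all_nil) [[3, 4]] [2, 7]
    (hint 13 [] 4260) _ (by decide +kernel)

def L3 : List ℕ := [1170, 7169, 897, 113, 15]

theorem n3 : Cl L3 :=
  node_branch snd (all_cons n2 all_nil) [] [2, 4]
    (hint 13 [] 2324) _ (by decide +kernel)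

def L4 : List ℕ := [897, 113, 15]

theorem n4 : Cl L4 :=
  node_branch snd (all_cons n3 all_nil) [[0, 10]] [1, 4]
    (hint 13 [] 1170) _ (by decide +kernel)

def L5 : List ℕ := [113, 15]

theorem n5 : Cl L5 :=
  node_branch snd (all_cons n4 all_nil) [] [0, 7]
    (hint 13 [] 897) _ (by decide +kernel)

def L6 : List ℕ := [15]

theorem n6 : Cl L6 :=
  node_branch snd (all_cons n5 all_nil) [] [0, 4]
    (hint 13 [] 113) _ (by decide +kernel)

def L7 : List ℕ := []

theorem n7 : Cl L7 :=
  node_branch snd (all_cons n6 all_nil) [] [0, 1]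
    (hint 13 [] 15) _ (by decide +kernel)

theorem strong : Strong 13 2 4 2 L0 :=
  strong_of_claim (by decide +kernel) (by decide +kernel) (by decide +kernel) (by decide) n7

theorem card_stab (hS : IsSteinerSystem 2 4 (sys 13 L0)) :
    Nat.card {g : Equiv.Perm (Fin 13) //
      g • sys 13 L0 = sys 13 L0 ∧ ∀ i : Fin 13, i.val < 2 → g i = i} = 36 :=
  Chk.card_stab hS det [[[0, 1]], [[0, 1]], [], [[0, 4]], [[0, 4]], [[3, 6], [2, 5]], [[1, 6], [3, 5]], [[0,
    7]], [[3, 5]], [[1, 5]], []] rfl (by decide +kernel) (by decide +kernel)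

end Cfsg.Agent.H2.D13
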