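import Cfsg.Agent.H2.ChkAut

/-! Uniqueness of S(2,5,21) in strong form, and the order of its group (generated certificates). -/

set_option autoImplicit false
set_option maxRecDepth 100000

namespace Cfsg.Agent.H2.D21

open Chk
open scoped Pointwise

def L0 : List ℕ := [198916, 299266, 536708, 165008, 272464, 590914, 1067138, 1058056, 151624, 1966081, 541456,
    1118256, 328328, 1081924, 559144, 279588, 139810, 122881, 7681, 481, 31]

def Lg : List ℕ := [328328, 1081924, 559144, 279588, 139810, 122881, 7681, 481, 31]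

theorem sndf (f : ℕ) : Sound (IsSteinerSystem 2 5) (Goal 21 f L0) (vsw 21 f) (candsX 21 2 5 3 0) :=
  sound_steiner f L0 (fun B hB b hb c hc hbc => by
    have h2 := steiner_inter_lt hB hb hc hbc
    generalize (b ∩ c).card = i at h2
    interval_cases i <;> decide) (fun h => absurd h (by decide))

theorem det : Claim (IsSteinerSystem 2 5) (Goal 21 21 L0) Lg :=
  node_red (sndf 21) (claim_base _ _ _) [[4, 5], [4, 9], [0, 17], [3, 14], [3, 8], [1, 14], [1, 6], [4, 6],
    [4, 7], [2, 7], [1, 8], [2, 8]] [] _ (by decide +kernel)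

/-- the claims -/
abbrev Cl (L : List ℕ) : Prop := Claim (IsSteinerSystem 2 5) (Goal 21 2 L0) L

theorem snd : Sound (IsSteinerSystem 2 5) (Goal 21 2 L0) (vsw 21 2) (candsX 21 2 5 3 0) :=
  sndf 2

theorem ng : Cl Lg := claim_weaken (by decide) det

def L1 : List ℕ := [328328, 1081924, 1118256, 559144, 279588, 139810, 1966081, 122881, 7681, 481, 31]

theorem n1 : Cl L1 :=
  node_red snd ng [] [] _ (by decide +kernel)

def L2 : List ℕ := [1081924, 1118256, 559144, 279588, 139810, 1966081, 122881, 7681, 481, 31]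

theorem n2 : Cl L2 :=
  node_branch snd (all_cons n1 all_nil) [] [3, 9]
    (hint 21 [] 328328) _ (by decide +kernel)

def L3 : List ℕ := [559144, 279588, 139810, 1966081, 122881, 7681, 481, 31]

theorem n3 : Cl L3 :=
  node_branch snd (all_cons n2 all_nil) [[4, 5]] [2, 9]
    (hint 21 [(590404, [(13, 17), (14, 18), (15, 19), (16, 20)], 0), (590468, [(6, 7), (13, 17), (14, 18),
    (15, 19), (16, 20)], 0), (590596, [(6, 8), (13, 17), (14, 18), (15, 19), (16, 20)], 0)] 1081924) _
    (by decide +kernel)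

def L4 : List ℕ := [279588, 139810, 1966081, 122881, 7681, 481, 31]

theorem n4 : Cl L4 :=
  node_branch snd (all_cons n3 all_nil) [] [3, 5]
    (hint 21 [] 559144) _ (by decide +kernel)

def L5 : List ℕ := [139810, 1966081, 122881, 7681, 481, 31]

theorem n5 : Cl L5 :=
  node_branch snd (all_cons n4 all_nil) [] [2, 5]
    (hint 21 [] 279588) _ (by decide +kernel)

def L6 : List ℕ := [122881, 7681, 481, 31]

theorem n6 : Cl L6 :=
  node_branch snd (all_cons n5 all_nil) [[0, 17]] [1, 5]
    (hint 21 [] 139810) _ (by decide +kernel)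

def L7 : List ℕ := [7681, 481, 31]

theorem n7 : Cl L7 :=
  node_branch snd (all_cons n6 all_nil) [] [0, 13]
    (hint 21 [] 122881) _ (by decide +kernel)

def L8 : List ℕ := [481, 31]

theorem n8 : Cl L8 :=
  node_branch snd (all_cons n7 all_nil) [] [0, 9]
    (hint 21 [] 7681) _ (by decide +kernel)

def L9 : List ℕ := [31]

theorem n9 : Cl L9 :=
  node_branch snd (all_cons n8 all_nil) [] [0, 5]
    (hint 21 [] 481) _ (by decide +kernel)

def L10 : List ℕ := []

theorem n10 : Cl L10 :=
  node_branch snd (all_cons n9 all_nil) [] [0, 1]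
    (hint 21 [] 31) _ (by decide +kernel)

theorem strong : Strong 21 2 5 2 L0 :=
  strong_of_claim (by decide +kernel) (by decide +kernel) (by decide +kernel) (by decide) n10

theorem card_stab (hS : IsSteinerSystem 2 5 (sys 21 L0)) :
    Nat.card {g : Equiv.Perm (Fin 21) //
      g • sys 21 L0 = sys 21 L0 ∧ ∀ i : Fin 21, i.val < 2 → g i = i} = 288 :=
  Chk.card_stab hS det [[[0, 1]], [[0, 1]], [[0, 1]], [], [[0, 5]], [[0, 5]], [[0, 5]], [[4, 8], [3, 7]], [[4,
    7], [1, 6]], [[0, 9], [2, 8]], [[0, 9]], [[2, 7], [4, 6]], [[1, 7], [3, 6]], [[1, 8], [4, 7]], [[0, 13]],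
    [[2, 8]], [[1, 8]], [[2, 7]], []] rfl (by decide +kernel) (by decide +kernel)

end Cfsg.Agent.H2.D21
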