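import Cfsg.Agent.H2.ChkAut

/-! Uniqueness of S(3,6,22) in strong form, and the order of its group (generated certificates). -/

set_option autoImplicit false
set_option maxRecDepth 100000

namespace Cfsg.Agent.H2.D22

open Chk
open scoped Pointwise

def L0 : List ℕ := [3932163, 983088, 2469888, 1475328, 1732608, 2704128, 3194928, 245763, 561698, 1122849,
    2236946, 283153, 287010, 2232609, 1118482, 565521, 1674240, 792960, 170008, 202368, 1315880, 330250, 3888,
    656650, 98728, 1181858, 1573528, 296082, 60032, 2631720, 3155328, 91160, 1067273, 2131465, 541857,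
    2164881, 2785472, 3152448, 2117770, 12528, 148072, 542802, 1089610, 401545, 2509824, 2163810, 796224,
    173092, 657925, 2359972, 598150, 2132230, 328965, 1066502, 1320980, 2626580, 88100, 1085573, 297057,
    593993, 2121797, 397382, 98900, 207168, 2359640, 1573220, 3342348, 13068, 1180753, 147860, 54592, 1392832,
    835596, 3276, 15363, 963, 63]

def Lg : List ℕ := [1180753, 147860, 54592, 1392832, 835596, 3276, 15363, 963, 63]

theorem sndf (f : ℕ) : Sound (IsSteinerSystem 3 6) (Goal 22 f L0) (vsw 22 f) (candsX 22 3 6 5 0) :=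
  sound_steiner f L0 (fun B hB b hb c hc hbc => by
    rcases inter_22 (Fintype.card_fin _) hB hb hc hbc with h | h <;> rw [h] <;> decide) (fun h => absurd h (by
    decide))

theorem det : Claim (IsSteinerSystem 3 6) (Goal 22 22 L0) Lg :=
  node_red (sndf 22) (claim_base _ _ _) [[2, 3, 8], [2, 3, 16], [2, 6, 8], [3, 6, 8], [6, 8, 11], [2, 4, 6],
    [2, 6, 17], [0, 2, 6], [0, 3, 6], [0, 5, 6], [0, 2, 12], [2, 12, 14], [2, 4, 12], [2, 4, 11], [1, 2, 14],
    [0, 2, 10], [1, 2, 8], [1, 2, 7], [2, 5, 7], [0, 2, 9], [2, 5, 10], [6, 10, 13], [1, 6, 10], [10, 11, 17],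
    [0, 13, 17], [1, 3, 6], [1, 4, 6], [3, 5, 6], [4, 5, 6], [1, 3, 7], [6, 9, 11], [6, 7, 15], [0, 4, 7], [0,
    5, 7], [0, 3, 10], [0, 3, 8], [3, 4, 10], [7, 8, 10], [3, 5, 11], [7, 9, 11], [1, 4, 7], [3, 4, 7], [1, 5,
    7], [3, 5, 7], [1, 3, 8], [4, 5, 8], [1, 3, 9], [3, 5, 10], [7, 9, 10], [3, 4, 11], [7, 8, 11], [10, 11,
    15], [0, 4, 8], [1, 4, 8], [0, 5, 8], [1, 5, 8], [0, 4, 9], [1, 4, 9], [0, 5, 9], [1, 5, 9], [0, 1, 14],
    [4, 5, 14], [8, 9, 14], [12, 13, 14], [8, 9, 15], [12, 13, 15], [4, 5, 16], [0, 1, 18]] [] _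
    (by decide +kernel)

/-- the claims -/
abbrev Cl (L : List ℕ) : Prop := Claim (IsSteinerSystem 3 6) (Goal 22 3 L0) L

theorem snd : Sound (IsSteinerSystem 3 6) (Goal 22 3 L0) (vsw 22 3) (candsX 22 3 6 5 0) :=
  sndf 3

theorem ng : Cl Lg := claim_weaken (by decide) det

def L1 : List ℕ := [5908, 3276, 3932163, 245763, 15363, 963, 63]

theorem n1 : Cl L1 :=
  node_dead snd [[0, 2, 10]] _ (by decide +kernel)

def L2 : List ℕ := [5912, 3276, 3932163, 245763, 15363, 963, 63]

theorem n2 : Cl L2 :=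
  node_dead snd [[0, 3, 10]] _ (by decide +kernel)

def L3 : List ℕ := [5488, 3276, 3932163, 245763, 15363, 963, 63]

theorem n3 : Cl L3 :=
  node_dead snd [[0, 6, 10]] _ (by decide +kernel)

def L4 : List ℕ := [12628, 3888, 3276, 3932163, 245763, 15363, 963, 63]

theorem n4 : Cl L4 :=
  node_dead snd [[0, 2, 6]] _ (by decide +kernel)

def L5 : List ℕ := [12632, 3888, 3276, 3932163, 245763, 15363, 963, 63]

theorem n5 : Cl L5 :=
  node_dead snd [[0, 3, 6]] _ (by decide +kernel)

def L6 : List ℕ := [1180753, 1320980, 2626580, 2631720, 1315880, 2359972, 1573220, 1573528, 2359640, 170008,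
    88100, 173092, 91160, 148072, 98900, 98728, 147860, 3155328, 792960, 3152448, 796224, 202368, 207168,
    60032, 54592, 1732608, 2469888, 1674240, 2509824, 1475328, 2704128, 2785472, 1392832, 983088, 3194928,
    3342348, 835596, 13068, 12528, 3888, 3276, 3932163, 245763, 15363, 963, 63]

theorem n6 : Cl L6 :=
  node_red snd ng [] [] _ (by decide +kernel)

def L7 : List ℕ := [1180754, 1320980, 2626580, 2631720, 1315880, 2359972, 1573220, 1573528, 2359640, 170008,
    88100, 173092, 91160, 148072, 98900, 98728, 147860, 3155328, 792960, 3152448, 796224, 202368, 207168,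
    60032, 54592, 1732608, 2469888, 1674240, 2509824, 1475328, 2704128, 2785472, 1392832, 983088, 3194928,
    3342348, 835596, 13068, 12528, 3888, 3276, 3932163, 245763, 15363, 963, 63]

theorem n7 : Cl L7 :=
  node_red snd ng [[0, 4, 6]] [(10, 11), (12, 13), (14, 17), (15, 16), (18, 21), (19, 20)] _
    (by decide +kernel)

def L8 : List ℕ := [147860, 3155328, 792960, 3152448, 796224, 202368, 207168, 60032, 54592, 1732608, 2469888,
    1674240, 2509824, 1475328, 2704128, 2785472, 1392832, 983088, 3194928, 3342348, 835596, 13068, 12528,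
    3888, 3276, 3932163, 245763, 15363, 963, 63]

theorem n8 : Cl L8 :=
  node_branch snd (all_cons n6 (all_cons n7 all_nil)) [[3, 7, 8], [2, 15, 16], [3, 6, 9], [3, 10, 14], [2, 10,
    13], [2, 5, 14], [3, 11, 12], [3, 6, 18], [3, 4, 7], [2, 6, 8], [2, 5, 7], [3, 10, 18], [3, 5, 11], [2,
    10, 12], [2, 4, 11]] [4, 6, 10]
    (hint 22 [(1180754, [], 1)] 1180753) _ (by decide +kernel)

def L9 : List ℕ := [1180753, 1320984, 2626584, 2631716, 1315876, 2359976, 1573224, 1573524, 2359636, 170004,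
    88104, 173096, 91156, 148068, 98904, 98724, 147864, 3155328, 792960, 3152448, 796224, 202368, 207168,
    60032, 54592, 1732608, 2469888, 1674240, 2509824, 1475328, 2704128, 2785472, 1392832, 983088, 3194928,
    3342348, 835596, 13068, 12528, 3888, 3276, 3932163, 245763, 15363, 963, 63]

theorem n9 : Cl L9 :=
  node_red snd ng [] [(8, 9), (12, 13), (14, 19), (15, 18), (16, 21), (17, 20)] _ (by decide +kernel)

def L10 : List ℕ := [1180754, 1320984, 2626584, 2631716, 1315876, 2359976, 1573224, 1573524, 2359636, 170004,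
    88104, 173096, 91156, 148068, 98904, 98724, 147864, 3155328, 792960, 3152448, 796224, 202368, 207168,
    60032, 54592, 1732608, 2469888, 1674240, 2509824, 1475328, 2704128, 2785472, 1392832, 983088, 3194928,
    3342348, 835596, 13068, 12528, 3888, 3276, 3932163, 245763, 15363, 963, 63]

theorem n10 : Cl L10 :=
  node_red snd ng [[0, 4, 6]] [(8, 9), (10, 11), (14, 20), (15, 21), (16, 18), (17, 19)] _ (by decide +kernel)

def L11 : List ℕ := [147864, 3155328, 792960, 3152448, 796224, 202368, 207168, 60032, 54592, 1732608, 2469888,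
    1674240, 2509824, 1475328, 2704128, 2785472, 1392832, 983088, 3194928, 3342348, 835596, 13068, 12528,
    3888, 3276, 3932163, 245763, 15363, 963, 63]

theorem n11 : Cl L11 :=
  node_branch snd (all_cons n9 (all_cons n10 all_nil)) [[2, 7, 8], [3, 15, 16], [2, 6, 9], [2, 10, 14], [3,
    10, 13], [3, 5, 14], [2, 11, 12], [2, 6, 18], [2, 4, 7], [3, 6, 8], [3, 5, 7], [2, 10, 18], [2, 5, 11],
    [3, 10, 12], [3, 4, 11]] [4, 6, 10]
    (hint 22 [(1180754, [], 1)] 1180753) _ (by decide +kernel)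

def L12 : List ℕ := [54592, 1732608, 2469888, 1674240, 2509824, 1475328, 2704128, 2785472, 1392832, 983088,
    3194928, 3342348, 835596, 13068, 12528, 3888, 3276, 3932163, 245763, 15363, 963, 63]

theorem n12 : Cl L12 :=
  node_branch snd (all_cons n8 (all_cons n11 all_nil)) [[7, 14, 15], [6, 8, 16], [7, 16, 17], [6, 10, 18], [6,
    9, 11], [7, 11, 12], [7, 8, 10]] [7, 8, 14]
    (hint 22 [(147864, [], 1), (147880, [(4, 5)], 1)] 147860) _ (by decide +kernel)

def L13 : List ℕ := [1392832, 983088, 3194928, 3342348, 835596, 13068, 12528, 3888, 3276, 3932163, 245763,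
    15363, 963, 63]

theorem n13 : Cl L13 :=
  node_branch snd (all_cons n12 all_nil) [[6, 7, 15], [8, 14, 16], [8, 9, 15], [10, 14, 18], [10, 11, 15],
    [15, 16, 18], [12, 13, 14]] [6, 14, 15]
    (hint 22 [] 54592) _ (by decide +kernel)

def L14 : List ℕ := [835596, 13068, 12528, 3888, 3276, 3932163, 245763, 15363, 963, 63]

theorem n14 : Cl L14 :=
  node_branch snd (all_cons n13 all_nil) [[2, 3, 16], [4, 14, 15], [4, 5, 16]] [6, 7, 14]
    (hint 22 [] 1392832) _ (by decide +kernel)

def L15 : List ℕ := [12528, 3888, 3276, 3932163, 245763, 15363, 963, 63]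

theorem n15 : Cl L15 :=
  node_branch snd (all_cons n14 all_nil) [[2, 8, 12]] [2, 3, 14]
    (hint 22 [] 835596) _ (by decide +kernel)

def L16 : List ℕ := [3888, 3276, 3932163, 245763, 15363, 963, 63]

theorem n16 : Cl L16 :=
  node_branch snd (all_cons n4 (all_cons n5 (all_cons n15 all_nil))) [] [4, 6, 12]
    (hint 22 [(12632, [], 1), (12888, [(8, 9)], 1), (12528, [], 2)] 12628) _ (by decide +kernel)

def L17 : List ℕ := [3276, 3932163, 245763, 15363, 963, 63]

theorem n17 : Cl L17 :=
  node_branch snd (all_cons n1 (all_cons n2 (all_cons n3 (all_cons n16 all_nil)))) [] [4, 8, 10]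
    (hint 22 [(5912, [], 1), (10008, [(12, 13)], 1), (5488, [], 2), (9584, [(12, 13)], 2), (5552, [(6, 7)],
    2), (9648, [(6, 7), (12, 13)], 2), (3888, [], 3)] 5908) _ (by decide +kernel)

def L18 : List ℕ := [245763, 15363, 963, 63]

theorem n18 : Cl L18 :=
  node_branch snd (all_cons n17 all_nil) [[0, 1, 18]] [2, 3, 6]
    (hint 22 [(49356, [(10, 14), (11, 15), (12, 16), (13, 17)], 0), (82124, [(10, 14), (11, 15), (12, 16),
    (13, 17), (15, 16)], 0), (147660, [(10, 14), (11, 15), (12, 16), (13, 17), (15, 16), (16, 17)], 0),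
    (98508, [(10, 14), (11, 15), (12, 16), (13, 17), (14, 16), (15, 16)], 0), (164044, [(10, 14), (11, 15),
    (12, 16), (13, 17), (14, 16), (15, 16), (16, 17)], 0), (196812, [(10, 14), (11, 15), (12, 16), (13, 17),
    (14, 16), (15, 17)], 0), (786636, [(10, 18), (11, 19), (12, 20), (13, 21)], 0), (1310924, [(10, 18), (11,
    19), (12, 20), (13, 21), (19, 20)], 0), (2359500, [(10, 18), (11, 19), (12, 20), (13, 21), (19, 20), (20,
    21)], 0), (1573068, [(10, 18), (11, 19), (12, 20), (13, 21), (18, 20), (19, 20)], 0), (2621644, [(10, 18),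
    (11, 19), (12, 20), (13, 21), (18, 20), (19, 20), (20, 21)], 0), (3145932, [(10, 18), (11, 19), (12, 20),
    (13, 21), (18, 20), (19, 21)], 0), (49484, [(7, 8), (10, 14), (11, 15), (12, 16), (13, 17)], 0), (82252,
    [(7, 8), (10, 14), (11, 15), (12, 16), (13, 17), (15, 16)], 0), (147788, [(7, 8), (10, 14), (11, 15), (12,
    16), (13, 17), (15, 16), (16, 17)], 0), (98636, [(7, 8), (10, 14), (11, 15), (12, 16), (13, 17), (14, 16),
    (15, 16)], 0), (164172, [(7, 8), (10, 14), (11, 15), (12, 16), (13, 17), (14, 16), (15, 16), (16, 17)],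
    0), (196940, [(7, 8), (10, 14), (11, 15), (12, 16), (13, 17), (14, 16), (15, 17)], 0), (786764, [(7, 8),
    (10, 18), (11, 19), (12, 20), (13, 21)], 0), (1311052, [(7, 8), (10, 18), (11, 19), (12, 20), (13, 21),
    (19, 20)], 0), (2359628, [(7, 8), (10, 18), (11, 19), (12, 20), (13, 21), (19, 20), (20, 21)], 0),
    (1573196, [(7, 8), (10, 18), (11, 19), (12, 20), (13, 21), (18, 20), (19, 20)], 0), (2621772, [(7, 8),
    (10, 18), (11, 19), (12, 20), (13, 21), (18, 20), (19, 20), (20, 21)], 0), (3146060, [(7, 8), (10, 18),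
    (11, 19), (12, 20), (13, 21), (18, 20), (19, 21)], 0), (49740, [(7, 9), (10, 14), (11, 15), (12, 16), (13,
    17)], 0), (82508, [(7, 9), (10, 14), (11, 15), (12, 16), (13, 17), (15, 16)], 0), (148044, [(7, 9), (10,
    14), (11, 15), (12, 16), (13, 17), (15, 16), (16, 17)], 0), (98892, [(7, 9), (10, 14), (11, 15), (12, 16),
    (13, 17), (14, 16), (15, 16)], 0), (164428, [(7, 9), (10, 14), (11, 15), (12, 16), (13, 17), (14, 16),
    (15, 16), (16, 17)], 0), (197196, [(7, 9), (10, 14), (11, 15), (12, 16), (13, 17), (14, 16), (15, 17)],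
    0), (787020, [(7, 9), (10, 18), (11, 19), (12, 20), (13, 21)], 0), (1311308, [(7, 9), (10, 18), (11, 19),
    (12, 20), (13, 21), (19, 20)], 0), (2359884, [(7, 9), (10, 18), (11, 19), (12, 20), (13, 21), (19, 20),
    (20, 21)], 0), (1573452, [(7, 9), (10, 18), (11, 19), (12, 20), (13, 21), (18, 20), (19, 20)], 0),
    (2622028, [(7, 9), (10, 18), (11, 19), (12, 20), (13, 21), (18, 20), (19, 20), (20, 21)], 0), (3146316,
    [(7, 9), (10, 18), (11, 19), (12, 20), (13, 21), (18, 20), (19, 21)], 0)] 3276) _ (by decide +kernel)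

def L19 : List ℕ := [15363, 963, 63]

theorem n19 : Cl L19 :=
  node_branch snd (all_cons n18 all_nil) [] [0, 1, 14]
    (hint 22 [] 245763) _ (by decide +kernel)

def L20 : List ℕ := [963, 63]

theorem n20 : Cl L20 :=
  node_branch snd (all_cons n19 all_nil) [] [0, 1, 10]
    (hint 22 [] 15363) _ (by decide +kernel)

def L21 : List ℕ := [63]

theorem n21 : Cl L21 :=
  node_branch snd (all_cons n20 all_nil) [] [0, 1, 6]
    (hint 22 [] 963) _ (by decide +kernel)

def L22 : List ℕ := []

theorem n22 : Cl L22 :=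
  node_branch snd (all_cons n21 all_nil) [] [0, 1, 2]
    (hint 22 [] 63) _ (by decide +kernel)

theorem strong : Strong 22 3 6 3 L0 :=
  strong_of_claim (by decide +kernel) (by decide +kernel) (by decide +kernel) (by decide) n22

theorem card_stab (hS : IsSteinerSystem 3 6 (sys 22 L0)) :
    Nat.card {g : Equiv.Perm (Fin 22) //
      g • sys 22 L0 = sys 22 L0 ∧ ∀ i : Fin 22, i.val < 3 → g i = i} = 96 :=
  Chk.card_stab hS det [[[0, 1, 2]], [[0, 1, 2]], [[0, 1, 2]], [], [[4, 5, 6], [2, 3, 6]], [[0, 1, 6], [3, 5,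
    7]], [[0, 1, 6]], [[4, 5, 8], [1, 3, 8]], [[4, 5, 8]], [[4, 5, 6], [1, 5, 9]], [[4, 5, 6]], [[0, 4, 9],
    [7, 9, 11]], [[7, 9, 11]], [[3, 5, 7]], [[0, 1, 14]], [[0, 4, 9]], [[4, 5, 16]], [[8, 9, 15]], []] rfl
    (by decide +kernel) (by decide +kernel)

end Cfsg.Agent.H2.D22
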