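import Mathlib.GroupTheory.Commutator.Basic
import Mathlib.GroupTheory.QuotientGroup.Basic
import Mathlib.GroupTheory.OrderOfElement
import Mathlib.Algebra.Ring.Basic
import Mathlib.Tactic

/-! Fixed-point-free action of an element of order three. -/

set_option autoImplicit false
set_option linter.unusedSectionVars false

namespace Cfsg.Agent.H2.Hw

open Subgroup
open scoped commutatorElement

variable {G : Type*} [Group G] [Finite G]

/-- `w` acts on `L` without fixed points -/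
structure Fp (w : G) (L : Subgroup G) : Prop where
  cj : ∀ y ∈ L, w * y * w⁻¹ ∈ L
  cube : w * w * w = 1
  fpf : ∀ y ∈ L, w * y = y * w → y = 1

namespace Fp

variable {w : G} {L : Subgroup G} (h : Fp w L)
include h

theorem sq : w * w = w⁻¹ := eq_inv_of_mul_eq_one_left h.cube

theorem cj' {y : G} (hy : y ∈ L) : w⁻¹ * y * w ∈ L := by
  have := h.cj _ (h.cj _ hy)
  rwa [show w * (w * y * w⁻¹) * w⁻¹ = w * w * y * (w * w)⁻¹ by group, h.sq, inv_inv] at this

theorem inv : Fp w⁻¹ L :=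
  ⟨fun y hy => by simpa using h.cj' hy, by rw [← mul_inv_rev, ← mul_inv_rev, ← mul_assoc, h.cube, inv_one],
    fun y hy e => h.fpf y hy (by simpa using (show Commute w⁻¹ y from e).inv_left.eq)⟩

theorem mono {M : Subgroup G} (hM : M ≤ L) (hc : ∀ y ∈ M, w * y * w⁻¹ ∈ M) : Fp w M :=
  ⟨hc, h.cube, fun y hy => h.fpf y (hM hy)⟩

theorem surj {y : G} (hy : y ∈ L) : ∃ g ∈ L, y * w = g⁻¹ * w * g := by
  let f : L → L := fun g => ⟨g.1⁻¹ * (w * g * w⁻¹), mul_mem (inv_mem g.2) (h.cj _ g.2)⟩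
  have hf : Function.Injective f := fun a b e => by
    have e' : a.1⁻¹ * (w * a * w⁻¹) = b.1⁻¹ * (w * b * w⁻¹) := congrArg Subtype.val e
    refine Subtype.ext (mul_inv_eq_one.1 (h.fpf _ (mul_mem a.2 (inv_mem b.2)) ?_))
    calc w * (a.1 * b.1⁻¹) = a * (a.1⁻¹ * (w * a * w⁻¹)) * w * b.1⁻¹ := by group
      _ = _ := by rw [e']; group
  obtain ⟨g, hg⟩ := Finite.surjective_of_injective hf ⟨y, hy⟩
  exact ⟨g, g.2, by rw [← show _ = y from congrArg Subtype.val hg]; simp [f, mul_assoc]⟩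

theorem conj {g : G} (hg : g ∈ L) : Fp (g⁻¹ * w * g) L :=
  ⟨fun y hy => by
    have := mul_mem (mul_mem (inv_mem hg) (h.cj _ (mul_mem (mul_mem hg hy) (inv_mem hg)))) hg
    convert this using 1; group,
  by rw [show g⁻¹ * w * g * (g⁻¹ * w * g) * (g⁻¹ * w * g) = g⁻¹ * (w * w * w) * g by group, h.cube]; simp,
  fun y hy e => by
    have := h.fpf _ (mul_mem (mul_mem hg hy) (inv_mem hg)) (by
      calc w * (g * y * g⁻¹) = g * (g⁻¹ * w * g * y) * g⁻¹ := by group
        _ = _ := by rw [e]; group)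
    simpa using this⟩

theorem mul {y : G} (hy : y ∈ L) : Fp (y * w) L := by
  obtain ⟨g, hg, e⟩ := h.surj hy
  exact e ▸ h.conj hg

theorem rel {y : G} (hy : y ∈ L) : y * (w * y * w⁻¹) * (w⁻¹ * y * w) = 1 := by
  have := (h.mul hy).cube
  calc y * (w * y * w⁻¹) * (w⁻¹ * y * w) = y * w * y * (w * w)⁻¹ * y * w := by group
    _ = 1 := by rw [h.sq, inv_inv, ← this]; group

theorem comm {y : G} (hy : y ∈ L) : Commute y (w * y * w⁻¹) := by
  have h1 := h.rel hy
  have h2 := h.inv.rel hy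
  rw [inv_inv] at h2
  have h3 : w * y * w⁻¹ * y * (w⁻¹ * y * w) = 1 := by
    calc _ = (w * y * w⁻¹) * (y * (w⁻¹ * y * w) * (w * y * w⁻¹)) * (w * y * w⁻¹)⁻¹ := by group
      _ = 1 := by rw [h2]; group
  exact mul_right_cancel (h1.trans h3.symm)

/-- an element commutes with all conjugates of its images -/
theorem comm2 {y l : G} (hy : y ∈ L) (hl : l ∈ L) : Commute y (l * (w * y * w⁻¹) * l⁻¹) := by
  have := (h.mul hl).comm hy
  convert this using 1; group

theorem engel {y l : G} (hy : y ∈ L) (hl : l ∈ L) : Commute y (l * y * l⁻¹) := by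
  have h1 := h.comm2 hy hl
  have h2 := h.inv.comm2 hy hl
  rw [inv_inv] at h2
  have := (h1.mul_right h2).inv_right
  convert this using 1
  rw [show l * (w * y * w⁻¹) * l⁻¹ * (l * (w⁻¹ * y * w) * l⁻¹) = l * y⁻¹ * (y * (w * y * w⁻¹) * (w⁻¹ * y * w)) * l⁻¹ by group,
    h.rel hy]
  group

end Fp

theorem ring_aux {R : Type*} [Ring R] {φ e : R} (h1 : φ * φ + φ + 1 = 0) (h2 : e * e = 0)
    (h3 : (1 + e) * φ * ((1 + e) * φ) + (1 + e) * φ + 1 = 0) : φ * e * φ = e := by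
  have h4 : φ * e * φ + e * φ * e * φ - e = 0 := by
    rw [← h3, ← sub_eq_zero]
    calc _ = -((1 + e) * (φ * φ + φ + 1)) := by noncomm_ring
      _ = 0 := by rw [h1, mul_zero, neg_zero]
  have h5 : e * φ * e * φ = 0 := by
    calc _ = e * (φ * e * φ + e * φ * e * φ - e) - e * e * (φ * e * φ) + e * e := by noncomm_ring
      _ = 0 := by rw [h4, h2]; simp
  rwa [h5, add_zero, sub_eq_zero] at h4

theorem ring_aux2 {R : Type*} [Ring R] {φ c b : R} (h1 : φ * φ + φ + 1 = 0) (k1 : φ * (c - 1) * φ = c - 1)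
    (k2 : φ * (b - 1) * φ = b - 1) (k3 : φ * (c * b - 1) * φ = c * b - 1) : φ * ((c - 1) * (b - 1)) = (c - 1) * (b - 1) := by
  have h3 : φ * φ * φ = 1 := by
    rw [← sub_eq_zero]
    calc _ = (φ - 1) * (φ * φ + φ + 1) := by noncomm_ring
      _ = 0 := by rw [h1, mul_zero]
  have k4 : φ * ((c - 1) * (b - 1)) * φ = (c - 1) * (b - 1) := by
    calc _ = φ * (c * b - 1) * φ - φ * (c - 1) * φ - φ * (b - 1) * φ := by noncomm_ring
      _ = _ := by rw [k1, k2, k3]; noncomm_ring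
  generalize c - 1 = e at *
  generalize b - 1 = f at *
  have s1 : ∀ {u : R}, φ * u * φ = u → u * φ = φ * φ * u := fun {u} hu => by
    calc u * φ = φ * φ * φ * (u * φ) := by rw [h3, one_mul]
      _ = φ * φ * (φ * u * φ) := by noncomm_ring
      _ = _ := by rw [hu]
  have k5 : e * f * φ = φ * (e * f) := by
    calc e * f * φ = e * φ * φ * f := by rw [mul_assoc, s1 k2]; noncomm_ring
      _ = φ * φ * (e * φ) * f := by rw [mul_assoc (φ * φ) e φ |>.symm, ← s1 k1]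
      _ = φ * φ * φ * (φ * (e * f)) := by rw [s1 k1]; noncomm_ring
      _ = _ := by rw [h3, one_mul]
  have k6 : φ * (φ * (e * f)) = e * f := by rw [← k5, ← mul_assoc, k4]
  calc φ * (e * f) = φ * (φ * (φ * (φ * (e * f)))) := by
        rw [← mul_assoc φ φ, ← mul_assoc (φ * φ) φ, h3, one_mul]
    _ = _ := by rw [k6, k6]

theorem cent_st {T : Set G} {g y : G} (hT : ∀ t ∈ T, g⁻¹ * t * g ∈ T) (hy : y ∈ centralizer T) :
    g * y * g⁻¹ ∈ centralizer T := fun t ht => by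
  calc t * (g * y * g⁻¹) = g * (g⁻¹ * t * g * y) * g⁻¹ := by group
    _ = _ := by rw [hy _ (hT t ht)]; group

/-- conjugation as an additive endomorphism -/
def cjE {A : Subgroup G} [IsMulCommutative A] (g : G) (hg : ∀ y ∈ A, g * y * g⁻¹ ∈ A) : AddMonoid.End (Additive A) :=
  MonoidHom.toAdditive (MonoidHom.mk' (fun y : A => (⟨g * y * g⁻¹, hg _ y.2⟩ : A)) fun a b => Subtype.ext (by simp))

theorem Fp.cls2 {w : G} {L : Subgroup G} (h : Fp w L) {a b c : G} (ha : a ∈ L) (hb : b ∈ L) (hc : c ∈ L) :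
    Commute c ⁅b, a⁆ := by
  let T : Set G := {t | ∃ l ∈ L, ∃ i : ℕ, t = l * (w ^ i * a * (w ^ i)⁻¹) * l⁻¹}
  let B := L ⊓ centralizer T
  let A := B ⊓ centralizer (B : Set G)
  have w3 : w ^ 3 = 1 := by rw [← h.cube, pow_succ, pow_two]
  have aB : a ∈ B := ⟨ha, by
    rintro _ ⟨l, hl, i, rfl⟩
    rw [← Nat.div_add_mod i 3, pow_add, pow_mul, w3, one_pow, one_mul]
    have : i % 3 < 3 := Nat.mod_lt _ (by norm_num)
    interval_cases i % 3
    · simpa using (h.engel ha hl).eq.symm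
    · simpa using (h.comm2 ha hl).eq.symm
    · rw [pow_two, h.sq]; exact (h.inv.comm2 ha hl).eq.symm⟩
  have aA : a ∈ A := ⟨aB, fun y hy => (hy.2 a ⟨1, one_mem L, 0, by simp⟩).symm⟩
  have st : ∀ g : G, (∀ y ∈ L, g * y * g⁻¹ ∈ L) → (∀ y ∈ L, g⁻¹ * y * g ∈ L) → (∀ t ∈ T, g * t * g⁻¹ ∈ T) →
      (∀ t ∈ T, g⁻¹ * t * g ∈ T) → ∀ y ∈ A, g * y * g⁻¹ ∈ A := fun g h1 h2 h3 h4 y hy =>
    ⟨⟨h1 y hy.1.1, cent_st h4 hy.1.2⟩, cent_st (fun t ht => ⟨h2 t ht.1, by
      simpa using cent_st (g := g⁻¹) (by simpa using h3) ht.2⟩) hy.2⟩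
  have sl : ∀ l ∈ L, ∀ y ∈ A, l * y * l⁻¹ ∈ A := fun l hl => st l
    (fun y hy => mul_mem (mul_mem hl hy) (inv_mem hl)) (fun y hy => mul_mem (mul_mem (inv_mem hl) hy) hl)
    (by rintro _ ⟨m, hm, i, rfl⟩; exact ⟨l * m, mul_mem hl hm, i, by group⟩)
    (by rintro _ ⟨m, hm, i, rfl⟩; exact ⟨l⁻¹ * m, mul_mem (inv_mem hl) hm, i, by group⟩)
  have t1 : ∀ t ∈ T, w * t * w⁻¹ ∈ T := by
    rintro _ ⟨m, hm, i, rfl⟩; exact ⟨_, h.cj m hm, i + 1, by group⟩
  have sw : ∀ y ∈ A, w * y * w⁻¹ ∈ A := st w h.cj (fun y hy => h.cj' hy) t1 fun t ht => by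
    have := t1 _ (t1 t ht)
    rwa [show w * (w * t * w⁻¹) * w⁻¹ = w * w * t * (w * w)⁻¹ by group, h.sq, inv_inv] at this
  haveI : IsMulCommutative A := ⟨⟨fun x y => Subtype.ext (y.2.2 x x.2.1)⟩⟩
  letI : CommGroup A := { (inferInstance : Group A) with mul_comm := mul_comm' }
  have rel : ∀ {v : G} (hv : Fp v L) (sv : ∀ y ∈ A, v * y * v⁻¹ ∈ A), cjE v sv * cjE v sv + cjE v sv + 1 = 0 := fun {v} hv sv => by
    ext y
    have := hv.inv.rel (y := v * (v * (Additive.toMul y).1 * v⁻¹) * v⁻¹) (hv.cj _ (hv.cj _ (Additive.toMul y).2.1.1))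
    change v * (v * (Additive.toMul y).1 * v⁻¹) * v⁻¹ * (v * (Additive.toMul y).1 * v⁻¹) * (Additive.toMul y).1 = 1
    rw [← this, inv_inv, show v * (v * (v * (Additive.toMul y).1 * v⁻¹) * v⁻¹) * v⁻¹ =
      v * v * v * (Additive.toMul y).1 * (v * v * v)⁻¹ by group, hv.cube]
    group
  have key : ∀ l (hl : l ∈ L), cjE w sw * (cjE l (sl l hl) - 1) * cjE w sw = cjE l (sl l hl) - 1 := fun l hl => by
    refine ring_aux (rel h sw) ?_ ?_
    · ext y
      have := h.engel hl (Additive.toMul y).2.1.1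
      change l * (l * (Additive.toMul y).1 * l⁻¹ / (Additive.toMul y).1) * l⁻¹ /
        (l * (Additive.toMul y).1 * l⁻¹ / (Additive.toMul y).1) = 1
      generalize (Additive.toMul y).1 = u at this
      rw [div_eq_one, div_eq_mul_inv, mul_inv_eq_iff_eq_mul]
      calc l * (l * u * l⁻¹ * u⁻¹) = l * (l * (u * l * u⁻¹)⁻¹) := by group
        _ = _ := by rw [this.inv_right.eq]; group
    · have e : (1 + (cjE l (sl l hl) - 1)) * cjE w sw = cjE (l * w) fun y hy => by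
          have := sl l hl _ (sw y hy)
          convert this using 1; group := by
        rw [add_sub_cancel]
        ext y
        change l * (w * _ * w⁻¹) * l⁻¹ = l * w * _ * (l * w)⁻¹
        group
      rw [e]
      exact rel (h.mul hl) _
  have e3 : cjE (c * b) (sl _ (mul_mem hc hb)) = cjE c (sl c hc) * cjE b (sl b hb) := by
    ext y
    change c * b * _ * (c * b)⁻¹ = c * (b * _ * b⁻¹) * c⁻¹
    group
  have k3 := key _ (mul_mem hc hb)
  rw [e3] at k3
  have k1 := key c hc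
  have k2 := key b hb
  have r := rel h sw
  have := congrArg (fun f : AddMonoid.End (Additive A) => ((Additive.toMul (f (Additive.ofMul ⟨a, aA⟩)) : A) : G))
    (ring_aux2 r k1 k2 k3)
  change w * (c * (b * a * b⁻¹ / a) * c⁻¹ / (b * a * b⁻¹ / a)) * w⁻¹ = c * (b * a * b⁻¹ / a) * c⁻¹ / (b * a * b⁻¹ / a) at this
  rw [div_eq_mul_inv (b * a * b⁻¹), ← commutatorElement_def, mul_inv_eq_iff_eq_mul] at this
  have hm : ⁅b, a⁆ ∈ L := mul_mem (mul_mem (mul_mem hb ha) (inv_mem hb)) (inv_mem ha)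
  have := h.fpf _ (div_mem (mul_mem (mul_mem hc hm) (inv_mem hc)) hm) this
  rwa [div_eq_one, mul_inv_eq_iff_eq_mul] at this

end Cfsg.Agent.H2.Hw
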