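import Cfsg.Agent.WA.GM7c1

/-! Sylow `2`-subgroups of type `L₃(4)`: fusion. -/

set_option autoImplicit false
set_option linter.unusedSectionVars false

namespace Cfsg.Agent.H2.L4

open Subgroup Cfsg.Agent.FT Cfsg.Agent.L0 Cfsg.Agent.H8 Cfsg.Agent.WA.GS Cfsg.Agent.WA.GS.C7
open Cfsg.Agent.H2.CI (cjm cjm' ea_comm ea_pgroup inv_eq card_orbit pgroup_sup mem_cj' cj_mem_cj)

universe u

variable {G : Type u} [Group G] [Finite G] {Z E U S H P X Y F : Subgroup G} {a b c d e g k n s t u v w x y z : G}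

theorem sq_cj (h : ∀ v ∈ X, v * v = 1) (g : G) : ∀ v ∈ cj g X, v * v = 1 := fun x hx => by
  obtain ⟨y, hy, rfl⟩ := mem_cj' hx
  exact G0.sq_conj (h y hy) g

theorem cj_le_syl (hS : IsSylowIn 2 S X) (hP : IsPGroup 2 P) (hle : P ≤ X) : ∃ k ∈ X, cj k P ≤ S := by
  obtain ⟨T, hT, h1⟩ := exists_isSylowIn_ge hP hle
  obtain ⟨k, hk, e⟩ := hT.exists_cj_eq hS
  exact ⟨k, hk, e ▸ cj_mono k h1⟩

theorem common (hS : IsSylowIn 2 S H) (hX : IsPGroup 2 X) (hY : IsPGroup 2 Y) (h1 : X ≤ H ⊓ 𝐂[x])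
    (h2 : Y ≤ H ⊓ 𝐂[x]) : ∃ c ∈ H ⊓ 𝐂[x], ∃ k ∈ H, cj k X ≤ S ∧ cj k (cj c Y) ≤ S := by
  obtain ⟨T, hT, h3⟩ := exists_isSylowIn_ge hX h1
  obtain ⟨c, hc, h4⟩ := cj_le_syl hT hY h2
  obtain ⟨k, hk, h5⟩ := cj_le_syl hS hT.pgroup (hT.le.trans inf_le_left)
  exact ⟨c, hc, k, hk, (cj_mono k h3).trans h5, (cj_mono k h4).trans h5⟩

theorem syl_cj (hS : IsSylowIn 2 S H) (hn : n ∈ H) : IsSylowIn 2 (cj n S) H :=
  hS.cj_of_mem_normalizer (le_normalizer hn)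

/-- a `2`-group of type `L₃(4)` -/
structure Ty (Z E U S : Subgroup G) : Prop where
  cZ : #|Z| = 4
  cE : #|E| = 16
  cU : #|U| = 16
  sE : ∀ e ∈ E, e * e = 1
  sU : ∀ u ∈ U, u * u = 1
  inf : E ⊓ U = Z
  sup : E ⊔ U = S
  nE : S ≤ 𝐍(E)
  nU : S ≤ 𝐍(U)
  ce0 : ∀ e ∈ E, ∀ u ∈ U, e * u = u * e → e ∈ Z ∨ u ∈ Z

namespace Ty

variable (p : Ty Z E U S)
include p

theorem symm : Ty Z U E S := ⟨p.cZ, p.cU, p.cE, p.sU, p.sE, by rw [inf_comm, p.inf], by rw [sup_comm, p.sup],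
  p.nU, p.nE, fun u hu e he h => (p.ce0 e he u hu h.symm).symm⟩

theorem cj (g : G) : Ty (cj g Z) (cj g E) (cj g U) (cj g S) :=
  ⟨by rw [card_cj, p.cZ], by rw [card_cj, p.cE], by rw [card_cj, p.cU], sq_cj p.sE g, sq_cj p.sU g,
    by rw [← cj_inf, p.inf], by rw [← cj_sup, p.sup], by rw [← cj_normalizer]; exact cj_mono g p.nE,
    by rw [← cj_normalizer]; exact cj_mono g p.nU, fun e he u hu h => by
      obtain ⟨e, he', rfl⟩ := mem_cj' he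
      obtain ⟨u, hu', rfl⟩ := mem_cj' hu
      rw [cj_mem_cj, cj_mem_cj]
      refine p.ce0 e he' u hu' ?_
      calc e * u = g⁻¹ * (g * e * g⁻¹ * (g * u * g⁻¹)) * g := by group
        _ = u * e := by rw [h]; group⟩

theorem cjN (hn : n ∈ 𝐍(E)) : Ty (H8.cj n Z) E (H8.cj n U) (H8.cj n S) := by
  have := p.cj n
  rwa [cj_eq_self hn] at this

theorem leE : E ≤ S := p.sup ▸ le_sup_left

theorem leU : U ≤ S := p.symm.leE

theorem ZE : Z ≤ E := p.inf ▸ inf_le_left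

theorem ZU : Z ≤ U := p.symm.ZE

theorem leZ : Z ≤ S := p.ZE.trans p.leE

theorem sZ : ∀ a ∈ Z, a * a = 1 := fun a ha => p.sE a (p.ZE ha)

theorem comm (hx : x ∈ E) (hy : y ∈ E) : x * y = y * x := ea_comm p.sE hx hy

theorem pgE : IsPGroup 2 E := ea_pgroup p.sE

theorem pg : IsPGroup 2 S := p.sup ▸ pgroup_sup p.symm.pgE p.pgE (p.leU.trans p.nE)

theorem centE : E ≤ 𝐂(Z) := fun _ hx => mem_centralizer_iff.mpr fun _ ha => p.comm (p.ZE ha) hx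

theorem cent : S ≤ 𝐂(Z) := p.sup ▸ sup_le p.centE p.symm.centE

theorem nZ (ht : t ∈ S) : t ∈ 𝐍(Z) := cn (p.cent ht)

theorem dec (ht : t ∈ S) : ∃ e ∈ E, ∃ u ∈ U, e * u = t :=
  (mem_sup_of_le_normalizer (p.leU.trans p.nE)).mp (p.sup ▸ ht)

theorem memZ (h1 : x ∈ E) (h2 : x ∈ U) : x ∈ Z := p.inf ▸ ⟨h1, h2⟩

theorem cm0 (he : e ∈ E) (hu : u ∈ U) : e * u * e⁻¹ * u⁻¹ ∈ Z :=
  p.memZ (by
    rw [show e * u * e⁻¹ * u⁻¹ = e * (u * e * u⁻¹)⁻¹ by group]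
    exact mul_mem he (inv_mem (cjm (p.nE (p.leU hu)) he)))
    (mul_mem (cjm (p.nU (p.leE he)) hu) (inv_mem hu))

theorem sq (ht : t ∈ S) : t * t ∈ Z := by
  obtain ⟨e, he, u, hu, rfl⟩ := p.dec ht
  have := p.cm0 he hu
  rwa [inv_eq (p.sE e he), inv_eq (p.sU u hu), mul_assoc (e * u)] at this

theorem cm (hx : x ∈ S) (hy : y ∈ S) : x * y * x⁻¹ * y⁻¹ ∈ Z := by
  have e1 : x * y * x⁻¹ * y⁻¹ = x * y * (x * y) * (y⁻¹ * (x * x)⁻¹ * y) * (y * y)⁻¹ := by group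
  rw [e1]
  exact mul_mem (mul_mem (p.sq (mul_mem hx hy)) (cjm' (p.nZ hy) (inv_mem (p.sq hx)))) (inv_mem (p.sq hy))

theorem ce (he : e ∈ E) (he' : e ∉ Z) (ht : t ∈ S) (h1 : t * e = e * t) : t ∈ E := by
  obtain ⟨x, hx, u, hu, rfl⟩ := p.dec ht
  refine mul_mem hx (p.ZE ((p.ce0 e he u hu ?_).resolve_left he'))
  calc e * u = x⁻¹ * (e * (x * u)) := by rw [← mul_assoc e, p.comm he hx]; group
    _ = u * e := by rw [← h1]; group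

theorem inv (ht : t ∈ S) (h2 : t * t = 1) : t ∈ E ∨ t ∈ U := by
  obtain ⟨e, he, u, hu, rfl⟩ := p.dec ht
  have : e * u = u * e := by
    rw [← inv_eq h2, mul_inv_rev, inv_eq (p.sE e he), inv_eq (p.sU u hu)]
  exact (p.ce0 e he u hu this).symm.imp (fun h => mul_mem he (p.ZE h)) fun h => mul_mem (p.ZU h) hu

theorem ne : E ≠ U := fun e => by
  have h1 := p.inf
  have h2 := p.cE
  rw [← e, inf_idem] at h1
  rw [h1, p.cZ] at h2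
  omega

theorem card : #|S| = 64 := by
  have := card_sup_mul_card_inf_of_le_normalizer (p.leE.trans p.nU)
  rw [p.sup, p.inf, p.cZ, p.cE, p.cU] at this
  omega

theorem act (he : e ∈ E) (he' : e ∉ Z) (ha : a ∈ Z) : ∃ u ∈ U, u * e * u⁻¹ = a * e := by
  have h1 : U ⊓ 𝐂[e] = Z := le_antisymm (fun u hu => p.memZ (p.ce he he' (p.leU hu.1) (cz.mp hu.2)) hu.1)
    (le_inf p.ZU fun a ha => cz.mpr (p.comm (p.ZE ha) he))
  exact onto (fun u hu => p.cm (p.leU hu) (p.leE he)) (by rw [h1, p.cU, p.cZ]) ha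

theorem eq_or (hF : F ≤ S) (h2 : ∀ x ∈ F, x * x = 1) (hc : #|F| = 16) : F = E ∨ F = U :=
  (le_or_le_of_forall fun x hx => p.inv (hF hx) (h2 x hx)).imp
    (fun h => eq_of_le_of_card h (by rw [hc, p.cE])) (fun h => eq_of_le_of_card h (by rw [hc, p.cU]))

theorem exists_z : ∃ z ∈ Z, z ≠ 1 := by
  simpa using exists_not (B := ⊥) (X := Z) (by rw [p.cZ, card_bot]; norm_num)

theorem exists_e : ∃ e ∈ E, e ∉ Z := exists_not (by rw [p.cZ, p.cE]; norm_num)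

theorem exists_two : ∃ x ∈ E, ∃ y ∈ E, x ∉ Z ∧ y ∉ Z ∧ x * y ∉ Z := by
  obtain ⟨x, hx, hx'⟩ := p.exists_e
  obtain ⟨y, hy, hy'⟩ := exists_not (B := Z ⊔ zpowers x) (X := E) (by
    rw [CI.card_sup_zp (p.nZ (p.leE hx)) hx' (by rw [p.sE x hx]; exact one_mem _), p.cZ, p.cE]; norm_num)
  refine ⟨x, hx, y, hy, hx', fun h1 => hy' (mem_sup_left h1), fun h1 => hy' ?_⟩
  rw [show y = x⁻¹ * (x * y) by group]
  exact mul_mem (mem_sup_right (inv_mem (mem_zpowers x))) (mem_sup_left h1)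

theorem quot (hx : x ∈ E) (hy : y ∈ E) (h1 : x ∉ Z) (h3 : y ∉ Z) (h5 : x * y ∉ Z) (hw : w ∈ E) :
    w ∈ Z ∨ w * x ∈ Z ∨ w * y ∈ Z ∨ w * (x * y) ∈ Z :=
  quot4 p.ZE (fun _ hz => p.nZ (p.leE hz)) (by rw [p.cE, p.cZ])
    (fun z hz => by rw [p.sE z hz]; exact one_mem _) hx hy h1 h3 h5 hw

theorem nZ_of (h1 : g ∈ 𝐍(E)) (h2 : g ∈ 𝐍(U)) : g ∈ 𝐍(Z) :=
  cj_eq_self_iff.mp (by rw [← p.inf, cj_inf, cj_eq_self h1, cj_eq_self h2])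

theorem nS_of (h1 : g ∈ 𝐍(E)) (h2 : g ∈ 𝐍(U)) : g ∈ 𝐍(S) :=
  cj_eq_self_iff.mp (by rw [← p.sup, cj_sup, cj_eq_self h1, cj_eq_self h2])

variable (hS : IsSylowIn 2 S H)
include hS

theorem sylE : IsSylowIn 2 S (H ⊓ 𝐍(E)) := hS.of_le (le_inf hS.le p.nE) inf_le_left

theorem not_cj (hg : g ∈ H) : H8.cj g E ≠ U := fun e => by
  have h1 := (p.sylE hS).cj g
  rw [cj_inf, cj_normalizer, e, cj_eq_self (le_normalizer hg)] at h1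
  obtain ⟨k, hk, e1⟩ := h1.exists_cj_eq (p.symm.sylE hS)
  rw [← cj_mul] at e1
  have e2 : H8.cj (k * g) E = U := by rw [cj_mul, e, cj_eq_self hk.2]
  have hH : k * g ∈ H := mul_mem hk.1 hg
  generalize k * g = m at e1 e2 hH
  rcases p.eq_or (F := H8.cj m U) (e1 ▸ cj_mono _ p.leU) (sq_cj p.sU m) (by rw [card_cj, p.cU]) with e3 | e3
  · obtain ⟨j, hj, hp⟩ := odd_part m
    have h2 := hS.le_of_le_normalizer' hp (zpowers_le.mpr (pow_mem hH j))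
      (zpowers_le.mpr (pow_mem (cj_eq_self_iff.mp e1) j)) (mem_zpowers _)
    have h3 := mem_of_odd hj (p.nE h2) (cj_eq_self_iff.mp (by rw [cj_mul, e2, e3]))
    exact p.ne ((cj_eq_self h3).symm.trans e2)
  · exact p.ne (cj_injective _ (e2.trans e3.symm))

theorem wc (hg : g ∈ H) (hle : H8.cj g E ≤ S) : g ∈ 𝐍(E) :=
  cj_eq_self_iff.mp ((p.eq_or hle (sq_cj p.sE g) (by rw [card_cj, p.cE])).resolve_right (p.not_cj hS hg))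

theorem nE_of (hg : g ∈ H) (h : g ∈ 𝐍(S)) : g ∈ 𝐍(E) := p.wc hS hg (cj_le_of_mem_normalizer h p.leE)

theorem le_cent (hg : g ∈ H) (hx : x ∈ H8.cj g E) : H8.cj g E ≤ H ⊓ 𝐂[x] :=
  le_inf (cj_le_of_mem hg (p.leE.trans hS.le)) fun _ hy => cz.mpr ((p.cj g).comm hy hx)

theorem fus (he : e ∈ E) (hg : g ∈ H) (he' : g * e * g⁻¹ ∈ E) :
    ∃ n ∈ H ⊓ 𝐍(E), n * e * n⁻¹ = g * e * g⁻¹ := by
  obtain ⟨c, hc, k, hk, h1, h2⟩ := common hS p.pgE (p.cj g).pgE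
    (by simpa only [cj_one] using p.le_cent hS (one_mem H) (by rwa [cj_one])) (p.le_cent hS hg (conj_mem_cj g he))
  rw [← cj_mul, ← cj_mul] at h2
  have h3 := mul_mem (inv_mem (p.wc hS hk h1)) (p.wc hS (mul_mem (mul_mem hk hc.1) hg) h2)
  rw [mul_assoc, inv_mul_cancel_left] at h3
  refine ⟨c * g, ⟨mul_mem hc.1 hg, h3⟩, ?_⟩
  calc c * g * e * (c * g)⁻¹ = c * (g * e * g⁻¹) * c⁻¹ := by group
    _ = _ := by rw [cz.mp hc.2]; group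

theorem fus2 (he : e ∈ E) (hg : g ∈ H) (hu : g * e * g⁻¹ ∈ U) :
    ∃ n ∈ H ⊓ 𝐍(U), n * (g * e * g⁻¹) * n⁻¹ ∈ Z := by
  obtain ⟨c, hc, k, hk, h1, h2⟩ := common hS p.symm.pgE (p.cj g).pgE
    (by simpa only [cj_one] using p.symm.le_cent hS (one_mem H) (by rwa [cj_one]))
    (p.le_cent hS hg (conj_mem_cj g he))
  rw [← cj_mul, ← cj_mul] at h2
  have h3 := p.symm.wc hS hk h1
  refine ⟨k, ⟨hk, h3⟩, p.memZ ?_ (cjm h3 hu)⟩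
  have e1 : k * (g * e * g⁻¹) * k⁻¹ = k * c * g * e * (k * c * g)⁻¹ := by
    calc _ = k * (g * e * g⁻¹ * c) * (k * c)⁻¹ := by group
      _ = _ := by rw [← cz.mp hc.2]; group
  rw [e1]; exact cjm (p.wc hS (mul_mem (mul_mem hk hc.1) hg) h2) he

theorem scE (hn : H ⊓ 𝐍(U) ≤ 𝐍(Z)) : SC E H :=
  SC.of_sylow hS p.leE p.sE fun e he g hg hm => (p.inv hm (G0.sq_conj (p.sE e he) g)).elim id fun hu => by
    obtain ⟨n, hn', h1⟩ := p.fus2 hS he hg hu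
    by_contra h2
    exact cj_not (hn hn') (fun h3 => h2 (p.ZE h3)) h1

theorem two_cent (hP : IsPGroup 2 P) (hle : P ≤ H ⊓ 𝐍(E)) (hu : u ∈ U) (hu' : u ∉ Z) (huP : u ∈ P) :
    P ≤ 𝐂(Z) := by
  obtain ⟨k, hk, h1⟩ := cj_le_syl (p.sylE hS) hP hle
  have q := p.cjN (inv_mem hk.2)
  rw [cj_le_iff] at h1
  have e : H8.cj k⁻¹ Z = Z := eq_of_le_of_card (fun a ha => p.memZ (q.ZE ha)
    (p.symm.ce hu hu' (p.leE (q.ZE ha)) (cA (q.cent (h1 huP)) ha).symm)) (by rw [q.cZ, p.cZ])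
  exact e ▸ h1.trans q.cent

theorem two_E (hp : IsPGroup 2 (zpowers y)) (hy : y ∈ H) (hc : y ∈ 𝐂(E)) : y ∈ E := by
  obtain ⟨k, hk, h1⟩ := cj_le_syl (p.sylE hS) hp (zpowers_le.mpr ⟨hy, cn hc⟩)
  have q := p.cjN (inv_mem hk.2)
  rw [cj_le_iff] at h1
  obtain ⟨e, he, he'⟩ := q.exists_e
  exact q.ce he he' (h1 (mem_zpowers y)) (cA hc he)

theorem dih (hu : u ∈ U) (hu' : u ∉ Z) (ht : t ∈ H ⊓ 𝐍(E)) (h2 : t * t = 1) {m : ℕ}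
    (hp : IsPGroup 2 (zpowers ((u * t) ^ m))) : (u * t) ^ m ∈ 𝐂(Z) := by
  have h1 : u ∈ H ⊓ 𝐍(E) := (p.sylE hS).le (p.leU hu)
  have hn : zpowers u ≤ 𝐍(zpowers ((u * t) ^ m)) := zpowers_le.mpr (H9.mem_normalizer_of_conj_mem fun x hx => by
    rw [H4.conj_eq_inv_of_mem_zpowers (H4.left_conj_mul_eq_inv (p.sU u hu) h2)
      (zpowers_le.mpr (pow_mem (mem_zpowers _) m) hx)]
    exact inv_mem hx)
  exact p.two_cent hS (pgroup_sup (pg_zp (p.sU u hu)) hp hn)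
    (sup_le (zpowers_le.mpr (pow_mem (mul_mem h1 ht) m)) (zpowers_le.mpr h1)) hu hu'
    (mem_sup_right (mem_zpowers u)) (mem_sup_left (mem_zpowers _))

theorem ti (hn : n ∈ H ⊓ 𝐍(E)) (hz : z ∈ Z) (h1 : z ≠ 1) (hz' : z ∈ H8.cj n Z) : n ∈ 𝐍(Z) := by
  have q := p.cjN hn.2
  refine cj_eq_self_iff.mp (eq_of_le_of_card (fun a ha => ?_) (by rw [q.cZ, p.cZ])).symm
  by_contra ha'
  obtain ⟨t, ht, e1⟩ := q.act (p.ZE ha) ha' hz'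
  obtain ⟨u, hu, hu'⟩ := p.symm.exists_e
  obtain ⟨m, hm, hp⟩ := odd_part (u * t)
  have h2 := p.dih hS hu hu' ((q.sylE (syl_cj hS hn.1)).le (q.leU ht)) (q.sU t ht) hp
  have h3 : u * t * a * (u * t)⁻¹ = z * a := by
    calc u * t * a * (u * t)⁻¹ = u * (t * a * t⁻¹) * u⁻¹ := by group
      _ = _ := by rw [e1, cjA (p.cent (p.leU hu)) (mul_mem hz ha)]
  have h4 : u * t * z * (u * t)⁻¹ = z := by
    calc u * t * z * (u * t)⁻¹ = u * (t * z * t⁻¹) * u⁻¹ := by group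
      _ = _ := by rw [cjA (q.cent (q.leU ht)) hz', cjA (p.cent (p.leU hu)) hz]
  have h5 : u * t * (u * t) ∈ 𝐂[a] := cz.mpr (mul_inv_eq_iff_eq_mul.mp (by
    calc u * t * (u * t) * a * (u * t * (u * t))⁻¹ = u * t * (u * t * a * (u * t)⁻¹) * (u * t)⁻¹ := by group
      _ = u * t * (z * a) * (u * t)⁻¹ := by rw [h3]
      _ = u * t * z * (u * t)⁻¹ * (u * t * a * (u * t)⁻¹) := by group
      _ = a := by rw [h3, h4, ← mul_assoc, p.sZ z hz, one_mul]))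
  rw [cz.mp (mem_of_odd hm (cz.mpr (cA h2 ha)) h5), mul_inv_cancel_right] at h3
  exact h1 (by simpa using h3.symm)

theorem disj (hn : n ∈ H ⊓ 𝐍(E)) (hn' : n ∉ 𝐍(Z)) (hx : x ∈ Z) (hx' : x ∈ H8.cj n Z) : x = 1 := by
  by_contra h1
  exact hn' (p.ti hS hn hx h1 hx')

theorem sup_cj (hn : n ∈ H ⊓ 𝐍(E)) (hn' : n ∉ 𝐍(Z)) : Z ⊔ H8.cj n Z = E := by
  have q := p.cjN hn.2
  refine eq_of_le_of_card (sup_le p.ZE q.ZE) ?_
  have := H9.card_mul_card_le_of_disjoint (A := Z) (B := H8.cj n Z) le_sup_left le_sup_right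
    (eq_bot_iff.mpr fun x hx => p.disj hS hn hn' hx.1 hx.2)
  rwa [p.cZ, q.cZ, ← show 16 = 4 * 4 from rfl, ← p.cE] at this

theorem trans (hn : n ∈ H ⊓ 𝐍(E)) (hn' : n ∉ 𝐍(Z)) (ha : a ∈ E) (ha1 : a ≠ 1) (hb : b ∈ E) (hb1 : b ≠ 1) :
    ∃ k ∈ H ⊓ 𝐍(E), k * a * k⁻¹ = b := by
  have q := p.cjN hn.2
  have hd : ∀ x ∈ Z, x ∈ H8.cj n Z → x = 1 := fun x hx hx' => p.disj hS hn hn' hx hx'
  have hU : U ≤ H ⊓ 𝐍(E) := p.leU.trans (p.sylE hS).le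
  have hU' : H8.cj n U ≤ H ⊓ 𝐍(E) := q.leU.trans (q.sylE (syl_cj hS hn.1)).le
  let R : G → G → Prop := fun x y => ∃ k ∈ H ⊓ 𝐍(E), k * x * k⁻¹ = y
  have tr : ∀ x y z, R x y → R y z → R x z := by
    rintro x _ _ ⟨k, hk, rfl⟩ ⟨l, hl, rfl⟩
    exact ⟨l * k, mul_mem hl hk, by group⟩
  have sy : ∀ x y, R x y → R y x := by
    rintro x _ ⟨k, hk, rfl⟩
    exact ⟨k⁻¹, inv_mem hk, by group⟩
  obtain ⟨w, hw, hw1⟩ := q.exists_z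
  have hwZ : w ∉ Z := fun h => hw1 (hd w h hw)
  have r1 : ∀ z ∈ Z, ∀ e ∈ E, e ∉ Z → R e (z * e) := fun z hz e he he' =>
    let ⟨u, hu, h⟩ := p.act he he' hz; ⟨u, hU hu, h⟩
  have r2 : ∀ z ∈ Z, z ≠ 1 → R z w := fun z hz h1 => by
    obtain ⟨u, hu, h⟩ := q.act (p.ZE hz) (fun h => h1 (hd z hz h)) hw
    exact tr _ _ _ ⟨u, hU' hu, h.trans (p.comm (q.ZE hw) (p.ZE hz))⟩ (sy _ _ (r1 z hz w (q.ZE hw) hwZ))
  have hsup := p.sup_cj hS hn hn'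
  have r3 : ∀ e ∈ E, e ≠ 1 → R e w := fun e he h1 => by
    by_cases h2 : e ∈ Z
    · exact r2 e h2 h1
    obtain ⟨z, hz, v, hv, rfl⟩ := (mem_sup_of_le_normalizer (q.ZE.trans fun _ h => p.nZ (p.leE h))).mp (hsup ▸ he)
    obtain ⟨z', hz', rfl⟩ := mem_cj' hv
    have h3 : n * z' * n⁻¹ ∉ Z := fun h => h2 (mul_mem hz h)
    exact tr _ _ _ (sy _ _ (r1 z hz _ (q.ZE hv) h3)) (tr _ _ _ (sy _ _ ⟨n, hn, rfl⟩)
      (r2 z' hz' fun h => h3 (by rw [h]; simp)))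
  exact tr _ _ _ (r3 a ha ha1) (sy _ _ (r3 b hb hb1))

end Ty

end Cfsg.Agent.H2.L4
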