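import Cfsg.Agent.H2.L4a
import Cfsg.Agent.WA.GMain
import Cfsg.Agent.BS.SEMain

/-! Sylow `2`-subgroups of type `L₃(4)`: local structure. -/

set_option autoImplicit false
set_option linter.unusedSectionVars false

namespace Cfsg.Agent.H2.L4

open Subgroup Cfsg.Agent.FT Cfsg.Agent.L0 Cfsg.Agent.H8 Cfsg.Agent.WA.GS Cfsg.Agent.WA.GS.C7
open Cfsg.Agent.H7 (opp op PQS PCompOf playerOf)
open Cfsg.Agent.H2.CI (cjm cjm' ea_comm ea_pgroup inv_eq card_orbit pgroup_sup mem_cj' cj_mem_cj)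
open scoped commutatorElement

universe u

variable {G : Type u} [Group G] [Finite G] {Z E U S H K P X Y F : Subgroup G} {a b c d e g k n s t u v w x y z : G}

theorem solv_of_odd (hle : Y ≤ X) (hn : X ≤ 𝐍(Y)) (hY : Group.IsSolvable Y) (ho : ¬ 2 ∣ Y.relIndex X) :
    Group.IsSolvable X := by
  have : (Y.subgroupOf X).Normal := normal_subgroupOf_of_le_normalizer hn
  rw [Group.isSolvable_iff_subgroup_quotient (Y.subgroupOf X)]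
  exact ⟨Group.isSolvable_of_isSolvable_injective (subgroupOfEquivOfLe hle).injective
    (f := (subgroupOfEquivOfLe hle).toMonoidHom), FT.odd_solvable (Dich.odd_iff.mpr ho)⟩

namespace Ty

variable (p : Ty Z E U S) (hS : IsSylowIn 2 S H)
include p hS

theorem no_comp (hs : SC E H) (hK : AC E K H) : False := by
  have ih := ih_all.{u} (#|H| + 1)
  have lt := Nat.lt_succ_self #|H|
  have kc := hK.kc ih lt hs
  have KH : K ≤ H := hK.comp.1.1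
  obtain ⟨c, hcK, sg⟩ := kc.sing
  have h4 := sg.four
  rw [p.cE] at h4
  have hc : c ∈ H ⊓ 𝐍(E) := ⟨KH hcK, sg.norm⟩
  obtain ⟨u₁, hu₁, u₂, hu₂, n₁, n₂, n₃⟩ := p.symm.exists_two
  have SH := (p.sylE hS).le
  by_cases h1 : ∃ z ∈ Z, z ≠ 1 ∧ z ∈ WA.GS.cm K
  · obtain ⟨z, hz, hz1, hzK⟩ := h1
    have hcZ : c ∈ 𝐍(Z) := p.ti hS hc hz hz1 (mem_cj.mpr (by
      rw [mul_assoc, ← sg.cent z ⟨p.ZE hz, hzK⟩, inv_mul_cancel_left]; exact hz))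
    have hZB : Z ≤ BB E K := fun a ha => by
      by_contra ha'
      have hn : BB E K ≤ 𝐍(Z) := fun x hx => p.nZ (p.leE hx.1)
      obtain ⟨e, he, he'⟩ := exists_not (B := BB E K ⊔ Z) (X := E) (by
        have e1 := card_sup_mul_card_inf_of_le_normalizer hn
        have e2 : #|zpowers z| ≤ #|(BB E K ⊓ Z : Subgroup G)| :=
          card_le_of_le (zpowers_le.mpr ⟨⟨p.ZE hz, hzK⟩, hz⟩)
        rw [Nat.card_zpowers, H4.orderOf_eq_two_of (p.sZ z hz) hz1] at e2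
        rw [p.cZ] at e1
        rw [p.cE]
        nlinarith)
      obtain ⟨i, hi⟩ := sg.trans a (p.ZE ha) ha' e he fun h => he' (mem_sup_left h)
      refine he' ?_
      rw [show e = (c ^ i * a * (c ^ i)⁻¹ * e⁻¹)⁻¹ * (c ^ i * a * (c ^ i)⁻¹) by group]
      exact mul_mem (mem_sup_left (inv_mem hi)) (mem_sup_right (cjm (pow_mem hcZ i) ha))
    have hB : Z = BB E K := eq_of_le_of_card hZB (by rw [p.cZ]; omega)
    have hSK : S ≤ 𝐍(K) := fun s hs' => hK.cent_le_norm ih lt hs ⟨SH hs', hB ▸ p.nZ hs'⟩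
    by_cases h2 : IsSylowIn 2 (E ⊓ K) K
    · obtain ⟨h3, -, -, h5⟩ := kc.of_sylow h2
      rw [← hB, p.cE, p.cZ] at h5
      obtain ⟨e, he, he1⟩ := exists_not (B := ⊥) (X := E ⊓ K) (by rw [card_bot]; omega)
      have h6 : ∀ x ∈ Z, x ∈ K → x ∈ (⊥ : Subgroup G) := fun x hx hx' => h3 ▸ ⟨⟨p.ZE hx, hx'⟩, (hZB hx).2⟩
      have h7 := h6 _ (p.cm0 he.1 hu₁) (by
        rw [show e * u₁ * e⁻¹ * u₁⁻¹ = e * (u₁ * e * u₁⁻¹)⁻¹ by group]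
        exact mul_mem he.2 (inv_mem (cjm (hSK (p.leU hu₁)) he.2)))
      rw [mem_bot, mul_inv_eq_one, mul_inv_eq_iff_eq_mul] at h7
      exact (p.ce0 e he.1 u₁ hu₁ h7).elim (fun h => he1 (h6 e h he.2)) n₁
    · obtain ⟨P, hP, hp, h3⟩ := kc.der_of_not_sylow h2
      obtain ⟨k, hk, h5⟩ := cj_le_syl (hS.of_le (le_inf hS.le p.cent) inf_le_left) hp
        (le_inf (hP.trans (inf_le_left.trans KH)) (hB ▸ hP.trans kc.le_cent))
      refine h3 (inf_le_left.trans (le_trans ?_ (hZB.trans inf_le_right)))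
      refine commutator_le.mpr fun x hx y hy => ?_
      have h6 := cjm' (cn hk.2) (p.cm (h5 (conj_mem_cj k hx)) (h5 (conj_mem_cj k hy)))
      rwa [show k⁻¹ * (k * x * k⁻¹ * (k * y * k⁻¹) * (k * x * k⁻¹)⁻¹ * (k * y * k⁻¹)⁻¹) * k = ⁅x, y⁆ by
        rw [commutatorElement_def]; group] at h6
  push Not at h1
  have hd : ∀ z ∈ Z, z ∈ WA.GS.cm K → z = 1 := fun z hz h => by
    by_contra h2
    exact h1 z hz h2 h
  by_cases h2 : BB E K = ⊥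
  · have hN : H ⊓ 𝐍(E) ≤ 𝐍(K) := fun x hx => hK.cent_le_norm ih lt hs ⟨hx, by rw [h2]; exact cj_eq_self_iff.mp (cj_bot x)⟩
    have hEK : E ≤ K := kc.le_sup.trans (sup_le kc.AA_le (h2 ▸ bot_le))
    obtain ⟨e, he, he'⟩ := p.exists_e
    obtain ⟨z, hz, hz1⟩ := p.exists_z
    obtain ⟨i, hi⟩ := sg.trans z (p.ZE hz) (by rwa [h2]) e he (by rw [h2]; exact fun h => he' (mem_bot.mp h ▸ one_mem _))
    rw [h2, mem_bot, mul_inv_eq_one] at hi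
    have hn : c ^ i ∈ H ⊓ 𝐍(E) := pow_mem hc i
    have hnK : c ^ i ∈ K := pow_mem hcK i
    have hn' : c ^ i ∉ 𝐍(Z) := fun h => he' (hi ▸ cjm h hz)
    generalize c ^ i = n at hn hnK hn'
    have q := p.cjN hn.2
    have qS := syl_cj hS hn.1
    have ht := conj_mem_cj n hu₁
    obtain ⟨m, hm, hp⟩ := odd_part (u₂ * (n * u₁ * n⁻¹))
    have e1 : (n * u₁ * n⁻¹ * u₂) ^ m = ((u₂ * (n * u₁ * n⁻¹)) ^ m)⁻¹ := by
      rw [← inv_pow, mul_inv_rev, inv_eq (p.sU _ hu₂), inv_eq (q.sU _ ht)]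
    have h3 := p.dih hS hu₂ n₂ ((q.sylE qS).le (q.leU ht)) (q.sU _ ht) hp
    have h5 := q.dih qS ht (by rwa [cj_mem_cj]) (SH (p.leU hu₂)) (p.sU _ hu₂) (m := m)
      (by rw [e1, zpowers_inv]; exact hp)
    rw [e1, inv_mem_iff] at h5
    have h6 := p.two_E hS hp (pow_mem (mul_mem (SH (p.leU hu₂)).1 (qS.le (q.leU ht))) m) (by
      rw [← p.sup_cj hS hn hn', ← zpowers_le, le_centralizer_iff, sup_le_iff]
      exact ⟨le_centralizer_iff.mp (zpowers_le.mpr h3), le_centralizer_iff.mp (zpowers_le.mpr h5)⟩)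
    have hv := mul_mem hu₂ hu₁
    have hk : u₁⁻¹ * n * u₁ * n⁻¹ ∈ K := mul_mem (cjm' (hN (SH (p.leU hu₁))) hnK) (inv_mem hnK)
    have h7 := mem_of_odd hm (hEK h6) (by
      rw [show u₂ * (n * u₁ * n⁻¹) * (u₂ * (n * u₁ * n⁻¹)) = u₂ * u₁ * (u₁⁻¹ * n * u₁ * n⁻¹) * (u₂ * u₁)⁻¹ *
        (u₂ * u₁ * (u₂ * u₁)) * (u₁⁻¹ * n * u₁ * n⁻¹) by group, p.sU _ hv, mul_one]
      exact mul_mem (cjm (hN (SH (p.leU hv))) hk) hk)
    have h8 : u₂ * u₁ ∈ K := by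
      rw [show u₂ * u₁ = u₂ * (n * u₁ * n⁻¹) * (u₁⁻¹ * n * u₁ * n⁻¹)⁻¹ by group]
      exact mul_mem h7 (inv_mem hk)
    have h9 := hd _ (p.cm0 he hv) (kc.two_comm (pg_zp (p.sU _ hv)) (zpowers_le.mpr ⟨h8, p.nE (p.leU hv)⟩)
      (commutator_mem_commutator he (mem_zpowers _)))
    rw [mul_inv_eq_one, mul_inv_eq_iff_eq_mul] at h9
    exact (p.ce0 e he _ hv h9).elim he' fun h => n₃ (by rwa [p.symm.comm hu₁ hu₂])
  obtain ⟨b, hb, hb1⟩ := exists_mem_ne_one h2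
  have mov : ∀ b ∈ BB E K, b ≠ 1 → ∀ u ∈ U, u * b = b * u → u ∈ Z := fun b hb hb1 u hu e =>
    (p.ce0 b hb.1 u hu e.symm).resolve_left fun h => hb1 (hd b h hb.2)
  have key : ∀ u ∈ U, u ∉ Z → AA E K ≤ H8.cj u (BB E K) := fun u hu hu' => by
    have hu2 := SH (p.leU hu)
    have h3 := hK.cj' hu2.2
    rw [cj_eq_self (le_normalizer hu2.1)] at h3
    rw [cj_BB hu2.2]
    refine hK.aa_le_of_ne hs h3 fun e => hu' (mov b hb hb1 u hu ?_)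
    have h5 := hd _ (p.cm (p.leU hu) (p.leE hb.1))
      (mul_mem (cjm (norm_cm K (cj_eq_self_iff.mp e.symm)) hb.2) (inv_mem hb.2))
    rwa [mul_inv_eq_one, mul_inv_eq_iff_eq_mul] at h5
  obtain ⟨a, ha, ha1⟩ := exists_mem_ne_one (B := AA E K) fun e => by
    have := card_le_of_le kc.le_sup
    rw [e, bot_sup_eq, p.cE] at this
    omega
  obtain ⟨b₁, hb₁, e₁⟩ := mem_cj' (key u₁ hu₁ n₁ ha)
  obtain ⟨b₂, hb₂, e₂⟩ := mem_cj' (key u₂ hu₂ n₂ ha)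
  have e₃ : b₁ = b₂ := by
    have h3 := mul_mem (inv_mem (p.cm (p.leU hu₁) (p.leE hb₁.1))) (p.cm (p.leU hu₂) (p.leE hb₂.1))
    rw [← e₁, ← e₂, show (a * b₁⁻¹)⁻¹ * (a * b₂⁻¹) = b₁ * b₂⁻¹ by group] at h3
    exact mul_inv_eq_one.mp (hd _ h3 (mul_mem hb₁.2 (inv_mem hb₂.2)))
  subst e₃
  refine n₃ (mov b₁ hb₁ (fun e => ha1 (by rw [e₁, e]; simp)) _ (mul_mem hu₁ hu₂) ?_)
  calc u₁ * u₂ * b₁ = u₁ * (u₂ * b₁ * u₂⁻¹) * u₂ := by group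
    _ = u₁ * u₁ * b₁ * u₁⁻¹ * u₂ := by rw [← e₂, e₁]; group
    _ = _ := by rw [p.sU _ hu₁, inv_eq (p.sU _ hu₁)]; group

theorem le_sup (hn : H ⊓ 𝐍(U) ≤ 𝐍(Z)) : H ≤ opp 2 H ⊔ (H ⊓ 𝐍(E)) :=
  (p.scE hS hn).le_of_struct (ih_all _) (Nat.lt_succ_self _) le_sup_left
    (fun _ hK => (p.no_comp hS (p.scE hS hn) hK).elim) le_sup_right

theorem norm_sup (hn : H ⊓ 𝐍(U) ≤ 𝐍(Z)) : H ≤ 𝐍(opp 2 H ⊔ E) := by
  refine (p.le_sup hS hn).trans (sup_le (le_sup_left.trans le_normalizer) fun g hg => cj_eq_self_iff.mp ?_)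
  rw [cj_sup, cj_eq_self hg.2, cj_eq_self (H7.le_normalizer_opp H hg.1)]

theorem solv (h1 : H ⊓ 𝐍(E) ≤ 𝐍(Z)) (h2 : H ⊓ 𝐍(U) ≤ 𝐍(Z)) : Group.IsSolvable H := by
  refine solv_of_odd (Y := opp 2 H ⊔ S) (sup_le (H7.opp_le H) hS.le) (fun g hg => cj_eq_self_iff.mp ?_)
    (solvable_sup (hS.le.trans (H7.le_normalizer_opp H)) (FT.odd_solvable (odd_opp H)) (solvable_of_pgroup hS.pgroup))
    fun h => hS.not_dvd_relIndex (h.trans (relIndex_dvd_of_le_left H le_sup_right))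
  rw [← p.sup, sup_sup_distrib_left, cj_sup, cj_eq_self (p.norm_sup hS h2 hg), cj_eq_self (p.symm.norm_sup hS h1 hg)]

end Ty

namespace Ty

variable (p : Ty Z E U S) (hS : IsSylowIn 2 S ⊤)
include p hS

theorem normal (hO : pPrimeCore 2 G = ⊥) (hn : 𝐍(U) ≤ 𝐍(Z)) (g : G) : g ∈ 𝐍(E) := by
  have := p.le_sup hS (inf_le_right.trans hn) (mem_top g)
  rwa [H7.opp_top, hO, bot_sup_eq, top_inf_eq] at this

theorem sylC (hz : z ∈ Z) : IsSylowIn 2 S 𝐂[z] := hS.of_le (fun _ hs => cz.mpr (cA (p.cent hs) hz)) le_top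

theorem cN (hz : z ∈ Z) (h1 : z ≠ 1) : 𝐂[z] ⊓ 𝐍(E) ≤ 𝐍(Z) := fun g hg =>
  p.ti hS ⟨mem_top g, hg.2⟩ hz h1 (mem_cj.mpr (by rw [mul_assoc, ← cz.mp hg.1, inv_mul_cancel_left]; exact hz))

theorem conj_z (hE : ¬ 𝐍(E) ≤ 𝐍(Z)) (hU : ¬ 𝐍(U) ≤ 𝐍(Z)) (hz : z ∈ Z) (hz1 : z ≠ 1) (h2 : t * t = 1)
    (h1 : t ≠ 1) : ∃ g, g * z * g⁻¹ = t := by
  obtain ⟨k, -, hk⟩ := cj_le_syl hS (pg_zp h2) le_top
  have key : ∀ {E U}, Ty Z E U S → ¬ 𝐍(E) ≤ 𝐍(Z) → k * t * k⁻¹ ∈ E → ∃ g, g * z * g⁻¹ = t := fun p hE h => by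
    obtain ⟨n, hn, hn'⟩ := SetLike.not_le_iff_exists.mp hE
    obtain ⟨l, -, e⟩ := p.trans hS ⟨mem_top n, hn⟩ hn' (p.ZE hz) hz1 h (cj_ne h1)
    exact ⟨k⁻¹ * l, by rw [show k⁻¹ * l * z * (k⁻¹ * l)⁻¹ = k⁻¹ * (l * z * l⁻¹) * k by group, e]; group⟩
  exact (p.inv (hk (conj_mem_cj k (mem_zpowers t))) (G0.sq_conj h2 k)).elim (key p hE) (key p.symm hU)

theorem index_ne (hE : ¬ 𝐍(E) ≤ 𝐍(Z)) (hU : ¬ 𝐍(U) ≤ 𝐍(Z)) (K : Subgroup G) : K.index ≠ 2 := fun hK => by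
  haveI := normal_of_index_eq_two hK
  obtain ⟨e, he, he'⟩ := p.exists_e
  obtain ⟨z, hz, hz1⟩ := p.exists_z
  obtain ⟨u, hu, e1⟩ := p.act he he' hz
  have h1 : z ∈ K := by
    have := (sq_mem_of_index_two hK (u * e))
    rwa [pow_two, show u * e * (u * e) = u * e * u⁻¹ * (u * u) * e by group, e1, p.sU u hu, mul_one, mul_assoc,
      p.sE e he, mul_one] at this
  have h2 : ∀ t : G, t * t = 1 → t ∈ K := fun t ht => by
    by_cases h3 : t = 1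
    · rw [h3]; exact one_mem _
    obtain ⟨g, rfl⟩ := p.conj_z hS hE hU hz hz1 ht h3
    exact Normal.conj_mem inferInstance z h1 g
  have h3 : S ≤ K := p.sup ▸ sup_le (fun x hx => h2 x (p.sE x hx)) fun x hx => h2 x (p.sU x hx)
  refine hS.not_dvd_relIndex ?_
  rw [relIndex_top_right, ← hK]
  exact index_dvd_of_le h3

theorem core_bot (hO : pPrimeCore 2 G = ⊥) (hE : ¬ 𝐍(E) ≤ 𝐍(Z)) (hU : ¬ 𝐍(U) ≤ 𝐍(Z)) (hz : z ∈ Z)
    (hz1 : z ≠ 1) : opp 2 𝐂[z] = ⊥ := by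
  refine Dich.core_eq_bot (fun t ht => isPConstrained_of_solvable ?_) BS.bs0 (p.index_ne hS hE hU) hO
    (not_prankLE_iff_top.mpr ⟨E, elem_of_sq p.sE, by rw [p.cE]; norm_num⟩) (H4.orderOf_eq_two_of (p.sZ z hz) hz1)
  obtain ⟨g, rfl⟩ := p.conj_z hS hE hU hz hz1 (H4.mul_self_of_orderOf_two ht) (H4.ne_one_of_orderOf_two ht)
  rw [← cj_centralizer_singleton]
  exact solvable_cj (p.solv (p.sylC hS hz) (p.cN hS hz hz1) (p.symm.cN hS hz hz1)) g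

theorem cent_le (hO : pPrimeCore 2 G = ⊥) (hE : ¬ 𝐍(E) ≤ 𝐍(Z)) (hU : ¬ 𝐍(U) ≤ 𝐍(Z)) (hz : z ∈ Z)
    (hz1 : z ≠ 1) : 𝐂[z] ≤ 𝐍(E) := by
  have := p.le_sup (p.sylC hS hz) (p.symm.cN hS hz hz1)
  rw [p.core_bot hS hO hE hU hz hz1, bot_sup_eq] at this
  exact this.trans inf_le_right

end Ty

end Cfsg.Agent.H2.L4
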