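import Cfsg.Agent.H3.Km7
import Mathlib.FieldTheory.Finite.GaloisField
import Mathlib.LinearAlgebra.Matrix.GeneralLinearGroup.Basic

/-! An affine representation over the field with four elements. -/

set_option autoImplicit false
set_option linter.unusedSectionVars false

namespace Cfsg.Agent.H2.L4

open Subgroup

variable {G : Type*} [Group G] [Finite G]

/-- Gaschütz's averaging argument -/
theorem exists_cocycle {E S W : Subgroup G} [hE : E.Normal] (h2 : ∀ e ∈ E, e * e = 1) (hES : E ≤ S)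
    (ho : Odd S.index) (hWE : ∀ x ∈ W, x ∈ E → x = 1) (hd : ∀ s ∈ S, ∃ e ∈ E, e⁻¹ * s ∈ W) :
    ∃ δ : G → G, (∀ g, δ g ∈ E) ∧ (∀ g h, δ (g * h) = δ g * (g * δ h * g⁻¹)) ∧ ∀ e ∈ E, δ e = e := by
  classical
  have inv : ∀ n ∈ E, n⁻¹ = n := fun n hn => inv_eq_of_mul_eq_one_left (h2 n hn)
  have comm : ∀ a ∈ E, ∀ b ∈ E, a * b = b * a := fun a ha b hb => by
    rw [← inv _ (mul_mem ha hb), mul_inv_rev, inv a ha, inv b hb]
  let : CommGroup E := { (inferInstance : Group E) with mul_comm := fun a b => Subtype.ext (comm a a.2 b b.2) }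
  let := Fintype.ofFinite (G ⧸ S)
  have h1 : ∀ s : G, ∃ e : E, s ∈ S → (e : G)⁻¹ * s ∈ W := fun s => by
    by_cases hs : s ∈ S
    · obtain ⟨e, he, h⟩ := hd s hs
      exact ⟨⟨e, he⟩, fun _ => h⟩
    · exact ⟨1, fun h => absurd h hs⟩
  choose d hd' using h1
  have uq : ∀ s ∈ S, ∀ e : E, (e : G)⁻¹ * s ∈ W → d s = e := fun s hs e he => by
    have := hWE _ (mul_mem he (inv_mem (hd' s hs))) (by
      rw [show (e : G)⁻¹ * s * ((d s : G)⁻¹ * s)⁻¹ = (e⁻¹ * d s : E) by simp [mul_assoc]]; exact Subtype.prop _)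
    rw [show (e : G)⁻¹ * s * ((d s : G)⁻¹ * s)⁻¹ = (e : G)⁻¹ * d s by group, inv_mul_eq_one] at this
    exact Subtype.ext this.symm
  let L : G →* MulAut E := MulAut.conjNormal
  have hL : ∀ g (x : E), (L g x : G) = g * x * g⁻¹ := fun _ _ => rfl
  have cyc : ∀ s ∈ S, ∀ t ∈ S, d (s * t) = d s * L s (d t) := fun s hs t ht => uq _ (mul_mem hs ht) _ (by
    have e1 := comm _ (d s).2 _ (L s (d t)).2
    rw [Subgroup.coe_mul, e1, hL]
    rw [show (s * d t * s⁻¹ * d s)⁻¹ * (s * t) = (d s : G)⁻¹ * s * ((d t : G)⁻¹ * t) by group]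
    exact mul_mem (hd' s hs) (hd' t ht))
  have mem : ∀ (g : G) (q : G ⧸ S), (g • q).out⁻¹ * g * q.out ∈ S := fun g q => by
    rw [mul_assoc, ← QuotientGroup.eq, QuotientGroup.out_eq', ← smul_eq_mul, ← MulAction.Quotient.smul_mk,
      QuotientGroup.out_eq']
  let δ : G → E := fun g => ∏ q : G ⧸ S, L (g • q).out (d ((g • q).out⁻¹ * g * q.out))
  refine ⟨fun g => δ g, fun g => (δ g).2, fun g h => ?_, fun e he => ?_⟩
  · rw [← hL, ← Subgroup.coe_mul]
    refine congrArg Subtype.val ?_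
    simp only [δ]
    rw [map_prod, ← Equiv.prod_comp (MulAction.toPerm h) fun q : G ⧸ S => L (g • q).out (d ((g • q).out⁻¹ * g * q.out)),
      ← Finset.prod_mul_distrib]
    refine Finset.prod_congr rfl fun q _ => ?_
    rw [MulAction.toPerm_apply, mul_smul, show (g • h • q).out⁻¹ * (g * h) * q.out =
      (g • h • q).out⁻¹ * g * (h • q).out * ((h • q).out⁻¹ * h * q.out) by group, cyc _ (mem g _) _ (mem h _), map_mul,
      ← MulAut.mul_apply, ← MulAut.mul_apply, ← map_mul, ← map_mul]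
    congr 3
    group
  · have e1 : ∀ q : G ⧸ S, L (e • q).out (d ((e • q).out⁻¹ * e * q.out)) = ⟨e, he⟩ := fun q => by
      have h3 : q.out⁻¹ * e * q.out ∈ E := hE.conj_mem' e he _
      have h4 : e • q = q := by
        rw [← QuotientGroup.out_eq' q, MulAction.Quotient.smul_mk, QuotientGroup.eq, smul_eq_mul]
        rw [show (e * q.out)⁻¹ * q.out = (q.out⁻¹ * e * q.out)⁻¹ by group]
        exact inv_mem (hES h3)
      rw [h4, uq _ (hES h3) ⟨_, h3⟩ (by rw [inv_mul_cancel]; exact one_mem W)]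
      exact Subtype.ext (by rw [hL]; group)
    simp only [δ, e1]
    obtain ⟨m, hm⟩ := ho
    rw [Finset.prod_const, Finset.card_univ, ← Nat.card_eq_fintype_card, ← index_eq_card, hm, Subgroup.coe_pow,
      pow_succ, pow_mul, pow_two, h2 e he, one_pow, one_mul]

open Cfsg.Agent.H3.Km in
theorem affine {E : Subgroup G} [hE : E.Normal] (h2 : ∀ n ∈ E, n * n = 1) (h16 : Nat.card E = 16) {ω δ : G → G}
    (m : ∀ x ∈ E, ω x ∈ E) (hm : ∀ x ∈ E, ∀ y ∈ E, ω (x * y) = ω x * ω y) (h3 : ∀ x ∈ E, ω (ω x) = x * ω x)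
    (hc : ∀ g, ∀ x ∈ E, ω (g * x * g⁻¹) = g * ω x * g⁻¹) (d1 : ∀ g, δ g ∈ E)
    (d2 : ∀ g h, δ (g * h) = δ g * (g * δ h * g⁻¹)) (d3 : ∀ e ∈ E, δ e = e)
    (hi : ∀ g, (∀ n ∈ E, g * n = n * g) → g ∈ E) {F : Type*} [Field F] [Fintype F] (hF : Fintype.card F = 4) :
    ∃ f : G →* GL (Fin 3) F ⧸ center (GL (Fin 3) F), Function.Injective f := by
  classical
  have inv : ∀ n ∈ E, n⁻¹ = n := fun n hn => inv_eq_of_mul_eq_one_left (h2 n hn)
  have comm : ∀ a ∈ E, ∀ b ∈ E, a * b = b * a := fun a ha b hb => by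
    rw [← inv _ (mul_mem ha hb), mul_inv_rev, inv a ha, inv b hb]
  let : CommGroup E := { (inferInstance : Group E) with mul_comm := fun a b => Subtype.ext (comm a a.2 b b.2) }
  let : Module (ZMod 2) (Additive E) := AddCommGroup.zmodModule fun x =>
    Additive.toMul.injective (Subtype.ext (by rw [two_nsmul]; exact h2 _ x.toMul.2))
  let L : G → Additive E ≃+ Additive E := fun g => MulEquiv.toAdditive (MulAut.conjNormal (H := E) g)
  have hL : ∀ g (x : Additive E), ((L g x).toMul : G) = g * x.toMul * g⁻¹ := fun _ _ => rfl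
  have ext : ∀ x y : Additive E, (x.toMul : G) = y.toMul → x = y := fun x y e =>
    Additive.toMul.injective (Subtype.ext e)
  let w : Additive E →+ Additive E := AddMonoidHom.mk' (fun x => Additive.ofMul ⟨ω x.toMul, m _ x.toMul.2⟩)
    fun x y => ext _ _ (hm _ x.toMul.2 _ y.toMul.2)
  let φ : Module.End (ZMod 2) (Additive E) := w.toZModLinearMap 2
  have hφ : φ * φ = (1 : ZMod 2) • 1 + (1 : ZMod 2) • φ := by
    refine LinearMap.ext fun x => ext _ _ ?_
    rw [one_smul, one_smul]
    exact h3 _ x.toMul.2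
  let e : F ≃+* F4 := FiniteField.ringEquivOfCardEq (hF.trans card_F4.symm)
  let : Module F (Additive E) := Module.compHom _ ((QuadraticAlgebra.lift ⟨φ, hφ⟩).toRingHom.comp e.toRingHom)
  have hs : ∀ (z : F) (x : Additive E), z • x = (e z).re • x + (e z).im • w x := fun _ _ => rfl
  have hcomm : ∀ g x, L g (w x) = w (L g x) := fun g x => ext _ _ (hc g _ x.toMul.2).symm
  have hl : ∀ g (z : F) x, L g (z • x) = z • L g x := fun g z x => by
    rw [hs, hs, map_add, ZMod.map_smul, ZMod.map_smul, hcomm]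
  let c : G → Additive E := fun g => Additive.ofMul ⟨_, d1 g⟩
  have c2 : ∀ g h, c (g * h) = c g + L g (c h) := fun g h => ext _ _ (d2 g h)
  have L2 : ∀ g h x, L (g * h) x = L g (L h x) := fun g h x => ext _ _ (by rw [hL, hL, hL]; group)
  let ρ0 : G → Module.End F (Additive E × F) := fun g =>
    { toFun := fun v => (L g v.1 + v.2 • c g, v.2)
      map_add' := fun v v' => Prod.ext (by
        simp only [Prod.fst_add, Prod.snd_add, map_add, add_smul]; abel) rfl
      map_smul' := fun z v => Prod.ext (by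
        simp only [Prod.smul_fst, Prod.smul_snd, hl, smul_add, smul_eq_mul, mul_smul, RingHom.id_apply]) rfl }
  have hρ : ∀ g v, ρ0 g v = (L g v.1 + v.2 • c g, v.2) := fun _ _ => rfl
  let ρ : G →* Module.End F (Additive E × F) :=
    { toFun := ρ0
      map_one' := LinearMap.ext fun v => by
        rw [hρ, show c 1 = 0 from ext _ _ (d3 1 (one_mem E)), smul_zero, add_zero,
          show L 1 v.1 = v.1 from ext _ _ (by rw [hL]; group)]; rfl
      map_mul' := fun g h => LinearMap.ext fun v => by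
        rw [Module.End.mul_apply, hρ, hρ, hρ, c2, L2, map_add, hl, smul_add]
        exact Prod.ext (by simp only; abel) rfl }
  have : Module.Finite F (Additive E × F) := Module.Finite.of_finite
  have hr : Module.finrank F (Additive E × F) = 3 := by
    have := Module.natCard_eq_pow_finrank (K := F) (V := Additive E × F)
    rw [Nat.card_prod, Nat.card_congr Additive.toMul, h16, Nat.card_eq_fintype_card, hF] at this
    exact Nat.pow_right_injective (show 2 ≤ 4 by norm_num) this.symm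
  let b := Module.finBasisOfFinrankEq F _ hr
  let f0 : G →* Matrix (Fin 3) (Fin 3) F := (LinearMap.toMatrixAlgEquiv b).toMonoidHom.comp ρ
  refine ⟨(QuotientGroup.mk' _).comp f0.toHomUnits, (injective_iff_map_eq_one _).mpr fun g hg => ?_⟩
  obtain ⟨a, ha⟩ := Matrix.GeneralLinearGroup.mem_center_iff_val_mem_range_scalar.mp ((QuotientGroup.eq_one_iff _).mp hg)
  have h4 : ρ0 g = algebraMap F _ a := (LinearMap.toMatrixAlgEquiv b).injective (by
    rw [AlgEquiv.commutes]; exact ha.symm)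
  have h5 : ∀ v : Additive E × F, (L g v.1 + v.2 • c g, v.2) = a • v := fun v => by rw [← hρ, h4]; rfl
  have a1 : a = 1 := by simpa using (congrArg Prod.snd (h5 (0, 1))).symm
  have h6 : c g = 0 := by simpa using congrArg Prod.fst (h5 (0, 1))
  have h7 := hi g fun n hn => mul_inv_eq_iff_eq_mul.mp (by
    have := congrArg Prod.fst (h5 (Additive.ofMul ⟨n, hn⟩, 0))
    rw [a1, one_smul, zero_smul, add_zero] at this
    exact congrArg (fun x : Additive E => (x.toMul : G)) this)
  rw [← d3 g h7]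
  exact congrArg (fun x : Additive E => (x.toMul : G)) h6

end Cfsg.Agent.H2.L4
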