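import Cfsg.Agent.H2.L4b
import Cfsg.Agent.H2.L4c
import Cfsg.Agent.H7.GlaubAut

/-! Sylow `2`-subgroups of type `L₃(4)`: the case of a normal `E₁₆`. -/

set_option autoImplicit false
set_option linter.unusedSectionVars false

namespace Cfsg.Agent.H2.L4

open Subgroup Cfsg.Agent.FT Cfsg.Agent.L0 Cfsg.Agent.H8 Cfsg.Agent.WA.GS Cfsg.Agent.WA.GS.C7
open Cfsg.Agent.H7 (opp)
open Cfsg.Agent.H2.CI (cjm cjm' ea_comm ea_pgroup inv_eq card_orbit pgroup_sup mem_cj' cj_mem_cj)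

universe u

variable {G : Type u} [Group G] [Finite G] {Z E U S H K P W X Y : Subgroup G} {a b c e g k n s t u v w x y z : G}

/-- multiplication by a primitive third root of unity -/
structure Om (E : Subgroup G) (ω : G → G) : Prop where
  mem : ∀ x ∈ E, ω x ∈ E
  mul : ∀ x ∈ E, ∀ y ∈ E, ω (x * y) = ω x * ω y
  cub : ∀ x ∈ E, ω (ω x) = x * ω x

namespace Om

variable {ω : G → G} (o : Om E ω)
include o

theorem one : ω 1 = 1 := by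
  have := o.mul 1 (one_mem E) 1 (one_mem E)
  rw [mul_one] at this
  exact left_eq_mul.mp this

theorem ne_one (hx : x ∈ E) (h1 : x ≠ 1) : ω x ≠ 1 := fun e => h1 (by
  have := o.cub x hx
  rwa [e, o.one, mul_one, eq_comm] at this)

theorem ne_self (hx : x ∈ E) (h1 : x ≠ 1) : ω x ≠ x := fun e => h1 (by
  have := o.cub x hx
  rw [e, e] at this
  exact left_eq_mul.mp this)

theorem comm (h2 : ∀ e ∈ E, e * e = 1) (hn : ∀ g, g ∈ 𝐍(E)) (hS : Odd S.index)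
    (h1 : ∀ s ∈ S, ∀ x ∈ E, ω (s * x * s⁻¹) = s * ω x * s⁻¹)
    (h : ∀ g, ∀ y ∈ E, ω (g * y * g⁻¹) = g * ω y * g⁻¹ ∨ ∃ X ≤ E, #|X| = 4 ∧ y ∈ X ∧ (∀ x ∈ X, ω x ∈ X) ∧
      ∀ x ∈ cj g X, ω x ∈ cj g X) (g : G) : ∀ x ∈ E, ω (g * x * g⁻¹) = g * ω x * g⁻¹ := by
  let C : Subgroup G :=
    { carrier := {g | ∀ x ∈ E, ω (g * x * g⁻¹) = g * ω x * g⁻¹}
      one_mem' := fun x _ => by simp
      mul_mem' := fun {g k} hg hk x hx => by
        rw [show g * k * x * (g * k)⁻¹ = g * (k * x * k⁻¹) * g⁻¹ by group, hg _ (cjm (hn k) hx), hk x hx]; group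
      inv_mem' := fun {g} hg x hx => by
        have := hg _ (cjm (hn g⁻¹) hx)
        rw [show g * (g⁻¹ * x * g⁻¹⁻¹) * g⁻¹ = x by group] at this
        rw [this]; group }
  have key : ∀ g, g ∉ C → ∀ x ∈ E, ω (g * x * g⁻¹) = g * (x * ω x) * g⁻¹ := fun g hg => by
    let D : (G → G) → Subgroup G := fun f => closure {x | x ∈ E ∧ ω (g * x * g⁻¹) = g * f x * g⁻¹}
    have hD : ∀ f : G → G, f 1 = 1 → (∀ x ∈ E, ∀ y ∈ E, f (x * y) = f x * f y) → ∀ x ∈ D f,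
        x ∈ E ∧ ω (g * x * g⁻¹) = g * f x * g⁻¹ := fun f f1 fm x hx => by
      induction hx using closure_induction with
      | mem x hx => exact hx
      | one => exact ⟨one_mem E, by simp [o.one, f1]⟩
      | mul x y _ _ hx hy =>
        refine ⟨mul_mem hx.1 hy.1, ?_⟩
        rw [show g * (x * y) * g⁻¹ = g * x * g⁻¹ * (g * y * g⁻¹) by group,
          o.mul _ (cjm (hn g) hx.1) _ (cjm (hn g) hy.1), hx.2, hy.2, fm x hx.1 y hy.1]; group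
      | inv x _ hx => rwa [inv_eq (h2 x hx.1)]
    rcases le_or_le_of_forall (X := E) (H := D ω) (K := D fun x => x * ω x) (fun y hy => by
      by_cases y1 : y = 1
      · exact Or.inl (y1 ▸ one_mem _)
      rcases h g y hy with e | ⟨X, hX, h4, hy', i1, i2⟩
      · exact Or.inl (subset_closure ⟨hy, e⟩)
      have hXE : cj g X ≤ E := cj_le_of_mem_normalizer (hn g) hX
      rcases four ((card_cj g X).trans h4) (fun a ha => h2 a (hXE ha)) (conj_mem_cj g hy') (conj_mem_cj g (i1 y hy'))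
        (cj_ne y1) (cj_ne (o.ne_one hy y1)) (fun e => o.ne_self hy y1 (conj_injective e).symm)
        (i2 _ (conj_mem_cj g hy')) with e | e | e | e
      · exact absurd e (o.ne_one (cjm (hn g) hy) (cj_ne y1))
      · exact absurd e (o.ne_self (cjm (hn g) hy) (cj_ne y1))
      · exact Or.inl (subset_closure ⟨hy, e⟩)
      · exact Or.inr (subset_closure ⟨hy, by rw [e]; group⟩)) with e | e
    · exact absurd (fun x hx => (hD ω o.one o.mul x (e hx)).2) hg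
    · exact fun x hx => (hD _ (by rw [o.one, mul_one]) (fun x hx y hy => by
        rw [o.mul x hx y hy, mul_assoc, ← mul_assoc y, ea_comm h2 hy (o.mem x hx)]; group) x (e hx)).2
  by_contra hg
  have hC : C.index = 2 := index_eq_two_iff.mpr ⟨g, fun b => by
    by_cases hb : b ∈ C
    · exact Or.inr ⟨hb, fun h3 => hg (show g ∈ C by simpa using mul_mem (inv_mem hb) h3)⟩
    · refine Or.inl ⟨fun x hx => ?_, hb⟩
      rw [show b * g * x * (b * g)⁻¹ = b * (g * x * g⁻¹) * b⁻¹ by group, key b hb _ (cjm (hn g) hx), key g hg x hx,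
        show g * x * g⁻¹ * (g * (x * ω x) * g⁻¹) = g * (x * x * ω x) * g⁻¹ by group, h2 x hx]; group⟩
  have := index_dvd_of_le (show S ≤ C from h1)
  rw [hC] at this
  exact (Nat.not_even_iff_odd.mpr hS) (even_iff_two_dvd.mpr this)

end Om

namespace Ty

variable (p : Ty Z E U S)
include p

theorem phi_mem (hu : u ∈ U) (hx : x ∈ E) : u * x * u⁻¹ * x⁻¹ ∈ Z := p.cm (p.leU hu) (p.leE hx)

theorem phi_mul (hu : u ∈ U) (hx : x ∈ E) (hy : y ∈ E) :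
    u * (x * y) * u⁻¹ * (x * y)⁻¹ = u * x * u⁻¹ * x⁻¹ * (u * y * u⁻¹ * y⁻¹) := by
  rw [show u * (x * y) * u⁻¹ * (x * y)⁻¹ = u * x * u⁻¹ * (u * y * u⁻¹ * y⁻¹ * x⁻¹) by group,
    p.comm (p.ZE (p.phi_mem hu hy)) (inv_mem hx)]; group

theorem phi_mul' (hu : u ∈ U) (hv : v ∈ U) (hx : x ∈ E) :
    u * v * x * (u * v)⁻¹ * x⁻¹ = u * x * u⁻¹ * x⁻¹ * (v * x * v⁻¹ * x⁻¹) := by
  rw [show u * v * x * (u * v)⁻¹ * x⁻¹ = u * (v * x * v⁻¹ * x⁻¹) * x * u⁻¹ * x⁻¹ by group,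
    cA (p.cent (p.leU hu)) (p.phi_mem hv hx), cA (p.centE (p.ZE (p.phi_mem hu hx))) (p.phi_mem hv hx)]
  group

theorem phi_eq_one (hu : u ∈ U) (hx : x ∈ E) : u * x * u⁻¹ * x⁻¹ = 1 ↔ x ∈ Z ∨ u ∈ Z := by
  rw [mul_inv_eq_one, mul_inv_eq_iff_eq_mul]
  exact ⟨fun h => p.ce0 x hx u hu h.symm, fun h => h.elim (fun h => cA (p.cent (p.leU hu)) h)
    fun h => (cA (p.centE hx) h).symm⟩

theorem phi_Z (hu : u ∈ U) (hx : x ∈ E) (hz : z ∈ Z) : u * (z * x) * u⁻¹ * (z * x)⁻¹ = u * x * u⁻¹ * x⁻¹ := by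
  rw [p.phi_mul hu (p.ZE hz) hx, (p.phi_eq_one hu (p.ZE hz)).mpr (Or.inl hz), one_mul]

variable (d : IsDp Z W E)
include d

theorem WE : W ≤ E := d.sup ▸ le_sup_right
theorem W1 (hz : x ∈ Z) (hw : x ∈ W) : x = 1 := mem_bot.mp (d.inf ▸ ⟨hz, hw⟩)
theorem Wdec (hx : x ∈ E) : ∃ z ∈ Z, ∃ w ∈ W, z * w = x :=
  (mem_sup_of_le_normalizer (d.cent.trans (centralizer_le_normalizer _))).mp (d.sup ▸ hx)
theorem cW : #|W| = 4 := by
  have := card_sup_mul_card_inf_of_le_normalizer (d.cent.trans (centralizer_le_normalizer _))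
  rw [sup_comm, inf_comm, d.sup, d.inf, card_bot, p.cE, p.cZ] at this
  omega

theorem phi_onto (hu : u ∈ U) (hu' : u ∉ Z) (hz : z ∈ Z) : ∃ w ∈ W, u * w * u⁻¹ * w⁻¹ = z := by
  obtain ⟨e, he, e1⟩ := p.symm.act hu hu' hz
  obtain ⟨a, ha, w, hw, rfl⟩ := p.Wdec d he
  refine ⟨w, hw, ?_⟩
  rw [← p.phi_Z hu (p.WE d hw) ha, show u * (a * w) * u⁻¹ * (a * w)⁻¹ = u * (a * w * u * (a * w)⁻¹)⁻¹ by group, e1,
    ← cA (p.cent (p.leU hu)) hz, mul_inv_rev, inv_eq (p.sZ z hz), ← mul_assoc, cjA (p.cent (p.leU hu)) hz]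

theorem phi_inj (hu : u ∈ U) (hu' : u ∉ Z) (hx : x ∈ W) (hy : y ∈ W) (e : u * x * u⁻¹ * x⁻¹ = u * y * u⁻¹ * y⁻¹) :
    x = y := by
  have h1 := p.phi_mul hu (p.WE d hx) (p.WE d hy)
  rw [e, p.sZ _ (p.phi_mem hu (p.WE d hy)), p.phi_eq_one hu (p.WE d (mul_mem hx hy))] at h1
  rw [← inv_eq (p.sE y (p.WE d hy))]
  exact eq_inv_of_mul_eq_one_left (p.W1 d (h1.resolve_right hu') (mul_mem hx hy))

theorem omega : ∃ ω, Om E ω ∧ (∀ x ∈ Z, ω x ∈ Z) ∧ (∀ x ∈ W, ω x ∈ W) ∧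
    ∀ u ∈ U, ∀ x ∈ E, ω (u * x * u⁻¹) = u * ω x * u⁻¹ := by
  obtain ⟨u, hu, v, hv, nu, nv, nuv⟩ := p.symm.exists_two
  have WE := p.WE d
  have h1 : ∀ x, ∃ y, x ∈ E → y ∈ W ∧ u * y * u⁻¹ * y⁻¹ = v * x * v⁻¹ * x⁻¹ := fun x => by
    by_cases hx : x ∈ E
    · obtain ⟨y, hy⟩ := p.phi_onto d hu nu (p.phi_mem hv hx)
      exact ⟨y, fun _ => hy⟩
    · exact ⟨1, fun h => absurd h hx⟩
  have h2 : ∀ x, ∃ y, x ∈ E → y ∈ W ∧ u * y * u⁻¹ * y⁻¹ * x ∈ W := fun x => by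
    by_cases hx : x ∈ E
    · obtain ⟨z, hz, w, hw, rfl⟩ := p.Wdec d hx
      obtain ⟨y, hy, e⟩ := p.phi_onto d hu nu hz
      exact ⟨y, fun _ => ⟨hy, by rwa [e, ← mul_assoc, p.sZ z hz, one_mul]⟩⟩
    · exact ⟨1, fun h => absurd h hx⟩
  choose σ hσ using h1
  choose τ hτ using h2
  have τu : ∀ x ∈ E, ∀ y ∈ W, u * y * u⁻¹ * y⁻¹ * x ∈ W → τ x = y := fun x hx y hy h => by
    have h3 := mul_mem (hτ x hx).2 (inv_mem h)
    rw [show u * τ x * u⁻¹ * (τ x)⁻¹ * x * (u * y * u⁻¹ * y⁻¹ * x)⁻¹ =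
      u * τ x * u⁻¹ * (τ x)⁻¹ * (u * y * u⁻¹ * y⁻¹)⁻¹ by group] at h3
    exact p.phi_inj d hu nu (hτ x hx).1 hy (mul_inv_eq_one.mp (p.W1 d
      (mul_mem (p.phi_mem hu (WE (hτ x hx).1)) (inv_mem (p.phi_mem hu (WE hy)))) h3))
  have σm : ∀ x ∈ E, ∀ y ∈ E, σ (x * y) = σ x * σ y := fun x hx y hy =>
    p.phi_inj d hu nu (hσ _ (mul_mem hx hy)).1 (mul_mem (hσ x hx).1 (hσ y hy).1) (by
      rw [(hσ _ (mul_mem hx hy)).2, p.phi_mul hv hx hy, p.phi_mul hu (WE (hσ x hx).1) (WE (hσ y hy).1), (hσ x hx).2,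
        (hσ y hy).2])
  have τm : ∀ x ∈ E, ∀ y ∈ E, τ (x * y) = τ x * τ y := fun x hx y hy =>
    τu _ (mul_mem hx hy) _ (mul_mem (hτ x hx).1 (hτ y hy).1) (by
      have := mul_mem (hτ x hx).2 (hτ y hy).2
      rw [mul_assoc, ← mul_assoc x, cA (p.centE hx) (p.phi_mem hu (WE (hτ y hy).1))] at this
      rw [p.phi_mul hu (WE (hτ x hx).1) (WE (hτ y hy).1)]
      simpa only [mul_assoc] using this)
  have σZ : ∀ z ∈ Z, σ z = 1 := fun z hz => p.phi_inj d hu nu (hσ z (p.ZE hz)).1 (one_mem W) (by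
    rw [(hσ z (p.ZE hz)).2, (p.phi_eq_one hv (p.ZE hz)).mpr (Or.inl hz)]; group)
  have τW : ∀ w ∈ W, τ w = 1 := fun w hw => τu w (WE hw) 1 (one_mem W) (by simpa using hw)
  set ω : G → G := fun x => v * τ x * v⁻¹ * (τ x)⁻¹ * σ x with hω
  have ωZ : ∀ x ∈ Z, ω x ∈ Z := fun x hx => by
    simp only [hω, σZ x hx, mul_one]; exact p.phi_mem hv (WE (hτ x (p.ZE hx)).1)
  have ωW : ∀ x ∈ W, ω x = σ x := fun x hx => by simp [hω, τW x hx]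
  have ωE : ∀ x ∈ E, ω x ∈ E := fun x hx => mul_mem (p.ZE (p.phi_mem hv (WE (hτ x hx).1))) (WE (hσ x hx).1)
  have ωm : ∀ x ∈ E, ∀ y ∈ E, ω (x * y) = ω x * ω y := fun x hx y hy => by
    simp only [hω]
    rw [σm x hx y hy, τm x hx y hy, p.phi_mul hv (WE (hτ x hx).1) (WE (hτ y hy).1), mul_assoc _ (σ x),
      ← mul_assoc (σ x), cA (p.centE (WE (hσ x hx).1)) (p.phi_mem hv (WE (hτ y hy).1))]
    group
  have ωφ : ∀ t ∈ U, ∀ x ∈ E, t * ω x * t⁻¹ * (ω x)⁻¹ = t * σ x * t⁻¹ * (σ x)⁻¹ := fun t ht x hx =>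
    p.phi_Z ht (WE (hσ x hx).1) (p.phi_mem hv (WE (hτ x hx).1))
  have cu : ∀ x ∈ E, ω (u * x * u⁻¹ * x⁻¹) = v * x * v⁻¹ * x⁻¹ := fun x hx => by
    obtain ⟨z, hz, w, hw, rfl⟩ := p.Wdec d hx
    rw [p.phi_Z hu (WE hw) hz, p.phi_Z hv (WE hw) hz]
    have := p.phi_mem hu (WE hw)
    simp only [hω]
    rw [σZ _ this, mul_one, τu _ (p.ZE this) w hw (by rw [p.sZ _ this]; exact one_mem W)]
  have cv : ∀ x ∈ E, ω (v * x * v⁻¹ * x⁻¹) = v * σ x * v⁻¹ * (σ x)⁻¹ := fun x hx => by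
    rw [← (hσ x hx).2, cu _ (WE (hσ x hx).1)]
  have ω1 : ω 1 = 1 := by rw [ωW 1 (one_mem W), σZ 1 (one_mem Z)]
  have cφ : ∀ t ∈ U, ∀ x ∈ E, ω (t * x * t⁻¹ * x⁻¹) = t * σ x * t⁻¹ * (σ x)⁻¹ := fun t ht x hx => by
    have k0 : ∀ s ∈ U, t * s ∈ Z → ∀ y ∈ E, t * y * t⁻¹ * y⁻¹ = s * y * s⁻¹ * y⁻¹ := fun s hs h y hy => by
      have := p.phi_mul' ht hs hy
      rw [(p.phi_eq_one (mul_mem ht hs) hy).mpr (Or.inr h)] at this
      rw [← inv_eq (p.sZ _ (p.phi_mem hs hy))]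
      exact eq_inv_of_mul_eq_one_left this.symm
    have sx := WE (hσ x hx).1
    rcases p.symm.quot hu hv nu nv nuv ht with h | h | h | h
    · rw [(p.phi_eq_one ht hx).mpr (Or.inr h), (p.phi_eq_one ht sx).mpr (Or.inr h), ω1]
    · rw [k0 u hu h x hx, k0 u hu h _ sx, cu x hx, (hσ x hx).2]
    · rw [k0 v hv h x hx, k0 v hv h _ sx, cv x hx]
    · rw [k0 _ (mul_mem hu hv) h x hx, k0 _ (mul_mem hu hv) h _ sx, p.phi_mul' hu hv hx, p.phi_mul' hu hv sx,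
        ωm _ (p.ZE (p.phi_mem hu hx)) _ (p.ZE (p.phi_mem hv hx)), cu x hx, cv x hx, (hσ x hx).2]
  have σ3 : ∀ w ∈ W, σ (σ w) = w * σ w := fun w hw => by
    have n1 : ∀ w ∈ W, σ w = 1 → w = 1 := fun w hw e => p.W1 d (((p.phi_eq_one hv (WE hw)).mp (by
      rw [← (hσ w (WE hw)).2, e]; group)).resolve_right nv) hw
    have n2 : ∀ w ∈ W, σ w = w → w = 1 := fun w hw e => p.W1 d (((p.phi_eq_one (mul_mem hu hv) (WE hw)).mp (by
      rw [p.phi_mul' hu hv (WE hw), ← (hσ w (WE hw)).2, e, p.sZ _ (p.phi_mem hu (WE hw))])).resolve_right nuv) hw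
    by_cases w1 : w = 1
    · rw [w1, σZ 1 (one_mem Z), σZ 1 (one_mem Z), mul_one]
    have s1 := (hσ w (WE hw)).1
    rcases four (p.cW d) (fun a ha => p.sE a (WE ha)) hw s1 w1 (fun e => w1 (n1 w hw e))
      (fun e => w1 (n2 w hw e.symm)) (hσ _ (WE s1)).1 with e | e | e | e
    · exact absurd (n1 w hw (n1 _ s1 e)) w1
    · have := n2 _ (mul_mem hw s1) (by rw [σm w (WE hw) _ (WE s1), e, p.comm (WE s1) (WE hw)])
      exact absurd (n2 w hw ((eq_inv_of_mul_eq_one_right this).trans (inv_eq (p.sE w (WE hw))))) w1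
    · exact absurd (n1 w hw (n2 _ s1 e)) w1
    · exact e
  refine ⟨ω, ⟨ωE, ωm, fun x hx => ?_⟩, ωZ, fun x hx => ωW x hx ▸ (hσ x (WE hx)).1, fun t ht x hx => ?_⟩
  · obtain ⟨z, hz, w, hw, rfl⟩ := p.Wdec d hx
    obtain ⟨y, hy, rfl⟩ := p.phi_onto d hu nu hz
    have s1 := (hσ w (WE hw)).1
    have s2 := (hσ y (WE hy)).1
    rw [ωm _ (p.ZE hz) w (WE hw), ωm _ (ωE _ (p.ZE hz)) _ (ωE w (WE hw)), ωW w hw, ωW _ s1, σ3 w hw,
      cφ u hu y (WE hy), cφ u hu _ (WE s2), σ3 y hy, p.phi_mul hu (WE hy) (WE s2), mul_assoc _ w, ← mul_assoc w,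
      cA (p.centE (WE hw)) (p.phi_mem hu (WE s2))]
    group
  · rw [show t * x * t⁻¹ = t * x * t⁻¹ * x⁻¹ * x by group, ωm _ (p.ZE (p.phi_mem ht hx)) x hx, cφ t ht x hx,
      ← ωφ t ht x hx]
    group

theorem mem_cj_W (hy : y ∈ E) (hy' : y ∉ Z) : ∃ u ∈ U, y ∈ H8.cj u W := by
  obtain ⟨z, hz, w, hw, rfl⟩ := p.Wdec d hy
  obtain ⟨u, hu, e⟩ := p.act (p.WE d hw) (fun h => hy' (mul_mem hz h)) hz
  exact ⟨u, hu, e ▸ conj_mem_cj u hw⟩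

end Ty

namespace Ty

variable (p : Ty Z E U S)
include p

theorem cent_E (hS : IsSylowIn 2 S H) (hO : opp 2 H = ⊥) (hn : H ≤ 𝐍(E)) (hc : 𝐂(E) ≤ H) : 𝐂(E) ≤ E := by
  have h1 : IsSylowIn 2 E 𝐂(E) := ⟨fun x hx => mem_centralizer_iff.mpr fun y hy => p.comm hy hx, p.pgE,
    fun Q hQ hp hle => le_antisymm (fun y hy => p.two_E hS (hp.to_le (zpowers_le.mpr hy)) (hc (hQ hy)) (hQ hy)) hle⟩
  have h2 := H7.le_sup_opp_of_central_sylow h1 le_rfl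
  have h3 : opp 2 𝐂(E) ≤ opp 2 H := H7.opp_mono_of_sn (H7.SN.of_normalizer hc fun g hg =>
    cj_eq_self_iff.mp (by rw [cj_centralizer, cj_eq_self (hn hg)]))
  rw [hO, le_bot_iff] at h3
  rwa [h3, sup_bot_eq] at h2

theorem exists_om (hS : IsSylowIn 2 S ⊤) (hO : pPrimeCore 2 G = ⊥) (hn : ∀ g, g ∈ 𝐍(E)) :
    ∃ ω, Om E ω ∧ ∀ g, ∀ x ∈ E, ω (g * x * g⁻¹) = g * ω x * g⁻¹ := by
  have ho : Odd S.index := by rw [← relIndex_top_right]; exact Dich.odd_iff.mpr hS.not_dvd_relIndex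
  have key : ∀ W, IsDp Z W E → (∀ g y, y ∈ E → (∃ s ∈ S, ∃ k, g = s * k ∧ ∃ X ≤ E, #|X| = 4 ∧ y ∈ X ∧
      (X = Z ∨ ∃ u ∈ U, X = H8.cj u W) ∧ (H8.cj k X = Z ∨ ∃ u ∈ U, H8.cj k X = H8.cj u W))) →
      ∃ ω, Om E ω ∧ ∀ g, ∀ x ∈ E, ω (g * x * g⁻¹) = g * ω x * g⁻¹ := fun W d h => by
    obtain ⟨ω, o, h1, h2, h3⟩ := p.omega d
    have h4 : ∀ s ∈ S, ∀ x ∈ E, ω (s * x * s⁻¹) = s * ω x * s⁻¹ := fun s hs x hx => by
      obtain ⟨e, he, u, hu, rfl⟩ := p.dec hs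
      have k : ∀ y ∈ E, e * u * y * (e * u)⁻¹ = u * y * u⁻¹ := fun y hy => by
        rw [show e * u * y * (e * u)⁻¹ = e * (u * y * u⁻¹) * e⁻¹ by group, p.comm he (cjm (hn u) hy)]; group
      rw [k x hx, k _ (o.mem x hx), h3 u hu x hx]
    have h5 : ∀ s ∈ S, ∀ X ≤ E, (∀ x ∈ X, ω x ∈ X) → ∀ x ∈ H8.cj s X, ω x ∈ H8.cj s X := fun s hs X hX h x hx => by
      obtain ⟨y, hy, rfl⟩ := mem_cj' hx
      rw [h4 s hs y (hX hy)]; exact conj_mem_cj s (h y hy)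
    have h6 : ∀ X, (X = Z ∨ ∃ u ∈ U, X = H8.cj u W) → ∀ x ∈ X, ω x ∈ X := by
      rintro X (rfl | ⟨u, hu, rfl⟩)
      · exact h1
      · exact h5 u (p.leU hu) W (p.WE d) h2
    refine ⟨ω, o, o.comm p.sE hn ho h4 fun g y hy => Or.inr ?_⟩
    obtain ⟨s, hs, k, rfl, X, hX, c4, hyX, a1, a2⟩ := h g y hy
    exact ⟨X, hX, c4, hyX, h6 X a1, by
      rw [cj_mul]; exact h5 s hs _ (cj_le_of_mem_normalizer (hn k) hX) (h6 _ a2)⟩
  by_cases hZ : 𝐍(E) ≤ 𝐍(Z)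
  · have nU := p.symm.normal hS hO hZ
    obtain ⟨B, -, b1, b2, b3⟩ := exists_complement_in (N := S) (L := ⊤) le_top (fun g _ => p.nS_of (hn g) (nU g))
      (by rw [p.card]; exact (Nat.coprime_two_left.mpr (Dich.odd_iff.mpr hS.not_dvd_relIndex)).pow_left 6)
    obtain ⟨W, d, hW⟩ := Maschke_abelem (A := B) (elem_of_sq p.sE) (b3 ▸ hS.not_dvd_relIndex) p.ZE
      (fun g _ => hn g) fun g _ => hZ (hn g)
    refine key W d fun g y hy => ?_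
    obtain ⟨s, hs, k, hk, rfl⟩ := (mem_sup_of_le_normalizer (N := S) (H := B)
      fun g _ => p.nS_of (hn g) (nU g)).mp (b1 ▸ mem_top g)
    refine ⟨s, hs, k, rfl, ?_⟩
    by_cases hy' : y ∈ Z
    · exact ⟨Z, p.ZE, p.cZ, hy', Or.inl rfl, Or.inl (cj_eq_self (hZ (hn k)))⟩
    · obtain ⟨u, hu, h⟩ := p.mem_cj_W d hy hy'
      refine ⟨_, cj_le_of_mem_normalizer (hn u) (p.WE d), (card_cj _ _).trans (p.cW d), h, Or.inr ⟨u, hu, rfl⟩,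
        Or.inr ⟨k * u * k⁻¹, cjm (nU k) hu, ?_⟩⟩
      rw [cj_mul, cj_mul, cj_eq_self (inv_mem (hW hk))]
  · obtain ⟨n, -, hn'⟩ := SetLike.not_le_iff_exists.mp hZ
    have m : ∀ g, g ∈ ⊤ ⊓ 𝐍(E) := fun g => ⟨mem_top g, hn g⟩
    have cE : ∀ g, H8.cj g Z ≤ E := fun g => cj_le_of_mem_normalizer (hn g) p.ZE
    have d : IsDp Z (H8.cj n Z) E := ⟨p.sup_cj hS (m n) hn', (cE n).trans p.centE,
      eq_bot_iff.mpr fun x hx => p.disj hS (m n) hn' hx.1 hx.2⟩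
    have all : ∀ g, H8.cj g Z = Z ∨ ∃ u ∈ U, H8.cj g Z = H8.cj u (H8.cj n Z) := fun g => by
      by_cases hg : H8.cj g Z ≤ Z
      · exact Or.inl (eq_of_le_of_card_ge hg (card_cj g Z).ge)
      obtain ⟨x, hx, hx'⟩ := SetLike.not_le_iff_exists.mp hg
      obtain ⟨u, hu, h⟩ := p.mem_cj_W d (cE g hx) hx'
      refine Or.inr ⟨u, hu, ?_⟩
      have := p.ti hS (m (g⁻¹ * (u * n))) (mem_cj.mp hx) (fun e => hx' (by
        rw [show x = g * (g⁻¹ * x * g) * g⁻¹ by group, e]; simpa using one_mem Z)) (by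
          rw [cj_mul, cj_mul, mem_cj]; simpa [mul_assoc] using h)
      rw [← cj_mul, ← mul_inv_cancel_left g (u * n), cj_mul, cj_eq_self this]
    refine key _ d fun g y hy => ⟨1, one_mem S, g, (one_mul g).symm, ?_⟩
    by_cases hy' : y ∈ Z
    · exact ⟨Z, p.ZE, p.cZ, hy', Or.inl rfl, all g⟩
    · obtain ⟨u, hu, h⟩ := p.mem_cj_W d hy hy'
      exact ⟨_, cj_le_of_mem_normalizer (hn u) (cE n), by rw [card_cj, card_cj, p.cZ], h, Or.inr ⟨u, hu, rfl⟩,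
        by rw [← cj_mul, ← cj_mul]; exact all _⟩

theorem case1 (hS : IsSylowIn 2 S ⊤) (hO : pPrimeCore 2 G = ⊥) (hn : ∀ g, g ∈ 𝐍(E)) {F : Type*} [Field F] [Fintype F]
    (hF : Fintype.card F = 4) : ∃ f : G →* GL (Fin 3) F ⧸ center (GL (Fin 3) F), Function.Injective f := by
  haveI : E.Normal := ⟨fun x hx g => cjm (hn g) hx⟩
  obtain ⟨ω, o, h⟩ := p.exists_om hS hO hn
  obtain ⟨W, d, -⟩ := Maschke_abelem (A := ⊥) (elem_of_sq p.sU) (by rw [card_bot]; norm_num) p.ZU bot_le bot_le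
  obtain ⟨δ, d1, d2, d3⟩ := exists_cocycle (S := S) (W := W) p.sE p.leE
    (by rw [← relIndex_top_right]; exact Dich.odd_iff.mpr hS.not_dvd_relIndex)
    (fun x hx hx' => p.symm.W1 d (p.memZ hx' (p.symm.WE d hx)) hx) fun s hs => by
      obtain ⟨e, he, u, hu, rfl⟩ := p.dec hs
      obtain ⟨z, hz, w, hw, rfl⟩ := p.symm.Wdec d hu
      exact ⟨e * z, mul_mem he (p.ZE hz), by simpa [mul_assoc] using hw⟩
  exact affine p.sE p.cE o.mem o.mul o.cub h d1 d2 d3 (fun g hg => p.cent_E hS (H7.opp_top.trans hO) (fun g _ => hn g)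
    le_top (mem_centralizer_iff.mpr fun n hn => (hg n hn).symm)) hF

end Ty

end Cfsg.Agent.H2.L4
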