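import Cfsg.Agent.H2.L4d
import Cfsg.Agent.H2.CIT7
import Cfsg.Agent.WA.TeB1

/-! Sylow `2`-subgroups of type `L₃(4)`: the projective plane. -/

set_option autoImplicit false
set_option linter.unusedSectionVars false

namespace Cfsg.Agent.H2.L4

open Subgroup Cfsg.Agent.FT Cfsg.Agent.L0 Cfsg.Agent.H8 Cfsg.Agent.WA.GS Cfsg.Agent.WA.GS.C7
open Cfsg.Agent.H7 (opp)
open Cfsg.Agent.H2.CI (cjm cjm' ea_comm ea_pgroup inv_eq mem_cj' cj_mem_cj Pt Fl)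

universe u

variable {G : Type u} [Group G] [Finite G] {Z E U S P X X' Y Y' : Subgroup G} {a b c d e g k n s t u v w x y z : G}

theorem odd_mem {d : G} (ho : Odd (orderOf d)) (h : d * d ∈ X) : d ∈ X :=
  mem_of_odd ho (by rw [pow_orderOf_eq_one]; exact one_mem X) h

theorem inv_pow_odd (h : n * d * n⁻¹ = d⁻¹) {m : ℕ} (hm : Odd m) : n ^ m * d * (n ^ m)⁻¹ = d⁻¹ := by
  obtain ⟨j, rfl⟩ := hm
  induction j with
  | zero => simpa using h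
  | succ j ih =>
    have h2 : n * d⁻¹ * n⁻¹ = d := by rw [show n * d⁻¹ * n⁻¹ = (n * d * n⁻¹)⁻¹ by group, h, inv_inv]
    calc _ = n * (n * (n ^ (2 * j + 1) * d * (n ^ (2 * j + 1))⁻¹) * n⁻¹) * n⁻¹ := by group
      _ = _ := by rw [ih, h2, h]

theorem four_cent (h4 : #|X| = 4) (h2 : ∀ a ∈ X, a * a = 1) (hn : d ∈ 𝐍(X)) (ho : Odd (orderOf d)) (hz : z ∈ X)
    (h1 : z ≠ 1) (hd : d * z = z * d) : d ∈ 𝐂(X) := by
  refine odd_mem ho (mem_centralizer_iff.mpr fun a ha => (mul_inv_eq_iff_eq_mul.mp ?_).symm)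
  have e0 : d * z * d⁻¹ = z := mul_inv_eq_iff_eq_mul.mpr hd
  rw [show d * d * a * (d * d)⁻¹ = d * (d * a * d⁻¹) * d⁻¹ by group]
  by_cases a1 : a = 1
  · rw [a1]; group
  by_cases az : z = a
  · rw [← az, e0, e0]
  rcases four h4 h2 hz ha h1 a1 az (cjm hn ha) with e | e | e | e
  · exact absurd e (cj_ne a1)
  · exact absurd (conj_injective (e0.trans e.symm)) az
  · rw [e, e]
  · rw [e, show d * (z * a) * d⁻¹ = d * z * d⁻¹ * (d * a * d⁻¹) by group, e0, e, ← mul_assoc, h2 z hz, one_mul]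

theorem tri (h4 : #|X| = 4) (h2 : ∀ a ∈ X, a * a = 1) (hn : x ∈ 𝐍(X)) (ho : Odd (orderOf x))
    (hf : ∀ a ∈ X, x * a = a * x → a = 1) (ha : a ∈ X) : x * (x * a * x⁻¹) * x⁻¹ = a * (x * a * x⁻¹) := by
  by_cases a1 : a = 1
  · rw [a1]; group
  have n1 : a ≠ x * a * x⁻¹ := fun e => a1 (hf a ha (mul_inv_eq_iff_eq_mul.mp e.symm))
  rcases four h4 h2 ha (cjm hn ha) a1 (cj_ne a1) n1 (cjm hn (cjm hn ha)) with e | e | e | e
  · exact absurd e (cj_ne (cj_ne a1))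
  · refine absurd (hf a ha (cz.mp (odd_mem ho (cz.mpr (mul_inv_eq_iff_eq_mul.mp ?_))))) a1
    exact (by group : _ = x * (x * a * x⁻¹) * x⁻¹).trans e
  · exact absurd (conj_injective e).symm n1
  · exact e

/-- conjugation of subgroups -/
@[reducible] def cjAct (G : Type u) [Group G] : MulAction G (Subgroup G) where
  smul := cj
  one_smul := cj_one
  mul_smul := cj_mul

/-- one class of involutions -/
structure T2 (Z E U S : Subgroup G) : Prop where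
  p : Ty Z E U S
  hS : IsSylowIn 2 S ⊤
  hO : pPrimeCore 2 G = ⊥
  hE : ¬ 𝐍(E) ≤ 𝐍(Z)
  hU : ¬ 𝐍(U) ≤ 𝐍(Z)

namespace T2

variable (h : T2 Z E U S)
include h

theorem symm : T2 Z U E S := ⟨h.p.symm, h.hS, h.hO, h.hU, h.hE⟩

theorem cj (g : G) : T2 (cj g Z) (cj g E) (cj g U) (cj g S) :=
  ⟨h.p.cj g, syl_cj h.hS (mem_top g), h.hO, by rw [← cj_normalizer, ← cj_normalizer, cj_le_cj_iff]; exact h.hE,
    by rw [← cj_normalizer, ← cj_normalizer, cj_le_cj_iff]; exact h.hU⟩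

theorem cle (hz : z ∈ Z) (h1 : z ≠ 1) : 𝐂[z] ≤ 𝐍(E) := h.p.cent_le h.hS h.hO h.hE h.hU hz h1

theorem cE : 𝐂(E) ≤ E := by
  obtain ⟨z, hz, h1⟩ := h.p.exists_z
  exact h.p.cent_E (h.p.sylC h.hS hz) (h.p.core_bot h.hS h.hO h.hE h.hU hz h1) (h.cle hz h1)
    fun g hg => cz.mpr (cA hg (h.p.ZE hz))

theorem eq_of_le (hX : Pt E X) (hle : X ≤ H8.cj k S) : X = H8.cj k E := by
  obtain ⟨g, rfl⟩ := hX
  have h1 : H8.cj (k⁻¹ * g) E ≤ S := by rw [cj_mul, cj_le_iff, inv_inv]; exact hle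
  conv_rhs => rw [← cj_eq_self (h.p.wc h.hS (mem_top _) h1), ← cj_mul, mul_inv_cancel_left]

theorem pt_ea (hX : Pt E X) : ∀ v ∈ X, v * v = 1 := by obtain ⟨g, rfl⟩ := hX; exact sq_cj h.p.sE g

theorem pt_card (hX : Pt E X) : #|X| = 16 := by obtain ⟨g, rfl⟩ := hX; rw [card_cj, h.p.cE]

theorem syl_N (hX : Pt E X) (hP : IsPGroup 2 P) (hle : P ≤ 𝐍(X)) : ∃ g, X = H8.cj g E ∧ P ≤ H8.cj g S := by
  obtain ⟨g, rfl⟩ := hX
  obtain ⟨k, hk, e⟩ := cj_le_syl ((h.cj g).p.sylE (h.cj g).hS) hP (le_inf le_top hle)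
  exact ⟨k⁻¹ * g, by rw [cj_mul, cj_eq_self (inv_mem hk.2)], by rw [cj_mul, ← cj_le_iff]; exact e⟩

theorem pt_N (hX : Pt E X) (hX' : Pt E X') (hle : X ≤ 𝐍(X')) : X = X' := by
  obtain ⟨g, rfl, h1⟩ := h.syl_N hX' (ea_pgroup (h.pt_ea hX)) hle
  exact h.eq_of_le hX h1

theorem exists_U (hX : Pt E X) (hu : u ∈ X) (h1 : u ≠ 1) : ∃ g, X = H8.cj g E ∧ u ∈ H8.cj g Z := by
  obtain ⟨g, rfl⟩ := hX
  have q := h.cj g
  obtain ⟨v, hv, h2⟩ := q.p.exists_z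
  obtain ⟨n, hn, hn'⟩ := SetLike.not_le_iff_exists.mp q.hE
  obtain ⟨k, hk, rfl⟩ := q.p.trans q.hS ⟨mem_top n, hn⟩ hn' (q.p.ZE hv) h2 hu h1
  exact ⟨k * g, by rw [cj_mul, cj_eq_self hk.2], by rw [cj_mul]; exact conj_mem_cj k hv⟩

theorem pt_cent (hX : Pt E X) (hu : u ∈ X) (h1 : u ≠ 1) : 𝐂[u] ≤ 𝐍(X) := by
  obtain ⟨g, rfl, e⟩ := h.exists_U hX hu h1
  exact (h.cj g).cle e h1

theorem pt_ti (hX : Pt E X) (hX' : Pt E X') (hu : u ∈ X) (hu' : u ∈ X') (h1 : u ≠ 1) : X = X' :=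
  h.pt_N hX hX' fun _ hx => h.pt_cent hX' hu' h1 (cz.mpr (ea_comm (h.pt_ea hX) hx hu))

theorem fl_of (hX : Pt E X) (hY : Pt U Y) (hu : u ∈ X) (hu' : u ∈ Y) (h1 : u ≠ 1) : Fl E U X Y := by
  obtain ⟨g, rfl, e⟩ := h.exists_U hX hu h1
  exact ⟨g, rfl, h.symm.pt_ti hY ⟨g, rfl⟩ hu' ((h.cj g).p.ZU e) h1⟩

theorem inv_N (hX : Pt E X) (hu : u ∈ 𝐍(X)) (h2 : u * u = 1) (h1 : u ≠ 1) : ∃ Y, Fl E U X Y ∧ u ∈ Y := by
  obtain ⟨g, rfl, h3⟩ := h.syl_N hX (pg_zp h2) (zpowers_le.2 hu)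
  rcases (h.cj g).p.inv (h3 (mem_zpowers u)) h2 with h4 | h4
  · obtain ⟨k, e, h5⟩ := h.exists_U hX h4 h1
    exact ⟨_, ⟨k, e, rfl⟩, (h.cj k).p.ZU h5⟩
  · exact ⟨_, ⟨g, rfl, rfl⟩, h4⟩

theorem fl_N (hf : Fl E U X Y) : Y ≤ 𝐍(X) ∧ #|(X ⊓ Y : Subgroup G)| = 4 := by
  obtain ⟨g, rfl, rfl⟩ := hf
  exact ⟨(h.cj g).p.leU.trans (h.cj g).p.nE, by rw [(h.cj g).p.inf, (h.cj g).p.cZ]⟩

theorem uniq (h1 : Fl E U X Y) (h2 : Fl E U X' Y) (h3 : Fl E U X Y') (h4 : Fl E U X' Y') (hne : X ≠ X') : Y = Y' := by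
  by_contra hn
  refine hne (h.pt_N h1.pt h2.pt ?_)
  have e : (X ⊓ Y) ⊔ (X ⊓ Y') = X := by
    refine eq_of_le_of_card_ge (sup_le inf_le_left inf_le_left) ?_
    have := H9.card_mul_card_le_of_disjoint (A := X ⊓ Y) (B := X ⊓ Y') le_sup_left le_sup_right
      (eq_bot_iff.2 fun u hu => by
        by_contra hu1
        exact hn (h.symm.pt_ti h1.symm.pt h3.symm.pt hu.1.2 hu.2.2 hu1))
    rwa [(h.fl_N h1).2, (h.fl_N h3).2, show 4 * 4 = 16 from rfl, ← h.pt_card h1.pt] at this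
  rw [← e]
  exact sup_le (inf_le_right.trans (h.fl_N h2).1) (inf_le_right.trans (h.fl_N h4).1)

theorem five (hY : Pt U Y) : {X | Fl E U X Y}.ncard = 5 := by
  have := WA.Te.ncard_rel {X | Fl E U X Y} ((Y : Set G) \ {1}) (fun X t => t ∈ X) (m := 3) (n := 1) (fun X hX => by
    have := CI.ncard_sharp (X ⊓ Y)
    rw [(h.fl_N hX).2] at this
    refine Eq.trans (congrArg _ (Set.ext fun t => ?_)) this
    exact ⟨fun ht => ⟨⟨ht.2, ht.1.1⟩, ht.1.2⟩, fun ht => ⟨⟨ht.1.2, ht.2⟩, ht.1.1⟩⟩) fun t ht => by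
      obtain ⟨X, h1, h2⟩ := h.symm.inv_N hY (le_normalizer ht.1) (h.symm.pt_ea hY t ht.1) ht.2
      rw [Set.ncard_eq_one]
      exact ⟨X, Set.ext fun X' => ⟨fun hX' => h.pt_ti hX'.1.pt h1.symm.pt hX'.2 h2 ht.2,
        fun e => by rw [Set.mem_singleton_iff.mp e]; exact ⟨h1.symm, h2⟩⟩⟩
  rw [CI.ncard_sharp, h.symm.pt_card hY] at this
  omega

theorem nZ_le : 𝐍(Z) ≤ 𝐍(E) := fun g hg => by
  obtain ⟨z, hz, h1⟩ := h.p.exists_z
  exact cj_eq_self_iff.mp (h.pt_ti ⟨g, rfl⟩ ⟨1, (cj_one E).symm⟩ (conj_mem_cj g (h.p.ZE hz)) (h.p.ZE (cjm hg hz))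
    (cj_ne h1))

theorem nZ_S : 𝐍(Z) ≤ 𝐍(S) := fun _ hg => h.p.nS_of (h.nZ_le hg) (h.symm.nZ_le hg)

theorem two_le (hP : IsPGroup 2 P) (hle : P ≤ 𝐍(Z)) : P ≤ S :=
  h.hS.le_of_le_normalizer' hP le_top (hle.trans h.nZ_S)

theorem cent_Z (ho : Odd (orderOf d)) (hz : z ∈ Z) (h1 : z ≠ 1) (hd : d ∈ 𝐂[z]) : d ∈ 𝐂(Z) :=
  four_cent h.p.cZ h.p.sZ (h.p.nZ_of (h.cle hz h1 hd) (h.symm.cle hz h1 hd)) ho hz h1 (cz.mp hd)

theorem fix_coset (ho : Odd (orderOf d)) (hd : d ∈ 𝐂(Z)) (he : e ∈ E) (he' : e ∉ Z) (hc : d * e * d⁻¹ * e⁻¹ ∈ Z) :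
    d = 1 := by
  have p := h.p
  have hn := h.nZ_le (cn hd)
  have nE : Z ⊴ E := ⟨p.ZE, fun x hx => cn (p.centE hx)⟩
  have c4 : #|E ⁒ Z| = 4 := by have := card_quo_mul_of_normalIn nE; rw [p.cZ, p.cE] at this; omega
  have h1 := four_cent c4 (fun x hx => by
      obtain ⟨y, hy, rfl⟩ := (mem_quo_of_le nE.2).mp hx
      rw [← coset_mul (nE.2 hy) (nE.2 hy), p.sE y hy, coset_one])
    (quo_le_normalizer (zpowers_le.mpr hn) Z (coset_mem_quo (mem_zpowers d))) (ho.of_dvd_nat (orderOf_coset_dvd d))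
    (coset_mem_quo he) (fun e1 => he' ((coset_eq_one_iff (nE.2 he)).mp e1)) (by
      rw [← mul_inv_eq_iff_eq_mul, ← coset_conj (cn hd) (nE.2 he)]
      exact (coset_eq_iff' (nE.2 (cjm hn he)) (nE.2 he)).mpr hc)
  have h2 : d ∈ 𝐂(E) := odd_mem ho (mem_centralizer_iff.mpr fun x hx => (mul_inv_eq_iff_eq_mul.mp (by
    have h3 : d * x * d⁻¹ * x⁻¹ ∈ Z := (coset_eq_iff' (nE.2 (cjm hn hx)) (nE.2 hx)).mp (by
      rw [coset_conj (cn hd) (nE.2 hx), cjA h1 (coset_mem_quo hx)])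
    calc _ = d * (d * x * d⁻¹ * x⁻¹) * d⁻¹ * (d * x * d⁻¹ * x⁻¹) * x := by group
      _ = _ := by rw [cjA hd h3, p.sZ _ h3, one_mul])).symm)
  exact mem_bot.mp (odd_mem ho (by rw [p.sE d (h.cE h2)]; exact one_mem _))

theorem cent_S (ho : Odd (orderOf d)) (hd : d ∈ 𝐂(Z)) (h1 : d ≠ 1) (ht : t ∈ S) (hc : d * t = t * d) : t ∈ Z := by
  have p := h.p
  obtain ⟨e, he, u, hu, rfl⟩ := p.dec ht
  have n1 := cjm (h.nZ_le (cn hd)) he
  have n2 := cjm (h.symm.nZ_le (cn hd)) hu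
  have e1 : e⁻¹ * (d * e * d⁻¹) = u * (d * u * d⁻¹)⁻¹ := by
    calc _ = e⁻¹ * (d * (e * u) * d⁻¹) * (d * u * d⁻¹)⁻¹ := by group
      _ = _ := by rw [hc]; group
  have h2 := p.memZ (mul_mem (inv_mem he) n1) (e1 ▸ mul_mem hu (inv_mem n2))
  refine mul_mem (by_contra fun h3 => h1 (h.fix_coset ho hd he h3 ?_))
    (by_contra fun h3 => h1 (h.symm.fix_coset ho hd hu h3 ?_))
  · rwa [p.comm n1 (inv_mem he)]
  · rw [e1] at h2
    simpa using inv_mem h2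

/-- an element of odd order that centralizes an involution is not real -/
theorem nr (ho : Odd (orderOf d)) (h2 : t * t = 1) (h1 : t ≠ 1) (hc : d * t = t * d) (hn : n * d * n⁻¹ = d⁻¹) :
    d = 1 := by
  obtain ⟨z, hz, hz1⟩ := h.p.exists_z
  obtain ⟨g, rfl⟩ := h.p.conj_z h.hS h.hE h.hU hz hz1 h2 h1
  have q := h.cj g
  have hd := q.cent_Z ho (conj_mem_cj g hz) h1 (cz.mpr hc)
  generalize H8.cj g Z = Z, H8.cj g E = E, H8.cj g U = U, H8.cj g S = S at q hd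
  by_contra d1
  have s1 : IsSylowIn 2 Z 𝐂[d] := IsSylowIn.of_normalizer (fun a ha => cz.mpr (cA hd ha).symm)
    ⟨fun a ha => ⟨cz.mpr (cA hd ha).symm, le_normalizer ha⟩, ea_pgroup q.p.sZ, fun Q hQ hp hle => le_antisymm
      (fun x hx => q.cent_S ho hd d1 (q.two_le hp (hQ.trans inf_le_right) hx) (cz.mp (hQ hx).1).symm) hle⟩
  obtain ⟨c, hc, hm⟩ := s1.frattini (g := n) (cj_eq_self_iff.mp (by
    rw [cj_centralizer_singleton, hn]
    exact Subgroup.ext fun x => by rw [cz, cz]; exact Commute.inv_right_iff))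
  obtain ⟨m, mo, mp⟩ := odd_part (c * n)
  have h3 := q.two_le mp (zpowers_le.mpr (pow_mem hm m)) (mem_zpowers _)
  have h4 := inv_pow_odd (n := c * n) (d := d) (by
    rw [show c * n * d * (c * n)⁻¹ = c * (n * d * n⁻¹) * c⁻¹ by group, hn,
      show c * d⁻¹ * c⁻¹ = (c * d * c⁻¹)⁻¹ by group, cz.mp hc, mul_inv_cancel_right]) mo
  have h5 := mul_mem (cjm (q.nZ_S (cn hd)) h3) (inv_mem h3)
  rw [show d * (c * n) ^ m * d⁻¹ * ((c * n) ^ m)⁻¹ = d * ((c * n) ^ m * d * ((c * n) ^ m)⁻¹)⁻¹ by group, h4,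
    inv_inv] at h5
  exact d1 (WA.Te.eq_one_of_two_odd q.hS.pgroup (odd_mem ho h5) ho)

theorem not_all (ho : Odd (orderOf x)) (hf : ∀ w, w * w = 1 → x * w = w * x → w = 1) (hx : x ∈ 𝐍(E))
    (hall : ∀ Y, Fl U E Y E → x ∈ 𝐍(Y)) : False := by
  have p := h.p
  have f0 : Fl U E U E := ⟨1, (cj_one U).symm, (cj_one E).symm⟩
  have f1 : ∀ g ∈ 𝐍(E), ∀ Y, Fl U E Y E → Fl U E (H8.cj g Y) E := fun g hg Y hY => by
    have := hY.conj g
    rwa [cj_eq_self hg] at this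
  obtain ⟨n, hn, hn'⟩ := SetLike.not_le_iff_exists.mp h.hE
  obtain ⟨u, hu, hu'⟩ := p.symm.exists_e
  have f2 := f1 n hn U f0
  have h1 := hall _ (f1 u (p.nE (p.leU hu)) _ f2)
  rw [← cj_normalizer, mem_cj] at h1
  have h2 : u⁻¹ * (x * u * x⁻¹) ∈ U := mul_mem (inv_mem hu) (cjm (hall U f0) hu)
  have h3 : u⁻¹ * (x * u * x⁻¹) ∈ Z := by
    by_cases v1 : u⁻¹ * (x * u * x⁻¹) = 1
    · rw [v1]; exact one_mem Z
    obtain ⟨X, f3, h4⟩ := h.symm.inv_N f2.pt (u := u⁻¹ * (x * u * x⁻¹)) (by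
      simpa only [mul_assoc] using mul_mem h1 (inv_mem (hall _ f2))) (p.sU _ h2) v1
    have := h.symm.uniq f3 (h.symm.fl_of f0.pt f3.symm.pt h2 h4 v1) f2 f0 fun e =>
      hn' (p.nZ_of hn (cj_eq_self_iff.mp e))
    exact p.memZ (this ▸ h4) h2
  have xZ := p.nZ_of hx (hall U f0)
  have h4 := tri p.cZ p.sZ xZ ho (fun a ha => hf a (p.sZ a ha)) h3
  set a := u⁻¹ * (x * u * x⁻¹) with ha
  refine hu' ((Subgroup.mul_mem_cancel_right Z (cjm xZ h3)).mp (hf (u * (x * a * x⁻¹)) (p.sU _ (mul_mem hu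
    (p.ZU (cjm xZ h3)))) (mul_inv_eq_iff_eq_mul.mp ?_) ▸ one_mem Z))
  calc _ = u * a * (x * (x * a * x⁻¹) * x⁻¹) := by rw [ha]; group
    _ = _ := by rw [h4, ← mul_assoc, mul_assoc u, p.sZ a h3, mul_one]

theorem le14 {K : Subgroup G} (hK : K ≤ 𝐍(E)) (ho : Odd #|K|) (h2 : t * t = 1) :
    {x | x ∈ K ∧ t * x * t = x⁻¹}.ncard ≤ 14 := by
  by_contra hn
  set J := {x | x ∈ K ∧ t * x * t = x⁻¹} with hJ
  have ox : ∀ x ∈ K, Odd (orderOf x) := fun x hx => ho.of_dvd_nat (K.orderOf_dvd_natCard hx)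
  have ti := inv_eq h2
  have fp : ∀ x ∈ J, x ≠ 1 → ∀ w, w * w = 1 → x * w = w * x → w = 1 := fun x hx x1 w w2 e => by
    by_contra w1
    exact x1 (h.nr (ox x hx.1) w2 w1 e (n := t) (by rw [ti, hx.2]))
  have inj : ∀ w, w * w = 1 → w ≠ 1 → Set.InjOn (fun x => x * w * x⁻¹) J := fun w w2 w1 x hx y hy e => by
    have e1 : x * w * x⁻¹ = y * w * y⁻¹ := e
    refine (inv_mul_eq_one.mp (h.nr (ox _ (mul_mem (inv_mem hy.1) hx.1)) w2 w1 ?_ (n := t * x) ?_)).symm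
    · calc _ = y⁻¹ * (x * w * x⁻¹) * x := by group
        _ = _ := by rw [e1]; group
    · calc _ = t * x * t * (t * y * t)⁻¹ := by group
        _ = _ := by rw [hx.2, hy.2]; group
  have onto : ∀ w ∈ E, w ≠ 1 → (fun x => x * w * x⁻¹) '' J = (E : Set G) \ {1} := fun w hw w1 =>
    Set.eq_of_subset_of_ncard_le (by rintro _ ⟨x, hx, rfl⟩; exact ⟨cjm (hK hx.1) hw, cj_ne w1⟩) (by
      rw [(inj w (h.p.sE w hw) w1).ncard_image, CI.ncard_sharp, h.p.cE]; omega)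
  have c5 := h.symm.five (Y := E) ⟨1, (cj_one E).symm⟩
  have := WA.Te.ncard_rel {x | x ∈ J ∧ x ≠ 1 ∧ ∃ Y, Fl U E Y E ∧ x ∈ 𝐍(Y)} {Y | Fl U E Y E} (fun x Y => x ∈ 𝐍(Y))
    (m := 2) (n := 2) (fun x hx => by
      obtain ⟨hx, x1, Y, hY, hxY⟩ := hx
      have c4 := (h.symm.fl_N hY).2
      have s2 : ∀ a ∈ Y ⊓ E, a * a = 1 := fun a ha => h.p.sE a ha.2
      have xn : x ∈ 𝐍((Y ⊓ E : Subgroup G)) := cj_eq_self_iff.mp (by rw [cj_inf, cj_eq_self hxY, cj_eq_self (hK hx.1)])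
      obtain ⟨a, ha, a1⟩ := exists_not (B := ⊥) (X := Y ⊓ E) (by rw [card_bot, c4]; norm_num)
      have e1 := tri c4 s2 xn (ox x hx.1) (fun a ha => fp x hx x1 a (s2 a ha)) ha
      have x3 : x ^ 3 = 1 := by
        by_contra h3
        refine a1 (fp (x ^ 3) ⟨pow_mem hx.1 3, BS.inverts_pow h2 hx.2 3⟩ h3 a (s2 a ha) (mul_inv_eq_iff_eq_mul.mp ?_))
        calc _ = x * (x * (x * a * x⁻¹) * x⁻¹) * x⁻¹ := by rw [pow_succ, pow_two]; group
          _ = x * (a * (x * a * x⁻¹)) * x⁻¹ := by rw [e1]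
          _ = x * a * x⁻¹ * (x * (x * a * x⁻¹) * x⁻¹) := by group
          _ = _ := by rw [e1, ← mul_assoc, ea_comm s2 (cjm xn ha) ha, mul_assoc, s2 _ (cjm xn ha), mul_one]
      haveI : Fact (Nat.Prime 3) := ⟨Nat.prime_three⟩
      letI := cjAct G
      have m3 := WA.Te.ncard_fixed_modEq (p := 3) (P := zpowers x) (H9.isPGroup_zpowers ⟨1, by rwa [pow_one]⟩)
        (S := {Y | Fl U E Y E}) (Set.toFinite _) fun g hg Y hY => by
          have := Fl.conj hY g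
          rwa [cj_eq_self (zpowers_le.mpr (hK hx.1) hg)] at this
      have e2 : {Y | Y ∈ {Y | Fl U E Y E} ∧ ∀ g ∈ zpowers x, g • Y = Y} = {Y | Y ∈ {Y | Fl U E Y E} ∧ x ∈ 𝐍(Y)} :=
        Set.ext fun Y => and_congr_right fun _ => ⟨fun h => cj_eq_self_iff.mp (h x (mem_zpowers x)),
          fun h g hg => cj_eq_self (zpowers_le.mpr h hg)⟩
      rw [e2, c5] at m3
      have sub : {Y | Y ∈ {Y | Fl U E Y E} ∧ x ∈ 𝐍(Y)} ⊆ {Y | Fl U E Y E} := fun Y hY => hY.1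
      have l5 := (Set.ncard_le_ncard sub).trans c5.le
      have n5 : {Y | Y ∈ {Y | Fl U E Y E} ∧ x ∈ 𝐍(Y)}.ncard ≠ 5 := fun e =>
        h.not_all (ox x hx.1) (fp x hx x1) (hK hx.1) fun Y hY =>
          ((Set.eq_of_subset_of_ncard_le sub (by rw [e, c5])).ge hY).2
      unfold Nat.ModEq at m3
      omega) fun Y hY => by
      have c4 := (h.symm.fl_N hY).2
      obtain ⟨a, ha, a1⟩ := exists_not (B := ⊥) (X := Y ⊓ E) (by rw [card_bot, c4]; norm_num)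
      have e1 : (fun x => x * a * x⁻¹) '' {x | x ∈ J ∧ x ∈ 𝐍(Y)} = ((Y ⊓ E : Subgroup G) : Set G) \ {1} := by
        refine Set.ext fun w => ⟨?_, fun hw => ?_⟩
        · rintro ⟨x, hx, rfl⟩
          exact ⟨⟨cjm hx.2 ha.1, cjm (hK hx.1.1) ha.2⟩, cj_ne a1⟩
        · obtain ⟨x, hx, rfl⟩ := (onto a ha.2 a1).ge ⟨hw.1.2, hw.2⟩
          exact ⟨x, ⟨hx, cj_eq_self_iff.mp (h.symm.pt_ti (hY.pt.conj x) hY.pt (conj_mem_cj x ha.1) hw.1.1 hw.2)⟩, rfl⟩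
      have e2 := congrArg Set.ncard e1
      rw [((inj a (h.p.sE a ha.2) a1).mono fun x hx => hx.1).ncard_image, CI.ncard_sharp, c4] at e2
      have e3 : {x | x ∈ {x | x ∈ J ∧ x ≠ 1 ∧ ∃ Y, Fl U E Y E ∧ x ∈ 𝐍(Y)} ∧ x ∈ 𝐍(Y)} =
          {x | x ∈ J ∧ x ∈ 𝐍(Y)} \ {1} :=
        Set.ext fun x => ⟨fun hx => ⟨⟨hx.1.1, hx.2⟩, hx.1.2.1⟩, fun hx => ⟨⟨hx.1.1, hx.2, Y, hY, hx.1.2⟩, hx.1.2⟩⟩
      rw [e3, Set.ncard_diff_singleton_of_mem (by exact ⟨⟨one_mem K, by simpa using h2⟩, one_mem _⟩), e2]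
  rw [c5] at this
  obtain ⟨x, hx, e⟩ := WA.Te.exists_cent_of_odd (pg_zp h2)
    (S := {x | x ∈ J ∧ x ≠ 1 ∧ ∃ Y, Fl U E Y E ∧ x ∈ 𝐍(Y)}) (fun g hg x hx => by
      rcases (H9.mem_zpowers_of_mul_self h2).mp hg with rfl | rfl
      · simpa using hx
      · obtain ⟨hx, x1, Y, hY, hxY⟩ := hx
        rw [ti, hx.2]
        exact ⟨⟨inv_mem hx.1, by rw [BS.inverts_inv h2 hx.2, inv_inv]⟩, inv_ne_one.mpr x1, Y, hY, inv_mem hxY⟩)
    (by rw [Nat.eq_of_mul_eq_mul_right two_pos this]; decide)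
  refine hx.2.1 (mem_bot.mp (odd_mem (ox x hx.1.1) ?_))
  have := hx.1.2
  rw [e t (mem_zpowers t), mul_assoc, h2, mul_one] at this
  exact mul_eq_one_iff_eq_inv.mpr this

theorem collinear (hX : Pt E X) : ∃ Y, Fl E U E Y ∧ Fl E U X Y := by
  classical
  haveI := Fintype.ofFinite G
  haveI := Fintype.ofFinite (Subgroup G)
  have h' := h.symm
  have p0 : Pt E E := ⟨1, (cj_one _).symm⟩
  let Nn : Finset (Subgroup G) := Finset.univ.filter fun X => Pt E X ∧ ¬ ∃ Y, Fl E U E Y ∧ Fl E U X Y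
  let J : Finset G := Finset.univ.filter fun t => t ≠ 1 ∧ ∃ X ∈ Nn, t ∈ X
  have c1 : Nn.card * 15 ≤ J.card * 1 := Finset.card_mul_le_card_mul (fun X t => t ∈ X)
    (fun X hX => by
      have : ((X : Set G) \ {1}).ncard = 15 := by rw [CI.ncard_sharp, h.pt_card (Finset.mem_filter.1 hX).2.1]
      rw [← this, ← Set.ncard_coe_finset]
      refine Set.ncard_le_ncard fun t ht => ?_
      simp only [Finset.coe_bipartiteAbove, J, Finset.mem_filter, Finset.mem_univ, true_and]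
      exact ⟨⟨ht.2, X, hX, ht.1⟩, ht.1⟩)
    fun t ht => Finset.card_le_one.2 fun X hX X' hX' => by
      rw [Finset.mem_bipartiteBelow] at hX hX'
      exact h.pt_ti (Finset.mem_filter.1 hX.1).2.1 (Finset.mem_filter.1 hX'.1).2.1 hX.2 hX'.2
        (Finset.mem_filter.1 ht).2.1
  have hJ : ∀ t ∈ J, t * t = 1 := fun t ht => by
    obtain ⟨-, X, hX, h1⟩ := (Finset.mem_filter.1 ht).2
    exact h.pt_ea (Finset.mem_filter.1 hX).2.1 t h1
  have c2 : J.card * 1 ≤ Nn.card * 14 := Finset.card_mul_le_card_mul (fun t X => H8.cj t E = X)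
    (fun t ht => Finset.card_pos.2 ⟨H8.cj t E, by
      rw [Finset.mem_bipartiteAbove]
      refine ⟨Finset.mem_filter.2 ⟨Finset.mem_univ _, p0.conj t, ?_⟩, rfl⟩
      rintro ⟨Y, h1, h2⟩
      obtain ⟨ht1, X, hX, htX⟩ := (Finset.mem_filter.1 ht).2
      obtain ⟨hX1, hX2⟩ := (Finset.mem_filter.1 hX).2
      by_cases e : H8.cj t E = E
      · obtain ⟨Y', h3, h4⟩ := h.inv_N p0 (cj_eq_self_iff.1 e) (hJ t ht) ht1
        exact hX2 ⟨Y', h3, h.fl_of hX1 h3.symm.pt htX h4 ht1⟩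
      · have h3 := h2.conj t
        rw [← cj_mul, hJ t ht, cj_one] at h3
        have h4 := h.uniq h2 h1 (h1.conj t) h3 e
        obtain ⟨X', h5, h6⟩ := h'.inv_N h1.symm.pt (cj_eq_self_iff.1 h4.symm) (hJ t ht) ht1
        exact hX2 ⟨Y, h1, h.pt_ti h5.symm.pt hX1 h6 htX ht1 ▸ h5.symm⟩⟩)
    fun X hX => by
      by_contra hn
      obtain ⟨hX1, hX2⟩ := (Finset.mem_filter.1 hX).2
      set I := J.bipartiteBelow (fun t X => H8.cj t E = X) X with hI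
      have hI' : ∀ t ∈ I, t * t = 1 ∧ H8.cj t E = X ∧ H8.cj t X = E := fun t ht => by
        rw [hI, Finset.mem_bipartiteBelow] at ht
        exact ⟨hJ t ht.1, ht.2, by rw [← ht.2, ← cj_mul, hJ t ht.1, cj_one]⟩
      obtain ⟨t0, ht0⟩ : I.Nonempty := Finset.card_pos.1 (by omega)
      have hodd : ¬ 2 ∣ #|(𝐍(E) ⊓ 𝐍(X) : Subgroup G)| := fun hd => by
        obtain ⟨u, hu⟩ := exists_prime_orderOf_dvd_card' (G := ↥(𝐍(E) ⊓ 𝐍(X))) 2 hd
        rw [← orderOf_coe] at hu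
        have h2 := H4.mul_self_of_orderOf_two hu
        have h1 := H4.ne_one_of_orderOf_two hu
        obtain ⟨Y, h3, h4⟩ := h.inv_N p0 u.2.1 h2 h1
        obtain ⟨Y', h5, h6⟩ := h.inv_N hX1 u.2.2 h2 h1
        exact hX2 ⟨Y, h3, h'.pt_ti h5.symm.pt h3.symm.pt h6 h4 h1 ▸ h5⟩
      have c3 := h.le14 inf_le_left (Dich.odd_iff.mpr hodd) (hI' t0 ht0).1
      have c4 := Set.ncard_le_ncard (s := (fun t => t0 * t) '' (I : Set G))
        (t := {x | x ∈ 𝐍(E) ⊓ 𝐍(X) ∧ t0 * x * t0 = x⁻¹}) (by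
          rintro _ ⟨t, ht, rfl⟩
          exact ⟨⟨cj_eq_self_iff.1 (by rw [cj_mul, (hI' t ht).2.1, (hI' t0 ht0).2.2]),
            cj_eq_self_iff.1 (by rw [cj_mul, (hI' t ht).2.2, (hI' t0 ht0).2.1])⟩, by
              rw [← mul_assoc, (hI' t0 ht0).1, one_mul, mul_inv_rev, inv_eq (hI' t ht).1, inv_eq (hI' t0 ht0).1]⟩)
      rw [Set.ncard_image_of_injective _ (mul_right_injective t0), Set.ncard_coe_finset] at c4
      omega
  by_contra hn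
  have : 0 < Nn.card := Finset.card_pos.2 ⟨X, Finset.mem_filter.2 ⟨Finset.mem_univ _, hX, hn⟩⟩
  omega

theorem collinear' (hX : Pt E X) (hX' : Pt E X') : ∃ Y, Fl E U X Y ∧ Fl E U X' Y := by
  obtain ⟨g, rfl⟩ := hX
  obtain ⟨Y, h1, h2⟩ := h.collinear (hX'.conj g⁻¹)
  exact ⟨_, h1.conj g, by simpa only [cj_cj_inv] using h2.conj g⟩

theorem plane : ∃ (α : Type u) (_ : Fintype α) (_ : DecidableEq α) (B : Set (Finset α)), Fintype.card α = 21 ∧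
    IsSteinerSystem 2 5 B ∧ ∃ φ : G →* setSystemAut B, Function.Injective φ := by
  classical
  haveI := Fintype.ofFinite (Subgroup G)
  have h' := h.symm
  have five : ∀ {E U : Subgroup G}, T2 Z E U S → ∀ Y, Pt U Y → (Finset.univ.filter fun X => Fl E U X Y).card = 5 :=
    fun h Y hY => by rw [← h.five hY, ← Set.ncard_coe_finset]; congr 1; ext; simp
  letI := CI.Am.act E
  have sm : ∀ (g : G) (x : {X // Pt E X}), (g • x).1 = H8.cj g x.1 := fun _ _ => rfl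
  let x0 : {X // Pt E X} := ⟨E, 1, (cj_one _).symm⟩
  let blk : Subgroup G → Finset {X // Pt E X} := fun Y => Finset.univ.filter fun x => Fl E U x.1 Y
  have hblk : ∀ Y, Pt U Y → (blk Y).card = 5 := fun Y hY => by
    rw [← five h Y hY]
    refine Finset.card_bij (fun x _ => x.1) (fun x hx => ?_) (fun _ _ _ _ e => Subtype.ext e) fun X hX => ?_
    · simpa [blk] using hx
    · have := (Finset.mem_filter.1 hX).2
      exact ⟨⟨X, this.pt⟩, by simpa [blk] using this, rfl⟩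
  let B : Set (Finset {X // Pt E X}) := {b | ∃ Y, Pt U Y ∧ b = blk Y}
  have hB : IsSteinerSystem 2 5 B := by
    refine ⟨by rintro _ ⟨Y, hY, rfl⟩; exact hblk Y hY, fun s hs => ?_⟩
    obtain ⟨x, y, hne, rfl⟩ := Finset.card_eq_two.1 hs
    obtain ⟨Y, h1, h2⟩ := h.collinear' x.2 y.2
    refine ⟨blk Y, ⟨⟨Y, h1.symm.pt, rfl⟩, ?_⟩, ?_⟩
    · intro z hz
      simp only [Finset.mem_insert, Finset.mem_singleton] at hz
      rcases hz with rfl | rfl <;> simpa [blk]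
    · rintro _ ⟨⟨Y', -, rfl⟩, hs⟩
      have h3 := (Finset.mem_filter.1 (hs (Finset.mem_insert_self x {y}))).2
      have h4 := (Finset.mem_filter.1 (hs (Finset.mem_insert_of_mem (Finset.mem_singleton_self y)))).2
      rw [h.uniq h3 h4 h1 h2 fun e => hne (Subtype.ext e)]
  have hα : Fintype.card {X // Pt E X} = 21 := by
    have c1 := Finset.card_mul_eq_card_mul (s := Finset.univ.erase x0)
      (t := Finset.univ.filter fun Y => Fl U E Y E) (fun x Y => Fl E U x.1 Y) (m := 1) (n := 4)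
      (fun x hx => by
        obtain ⟨Y, h1, h2⟩ := h.collinear x.2
        refine Finset.card_eq_one.2 ⟨Y, Finset.eq_singleton_iff_unique_mem.2 ⟨?_, fun Y' hY' => ?_⟩⟩
        · exact Finset.mem_bipartiteAbove _ |>.2 ⟨Finset.mem_filter.2 ⟨Finset.mem_univ _, h1.symm⟩, h2⟩
        · rw [Finset.mem_bipartiteAbove] at hY'
          exact h.uniq hY'.2 (Finset.mem_filter.1 hY'.1).2.symm h2 h1
            fun e => (Finset.mem_erase.1 hx).1 (Subtype.ext e))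
      fun Y hY => by
        have h1 := (Finset.mem_filter.1 hY).2
        have : (Finset.univ.erase x0).bipartiteBelow (fun x Y => Fl E U x.1 Y) Y = (blk Y).erase x0 := by
          ext x; simp [blk, Finset.mem_bipartiteBelow]
        rw [this, Finset.card_erase_of_mem (by simpa [blk] using h1.symm), hblk Y h1.pt]
    rw [five h' E x0.2, Finset.card_erase_of_mem (Finset.mem_univ _), Finset.card_univ] at c1
    omega
  let φ : G →* setSystemAut B := (MulAction.toPermHom G {X // Pt E X}).codRestrict _ fun g => by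
    refine CI.mem_aut_of_sub ?_
    rintro _ ⟨Y, hY, rfl⟩
    refine ⟨H8.cj g Y, hY.conj g, ?_⟩
    ext x
    simp only [blk, Finset.mem_smul_finset, Finset.mem_filter, Finset.mem_univ, true_and]
    constructor
    · rintro ⟨y, hy, rfl⟩
      exact hy.conj g
    · intro hx
      exact ⟨g⁻¹ • x, by simpa only [cj_inv_cj, sm] using hx.conj g⁻¹, smul_inv_smul g x⟩
  refine ⟨_, inferInstance, inferInstance, B, hα, hB, φ, (MonoidHom.ker_eq_bot_iff φ).1 (eq_bot_iff.mpr ?_)⟩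
  rw [← h.hO]
  refine L0.le_pPrimeCore' inferInstance fun hd => h.hU fun g hg => h.p.nZ_of ?_ hg
  obtain ⟨t, ht⟩ := exists_prime_orderOf_dvd_card' (G := φ.ker) 2 hd
  rw [← orderOf_coe] at ht
  obtain ⟨z, hz, z1⟩ := h.p.exists_z
  obtain ⟨k, hk⟩ := h.p.conj_z h.hS h.hE h.hU hz z1 (H4.mul_self_of_orderOf_two ht) (H4.ne_one_of_orderOf_two ht)
  have hzk : z ∈ φ.ker := by
    have := (MonoidHom.normal_ker φ).conj_mem' _ t.2 k
    rwa [← hk, show k⁻¹ * (k * z * k⁻¹) * k = z by group] at this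
  refine cj_eq_self_iff.mp (h.pt_N x0.2 ⟨g, rfl⟩ fun e he => ?_).symm
  have : e ∈ φ.ker := by
    by_cases e1 : e = 1
    · rw [e1]; exact one_mem _
    obtain ⟨l, rfl⟩ := h.p.conj_z h.hS h.hE h.hU hz z1 (h.p.sE e he) e1
    exact (MonoidHom.normal_ker φ).conj_mem _ hzk l
  exact cj_eq_self_iff.mp (congrArg (fun σ : setSystemAut B => (σ.1 ⟨H8.cj g E, g, rfl⟩).1) this)

end T2

end Cfsg.Agent.H2.L4
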