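import Cfsg.Agent.H2.CIT7
import Mathlib.Combinatorics.Configuration
import Mathlib.LinearAlgebra.Projectivization.Action
import Mathlib.LinearAlgebra.Projectivization.Cardinality
import Mathlib.LinearAlgebra.Matrix.GeneralLinearGroup.Card

/-! `PGL₃(4)` as a group of collineations. -/

set_option autoImplicit false
set_option linter.unusedSectionVars false

namespace Cfsg.Agent.H2.L4

open Subgroup Projectivization Matrix Cfsg.Agent.H2.Chk
open scoped LinearAlgebra.Projectivization Pointwise

variable {F : Type*} [Field F] [Fintype F]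

theorem card_pgl (hF : Fintype.card F = 4) : Nat.card (GL (Fin 3) F ⧸ center (GL (Fin 3) F)) = 60480 := by
  classical
  have h1 := (center (GL (Fin 3) F)).card_mul_index
  have h2 : Nat.card (center (GL (Fin 3) F)) = 3 := by
    rw [GeneralLinearGroup.center_eq_range_scalar, ← Nat.card_congr (MonoidHom.ofInjective fun a b e => Units.ext (by
      simpa using congrArg (fun g : GL (Fin 3) F => g.1 0 0) e)).toEquiv, Nat.card_units, Nat.card_eq_fintype_card, hF]
  rw [h2, card_GL_field, hF] at h1
  simp only [Fin.prod_univ_three] at h1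
  rw [← index_eq_card]
  norm_num at h1
  omega

theorem ker_act : (MulAction.toPermHom (GL (Fin 3) F) (ℙ F (Fin 3 → F))).ker = center (GL (Fin 3) F) := by
  ext m
  simp only [MonoidHom.mem_ker, MulAction.toPermHom_apply, Equiv.Perm.one_def, DFunLike.ext_iff, MulAction.toPerm_apply,
    Equiv.refl_apply, GeneralLinearGroup.mem_center_iff_val_mem_range_scalar]
  refine ⟨fun hm => ?_, fun ⟨r, hr⟩ l => ?_⟩
  · obtain ⟨a, ha⟩ := (Matrix.toLin' m.1).exists_eq_smul_id_of_forall_notLinearIndependent fun v => by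
      by_cases hv : v = 0
      · simp [hv, linearIndependent_fin2]
      · simpa [LinearIndependent.pair_iff' hv, mk_eq_mk_iff'] using! hm (.mk F v hv)
    exact ⟨a, by rw [← LinearMap.toMatrix'_algebraMap, ← LinearMap.toMatrix'_toLin' m.1, ha]; rfl⟩
  · induction l using Projectivization.ind with | _ v hv =>
    simp only [smul_mk, mk_eq_mk_iff']
    refine ⟨r, ?_⟩
    change _ = m.1 • v
    simp [← hr]

theorem embed_of_plane (hF : Fintype.card F = 4) {G α : Type*} [Group G] [Fintype α] [DecidableEq α]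
    {B : Set (Finset α)} (hα : Fintype.card α = 21) (hB : IsSteinerSystem 2 5 B) (φ : G →* setSystemAut B)
    (hφ : Function.Injective φ) (hG : ∀ K : Subgroup G, K.index ≠ 2) :
    ∃ f : G →* GL (Fin 3) F ⧸ center (GL (Fin 3) F), Function.Injective f := by
  classical
  haveI := Fintype.ofFinite (ℙ F (Fin 3 → F))
  have c21 : Fintype.card (ℙ F (Fin 3 → F)) = 21 := by
    rw [← Nat.card_eq_fintype_card, card_of_finrank F _ (Module.finrank_fin_fun F), Nat.card_eq_fintype_card, hF]; rfl
  have o4 : Configuration.ProjectivePlane.order (ℙ F (Fin 3 → F)) (ℙ F (Fin 3 → F)) = 4 := by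
    have := Configuration.ProjectivePlane.card_points (ℙ F (Fin 3 → F)) (ℙ F (Fin 3 → F))
    rw [c21] at this
    nlinarith
  let blk : ℙ F (Fin 3 → F) → Finset (ℙ F (Fin 3 → F)) := fun l => Finset.univ.filter fun p => p.orthogonal l
  let B' : Set (Finset (ℙ F (Fin 3 → F))) := Set.range blk
  have hB' : IsSteinerSystem 2 5 B' := by
    refine ⟨?_, fun s hs => ?_⟩
    · rintro _ ⟨l, rfl⟩
      have := Configuration.ProjectivePlane.pointCount_eq (ℙ F (Fin 3 → F)) l
      rw [o4, Configuration.pointCount, Nat.card_eq_fintype_card, Fintype.card_subtype] at this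
      exact this
    · obtain ⟨x, y, hne, rfl⟩ := Finset.card_eq_two.1 hs
      obtain ⟨l, hl, hu⟩ := Configuration.HasLines.existsUnique_line (ℙ F (Fin 3 → F)) (ℙ F (Fin 3 → F)) x y hne
      refine ⟨blk l, ⟨⟨l, rfl⟩, fun z hz => ?_⟩, ?_⟩
      · simp only [Finset.mem_insert, Finset.mem_singleton] at hz
        rcases hz with rfl | rfl
        · exact Finset.mem_filter.2 ⟨Finset.mem_univ _, hl.1⟩
        · exact Finset.mem_filter.2 ⟨Finset.mem_univ _, hl.2⟩
      · rintro _ ⟨⟨l', rfl⟩, hs⟩
        rw [hu l' ⟨(Finset.mem_filter.1 (hs (Finset.mem_insert_self x {y}))).2,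
          (Finset.mem_filter.1 (hs (Finset.mem_insert_of_mem (Finset.mem_singleton_self y)))).2⟩]
  let ψ0 : GL (Fin 3) F →* setSystemAut B' := (MulAction.toPermHom _ (ℙ F (Fin 3 → F))).codRestrict _ fun g => by
    refine CI.mem_aut_of_sub ?_
    rintro _ ⟨l, rfl⟩
    induction l using Projectivization.ind with | _ w hw =>
    have h0 : w ᵥ* (g⁻¹).1 ≠ 0 := fun e => hw (by
      rw [← vecMul_one w, ← Units.inv_mul g, ← vecMul_vecMul, e, zero_vecMul])
    have key : ∀ p : ℙ F (Fin 3 → F), (g • p).orthogonal (mk F _ h0) ↔ p.orthogonal (mk F w hw) := fun p => by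
      induction p using Projectivization.ind with | _ v hv =>
      rw [smul_mk, orthogonal_mk, orthogonal_mk, dotProduct_comm, dotProduct_comm v, ← dotProduct_mulVec]
      change w ⬝ᵥ (g⁻¹).1 *ᵥ (g.1 *ᵥ v) = 0 ↔ _
      rw [mulVec_mulVec, Units.inv_mul, one_mulVec]
    refine ⟨mk F _ h0, ?_⟩
    ext x
    simp only [blk, Finset.mem_smul_finset, Finset.mem_filter, Finset.mem_univ, true_and]
    constructor
    · intro hx
      exact ⟨g⁻¹ • x, (key _).1 (by rwa [smul_inv_smul]), smul_inv_smul g x⟩
    · rintro ⟨y, hy, rfl⟩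
      exact (key y).2 hy
  have hk : center (GL (Fin 3) F) = ψ0.ker := by rw [MonoidHom.ker_codRestrict, ker_act]
  let ψ := QuotientGroup.lift _ ψ0 hk.le
  have hψ : Function.Injective ψ := (QuotientGroup.injective_lift_iff _ _ _).2 hk
  obtain ⟨e1, he1⟩ := D21.strong.exists_equiv' hα hB
  obtain ⟨e2, he2⟩ := D21.strong.exists_equiv' c21 hB'
  let χ : G →* setSystemAut B' := ((autEquiv he1).trans (autEquiv he2).symm).toMonoidHom.comp φ
  have hχ : Function.Injective χ := ((autEquiv he1).trans (autEquiv he2).symm).injective.comp hφ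
  have hi : ψ.range.index = 2 := by
    have := ψ.range.card_mul_index
    rw [← Nat.card_congr (MonoidHom.ofInjective hψ).toEquiv, card_pgl hF, L34.card_aut_21 c21 hB'] at this
    omega
  haveI := normal_of_index_eq_two hi
  have h1 : (ψ.range.comap χ).index ∣ 2 := by rw [index_comap, ← hi]; exact relIndex_dvd_index_of_normal _ _
  have h2 := index_eq_one.mp (((Nat.dvd_prime Nat.prime_two).mp h1).resolve_right (hG _))
  exact ⟨(MonoidHom.ofInjective hψ).symm.toMonoidHom.comp (χ.codRestrict _ fun g => (h2.ge (mem_top g) :)),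
    (MonoidHom.ofInjective hψ).symm.injective.comp ((χ.injective_codRestrict _ _).2 hχ)⟩

end Cfsg.Agent.H2.L4
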