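import Cfsg.Agent.H2.L4e
import Cfsg.Agent.H2.L4f

/-! The Sylow `2`-subgroup of `PSL₃(4)`. -/

set_option autoImplicit false
set_option linter.unusedSectionVars false

namespace Cfsg.Agent.H2.L4

open Subgroup Cfsg.Agent.FT Cfsg.Agent.L0 Cfsg.Agent.H8

universe u

theorem Ty.map {G G' : Type*} [Group G] [Finite G] [Group G'] [Finite G'] {Z E U S : Subgroup G} (p : Ty Z E U S)
    {f : G →* G'} (hf : Function.Injective f) : Ty (Z.map f) (E.map f) (U.map f) (S.map f) :=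
  ⟨by rw [card_map_of_injective hf, p.cZ], by rw [card_map_of_injective hf, p.cE],
    by rw [card_map_of_injective hf, p.cU], by rintro _ ⟨x, hx, rfl⟩; rw [← map_mul, p.sE x hx, map_one],
    by rintro _ ⟨x, hx, rfl⟩; rw [← map_mul, p.sU x hx, map_one], by rw [← map_inf _ _ _ hf, p.inf],
    by rw [← Subgroup.map_sup, p.sup], (map_mono p.nE).trans (le_normalizer_map f),
    (map_mono p.nU).trans (le_normalizer_map f), by
      rintro _ ⟨x, hx, rfl⟩ _ ⟨y, hy, rfl⟩ e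
      exact (p.ce0 x hx y hy (hf (by rw [map_mul, map_mul, e]))).imp (mem_map_of_mem f) (mem_map_of_mem f)⟩

/-- the unitriangular group -/
@[ext] structure Hs (F : Type*) where
  a : F
  b : F
  c : F

variable {F : Type*} [Field F]

instance : Mul (Hs F) := ⟨fun x y => ⟨x.a + y.a, x.b + y.b, x.c + y.c + x.a * y.b⟩⟩
instance : One (Hs F) := ⟨⟨0, 0, 0⟩⟩
instance : Inv (Hs F) := ⟨fun x => ⟨-x.a, -x.b, -x.c + x.a * x.b⟩⟩
theorem Hs.mul_def (x y : Hs F) : x * y = ⟨x.a + y.a, x.b + y.b, x.c + y.c + x.a * y.b⟩ := rfl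
theorem Hs.one_def : (1 : Hs F) = ⟨0, 0, 0⟩ := rfl
theorem Hs.inv_def (x : Hs F) : x⁻¹ = ⟨-x.a, -x.b, -x.c + x.a * x.b⟩ := rfl

instance : Group (Hs F) := Group.ofLeftAxioms
  (fun x y z => by ext <;> simp only [Hs.mul_def] <;> ring)
  (fun x => by ext <;> simp [Hs.mul_def, Hs.one_def])
  fun x => by ext <;> simp [Hs.mul_def, Hs.one_def, Hs.inv_def]

/-- coordinates -/
def Hs.eqv : Hs F ≃ F × F × F := ⟨fun x => (x.a, x.b, x.c), fun x => ⟨x.1, x.2.1, x.2.2⟩, fun _ => rfl, fun _ => rfl⟩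

instance [Finite F] : Finite (Hs F) := Finite.of_equiv _ Hs.eqv.symm

/-- `a = 0` -/
def Hs.E : Subgroup (Hs F) where
  carrier := {x | x.a = 0}
  one_mem' := rfl
  mul_mem' {x y} hx hy := show x.a + y.a = 0 by rw [hx, hy, add_zero]
  inv_mem' {x} hx := show -x.a = 0 by rw [hx, neg_zero]

/-- `b = 0` -/
def Hs.U : Subgroup (Hs F) where
  carrier := {x | x.b = 0}
  one_mem' := rfl
  mul_mem' {x y} hx hy := show x.b + y.b = 0 by rw [hx, hy, add_zero]
  inv_mem' {x} hx := show -x.b = 0 by rw [hx, neg_zero]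

variable [Fintype F]

theorem Hs.ty (hF : Fintype.card F = 4) : Ty (Hs.E ⊓ Hs.U : Subgroup (Hs F)) Hs.E Hs.U ⊤ := by
  have h2 : ∀ x : F, x + x = 0 := fun x => by
    have := FiniteField.cast_card_eq_zero F
    rw [hF, show ((4 : ℕ) : F) = 2 * 2 by norm_num, mul_self_eq_zero] at this
    rw [← two_mul, this, zero_mul]
  have c4 : Nat.card F = 4 := Nat.card_eq_fintype_card.trans hF
  refine ⟨?_, ?_, ?_, fun x hx => ?_, fun x hx => ?_, rfl, eq_top_iff.mpr fun x _ => ?_, fun g _ => ?_, fun g _ => ?_,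
    fun x hx y hy e => ?_⟩
  · rw [← c4]
    exact Nat.card_congr ⟨fun x => x.1.c, fun c => ⟨⟨0, 0, c⟩, rfl, rfl⟩,
      fun x => Subtype.ext (Hs.ext x.2.1.symm x.2.2.symm rfl), fun _ => rfl⟩
  · rw [show 16 = Nat.card (F × F) by rw [Nat.card_prod, c4]]
    exact Nat.card_congr ⟨fun x => (x.1.b, x.1.c), fun c => ⟨⟨0, c.1, c.2⟩, rfl⟩,
      fun x => Subtype.ext (Hs.ext x.2.symm rfl rfl), fun _ => rfl⟩
  · rw [show 16 = Nat.card (F × F) by rw [Nat.card_prod, c4]]
    exact Nat.card_congr ⟨fun x => (x.1.a, x.1.c), fun c => ⟨⟨c.1, 0, c.2⟩, rfl⟩,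
      fun x => Subtype.ext (Hs.ext rfl x.2.symm rfl), fun _ => rfl⟩
  · have : x.a = 0 := hx
    ext <;> simp [Hs.mul_def, Hs.one_def, h2, this]
  · have : x.b = 0 := hx
    ext <;> simp [Hs.mul_def, Hs.one_def, h2, this]
  · rw [show x = ⟨0, x.b, x.c⟩ * ⟨x.a, 0, 0⟩ by ext <;> simp [Hs.mul_def]]
    exact mul_mem (mem_sup_left rfl) (mem_sup_right rfl)
  · exact mem_normalizer_iff.mpr fun x => by
      change x.a = 0 ↔ g.a + x.a + -g.a = 0
      rw [add_neg_cancel_comm]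
  · exact mem_normalizer_iff.mpr fun x => by
      change x.b = 0 ↔ g.b + x.b + -g.b = 0
      rw [add_neg_cancel_comm]
  · have h1 : x.a = 0 := hx
    have := congrArg Hs.c e
    simp only [Hs.mul_def, h1, zero_mul, add_zero, add_comm y.c, left_eq_add, mul_eq_zero] at this
    exact this.symm.imp (fun h => ⟨hx, h⟩) fun h => ⟨h, hy⟩

open Matrix in
theorem Hs.sylow (hF : Fintype.card F = 4) (P : Sylow 2 (ProjectiveSpecialLinearGroup (Fin 3) F)) :
    Nonempty (Hs F ≃* P) := by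
  classical
  let f0 : Hs F →* SpecialLinearGroup (Fin 3) F := MonoidHom.mk'
    (fun x => ⟨!![1, x.a, x.c; 0, 1, x.b; 0, 0, 1], by simp [det_fin_three]⟩) fun x y => Subtype.ext (by
      change !![1, x.a + y.a, x.c + y.c + x.a * y.b; 0, 1, x.b + y.b; 0, 0, 1] =
        !![1, x.a, x.c; 0, 1, x.b; 0, 0, 1] * !![1, y.a, y.c; 0, 1, y.b; 0, 0, 1]
      rw [mul_fin_three]
      ext i j
      fin_cases i <;> fin_cases j <;> simp <;> ring)
  let f : Hs F →* ProjectiveSpecialLinearGroup (Fin 3) F := (QuotientGroup.mk' _).comp f0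
  have hf : Function.Injective f := (injective_iff_map_eq_one f).mpr fun x hx => by
    obtain ⟨r, -, hr⟩ := Matrix.SpecialLinearGroup.mem_center_iff.mp ((QuotientGroup.eq_one_iff (f0 x)).mp hx)
    have h1 := congrFun (congrFun hr 0) 1
    have h2 := congrFun (congrFun hr 1) 2
    have h3 := congrFun (congrFun hr 0) 2
    simp [f0] at h1 h2 h3
    exact Hs.ext h1.symm h2.symm h3.symm
  have c1 : Nat.card f.range = 2 ^ 6 := by
    rw [← Nat.card_congr (MonoidHom.ofInjective hf).toEquiv, Nat.card_congr Hs.eqv, Nat.card_prod, Nat.card_prod,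
      Nat.card_eq_fintype_card, hF]; rfl
  have c2 := card_dvd_of_injective _ (ProjectiveSpecialLinearGroup.toPGL_injective (n := Fin 3) (R := F))
  rw [show Nat.card (ProjGenLinGroup (Fin 3) F) = 60480 from card_pgl hF] at c2
  have s : IsSylowIn 2 f.range ⊤ := IsSylowIn.of_not_dvd_relIndex le_top (IsPGroup.of_card c1) fun h => by
    rw [relIndex_top_right] at h
    rw [← f.range.card_mul_index, c1] at c2
    exact absurd ((Nat.mul_dvd_mul_left _ h).trans c2) (by norm_num)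
  obtain ⟨k, -, e⟩ := s.exists_cj_eq (isSylowIn_top P)
  exact ⟨(MonoidHom.ofInjective hf).trans (((MulAut.conj k).subgroupMap f.range).trans (MulEquiv.subgroupCongr e))⟩

theorem embed {G : Type u} [Group G] [Finite G] {Z E U S : Subgroup G} (p : Ty Z E U S) (hS : IsSylowIn 2 S ⊤)
    (hO : pPrimeCore 2 G = ⊥) (hF : Fintype.card F = 4) :
    ∃ f : G →* GL (Fin 3) F ⧸ center (GL (Fin 3) F), Function.Injective f := by
  by_cases hU : 𝐍(U) ≤ 𝐍(Z)
  · exact p.case1 hS hO (p.normal hS hO hU) hF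
  by_cases hE : 𝐍(E) ≤ 𝐍(Z)
  · exact p.symm.case1 hS hO (p.symm.normal hS hO hE) hF
  obtain ⟨α, _, _, B, hα, hB, φ, hφ⟩ := T2.plane ⟨p, hS, hO, hE, hU⟩
  exact embed_of_plane hF hα hB φ hφ (p.index_ne hS hE hU)

end Cfsg.Agent.H2.L4
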