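import Mathlib.Algebra.BigOperators.Ring.Finset
import Mathlib.Algebra.Order.BigOperators.Group.Finset
import Mathlib.Data.Complex.Basic
import Mathlib.Tactic

/-! Integer vectors with a prescribed Gram matrix: the numerical part of the Brauer–Wong theorem. -/

set_option autoImplicit false

namespace Cfsg.Agent.H2.Wg

open Finset

variable {ι : Type*} [Fintype ι] [DecidableEq ι]

theorem sum_supp {R : Type*} [CommRing R] (v : ι → ℤ) (s : Finset ι) (h : ∀ k, k ∉ s → v k = 0) (F : ι → R) :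
    ∑ k, (v k : R) * F k = ∑ k ∈ s, (v k : R) * F k :=
  (sum_subset (subset_univ s) fun k _ hk => by rw [h k hk]; simp).symm

theorem sq_le (v : ι → ℤ) (s : Finset ι) : ∑ k ∈ s, v k * v k ≤ ∑ k, v k * v k :=
  sum_le_sum_of_subset_of_nonneg (subset_univ s) fun k _ _ => mul_self_nonneg _

theorem rest (v : ι → ℤ) (s : Finset ι) (h : ∑ k, v k * v k = ∑ k ∈ s, v k * v k + 1) :
    ∃ i, i ∉ s ∧ v i * v i = 1 ∧ ∀ k, k ∉ s → k ≠ i → v k = 0 := by
  rw [← sum_sdiff (subset_univ s), add_comm, add_right_inj] at h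
  obtain ⟨i, hi, h0⟩ : ∃ i ∈ univ \ s, v i * v i ≠ 0 := by
    by_contra hn
    push Not at hn
    rw [sum_eq_zero hn] at h
    exact zero_ne_one h
  rw [← add_sum_erase _ _ hi] at h
  have h1 : 0 ≤ ∑ k ∈ (univ \ s).erase i, v k * v k := sum_nonneg fun k _ => mul_self_nonneg _
  have h2 : 0 < v i * v i := lt_of_le_of_ne (mul_self_nonneg _) h0.symm
  have h3 : ∑ k ∈ (univ \ s).erase i, v k * v k = 0 := by omega
  refine ⟨i, (mem_sdiff.1 hi).2, by omega, fun k hk hki => ?_⟩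
  exact mul_self_eq_zero.1 ((sum_eq_zero_iff_of_nonneg fun k _ => mul_self_nonneg _).1 h3 k
    (mem_erase.2 ⟨hki, mem_sdiff.2 ⟨mem_univ _, hk⟩⟩))

theorem pm {a : ℤ} (h : a * a ≤ 3) : a = -1 ∨ a = 0 ∨ a = 1 := by
  have : a < 2 := by nlinarith
  have : -2 < a := by nlinarith
  omega

theorem pm1 {a : ℤ} (h : a * a = 1) : a = -1 ∨ a = 1 := by
  rcases pm (h.le.trans (by norm_num)) with e | e | e <;> simp_all

theorem small (v : ι → ℤ) (h : ∑ k, v k * v k ≤ 3) (i : ι) : v i = -1 ∨ v i = 0 ∨ v i = 1 :=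
  pm (by simpa using (sq_le v {i}).trans h)

theorem three (v : ι → ℤ) (o : ι) (h : ∑ k, v k * v k = 3) (h0 : v o = 1) :
    ∃ i j, i ≠ o ∧ j ≠ o ∧ i ≠ j ∧ v i * v i = 1 ∧ v j * v j = 1 ∧ ∀ k, k ≠ o → k ≠ i → k ≠ j → v k = 0 := by
  obtain ⟨i, hi⟩ : ∃ i, i ≠ o ∧ v i ≠ 0 := by
    by_contra hn
    push Not at hn
    have := sum_supp v {o} (fun k hk => hn k (by simpa using hk)) v
    simp [h0] at this
    omega
  have h1 : v i * v i = 1 := by rcases small v h.le i with e | e | e <;> simp_all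
  obtain ⟨j, hj, h2, h3⟩ := rest v {o, i} (by rw [sum_pair hi.1.symm, h, h0, h1]; norm_num)
  simp only [mem_insert, mem_singleton, not_or] at hj h3
  exact ⟨i, j, hi.1, hj.1, fun e => hj.2 e.symm, h1, h2, fun k a b c => h3 k ⟨a, b⟩ c⟩

theorem sum3 {R : Type*} [CommRing R] {v : ι → ℤ} {o i j : ι} (h1 : i ≠ o) (h2 : j ≠ o) (h3 : i ≠ j)
    (h : ∀ k, k ≠ o → k ≠ i → k ≠ j → v k = 0) (F : ι → R) :
    ∑ k, (v k : R) * F k = v o * F o + v i * F i + v j * F j := by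
  rw [sum_supp v {o, i, j} (fun k hk => by simp only [mem_insert, mem_singleton, not_or] at hk; exact h k hk.1 hk.2.1 hk.2.2),
    sum_insert (by simp [h1.symm, h2.symm]), sum_pair h3, add_assoc]

theorem sum2 {R : Type*} [CommRing R] {v : ι → ℤ} {i j : ι} (h3 : i ≠ j)
    (h : ∀ k, k ≠ i → k ≠ j → v k = 0) (F : ι → R) : ∑ k, (v k : R) * F k = v i * F i + v j * F j := by
  rw [sum_supp v {i, j} (fun k hk => by simp only [mem_insert, mem_singleton, not_or] at hk; exact h k hk.1 hk.2),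
    sum_pair h3]

theorem two (v : ι → ℤ) (i : ι) (h : ∑ k, v k * v k = 2) (h0 : v i * v i = 1) :
    ∃ j, i ≠ j ∧ v j * v j = 1 ∧ ∀ k, k ≠ i → k ≠ j → v k = 0 := by
  obtain ⟨j, hj, h2, h3⟩ := rest v {i} (by rw [sum_singleton, h, h0]; norm_num)
  simp only [mem_singleton] at hj h3
  exact ⟨j, fun e => hj e.symm, h2, h3⟩

theorem dioph {x y : ℤ} {κ : ℂ} (hκ : κ ≠ 0) (hx : x ≠ 0) (hx' : -1 - x ≠ 0) (hy : y ≠ 0) (hy' : -1 - y ≠ 0)
    (he : y - x ≠ 0) (h8 : 8 ∣ x - 2) (e5 : 1 + 4 / (x : ℂ) + 9 / (-1 - x) = 2 * κ)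
    (e3 : 1 + 9 / (y : ℂ) + 16 / (-1 - y) = 4 * κ)
    (e4 : -(9 / (-1 - x : ℂ)) + 16 / (-1 - y) + 1 / (y - x) = 4 * κ) :
    (x = 10 ∧ κ = 16 / 55) ∨ (y = -13 ∧ κ = 16 / 39) := by
  have a1 : (x : ℂ) ≠ 0 := by exact_mod_cast hx
  have a2 : (-1 - x : ℂ) ≠ 0 := by exact_mod_cast hx'
  have a3 : (y : ℂ) ≠ 0 := by exact_mod_cast hy
  have a4 : (-1 - y : ℂ) ≠ 0 := by exact_mod_cast hy'
  have a5 : (y - x : ℂ) ≠ 0 := by exact_mod_cast he
  have f2 : ((y - x - 1) * ((x - 8) * (y + 9) + 72) : ℤ) = 0 := by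
    have : 1 + 9 / (y : ℂ) = -(9 / (-1 - x : ℂ)) + 1 / (y - x) := by linear_combination e3 - e4
    field_simp at this
    have h : (((y - x - 1) * ((x - 8) * (y + 9) + 72) : ℤ) : ℂ) = 0 := by push_cast; linear_combination -this
    exact_mod_cast h
  have hx2 : x ≠ 2 := by
    rintro rfl
    norm_num at e5
    exact hκ e5
  rcases mul_eq_zero.1 f2 with h | h
  · obtain rfl : y = x + 1 := by omega
    have : 2 * (1 + 4 / (x : ℂ) + 9 / (-1 - x)) = 1 + 9 / ((x + 1 : ℤ) : ℂ) + 16 / (-1 - (x + 1 : ℤ)) := by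
      linear_combination 2 * e5 - e3
    field_simp at this
    have h : (((x - 2) ^ 2 * (x + 1) * (x + 4) : ℤ) : ℂ) = 0 := by push_cast at this ⊢; linear_combination this
    have h' : (x - 2) ^ 2 * (x + 1) * (x + 4) = 0 := by exact_mod_cast h
    simp only [mul_eq_zero, pow_eq_zero_iff, ne_eq, OfNat.ofNat_ne_zero, not_false_eq_true] at h'
    omega
  · obtain ⟨m, hm⟩ := h8
    obtain rfl : x = 8 * m + 2 := by omega
    have hd : (4 * m - 3) ∣ 36 := ⟨-(y + 9), by nlinarith⟩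
    have h1 := Int.le_of_dvd (by norm_num) hd
    have h2 := Int.le_of_dvd (by norm_num) (neg_dvd.2 hd)
    have h3 : -9 < m := by omega
    have h4 : m < 10 := by omega
    clear hd h1 h2 f2
    interval_cases m <;> first | omega | skip
    · left
      refine ⟨rfl, ?_⟩
      norm_num at e5
      linear_combination -e5 / 2
    · right
      obtain rfl : y = -13 := by omega
      refine ⟨rfl, ?_⟩
      norm_num at e3
      linear_combination -e3 / 4

theorem hA {a a' p p' s : ℤ} (h : a * a = 1) (h' : a' * a' = 1) (hp : p = -1 ∨ p = 0 ∨ p = 1)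
    (hp' : p' = -1 ∨ p' = 0 ∨ p' = 1) (e : a * p + a' * p' = s) (hs : s = 1 ∨ s = -1) (hn : p' ≠ 0) : p = 0 := by
  rcases pm1 h with rfl | rfl <;> rcases pm1 h' with rfl | rfl <;> omega

theorem hB {a p s : ℤ} (h : a * a = 1) (e : a * p = s) : p = s * a := by
  rw [← e]; linear_combination -p * h

/-- the decomposition of the five generalized characters -/
theorem numeric (o : ι) (a b c p q d v : ι → ℤ) (κ : ℂ) (hκ : κ ≠ 0) (hd : ∀ k, 0 < d k) (d0 : d o = 1)
    (a0 : a o = 1) (b0 : b o = 1) (c0 : c o = 0) (p0 : p o = 0) (q0 : q o = 0)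
    (aa : ∑ k, a k * a k = 3) (bb : ∑ k, b k * b k = 3) (cc : ∑ k, c k * c k = 3) (pp : ∑ k, p k * p k = 2)
    (qq : ∑ k, q k * q k = 2) (ab : ∑ k, a k * b k = 1) (ac : ∑ k, a k * c k = -1) (ap : ∑ k, a k * p k = -1)
    (aq : ∑ k, a k * q k = -1) (bc : ∑ k, b k * c k = 1) (pb : ∑ k, p k * b k = 0) (qb : ∑ k, q k * b k = 0)
    (pc : ∑ k, p k * c k = 0) (qc : ∑ k, q k * c k = 0) (pq : ∑ k, p k * q k = 1)
    (ad : ∑ k, a k * d k = 0) (bd : ∑ k, b k * d k = 0) (cd : ∑ k, c k * d k = 0) (pd : ∑ k, p k * d k = 0)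
    (qd : ∑ k, q k * d k = 0) (hv : ∀ k, v k = 3 * b k + c k - 2 * p k - 2 * q k - 2 * a k)
    (h8 : ∀ k, 8 ∣ d k + v k - 2 * (2 * a k - b k + c k))
    (e5 : ∑ k, (a k : ℂ) * ((v k) ^ 2 / d k) = 2 * κ) (e3 : ∑ k, (b k : ℂ) * ((v k) ^ 2 / d k) = 4 * κ)
    (e4 : ∑ k, (c k : ℂ) * ((v k) ^ 2 / d k) = 4 * κ) :
    (κ = 16 / 55 ∨ κ = 16 / 39) ∧ ∃ k, k ≠ o ∧ d k = v k + 8 := by
  obtain ⟨j1, j2, j10, j20, j12, bj1, bj2, hb⟩ := three b o bb b0
  obtain ⟨i1, i2, i10, i20, i12, ai1, ai2, ha⟩ := three a o aa a0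
  have sa := fun F => sum3 (R := ℤ) i10 i20 i12 ha F
  simp only [Int.cast_id] at sa
  rw [sa, a0, p0] at ap
  wlog w1 : p i2 = 0 generalizing i1 i2
  · exact this i2 i1 (by linarith) i20 i10 i12.symm ai2 ai1 (fun k x y z => ha k x z y) (fun F => by rw [sa]; ring)
      (hA ai1 ai2 (small p (by omega) i1) (small p (by omega) i2) (by linarith) (Or.inr rfl) w1)
  have sb := fun F => sum3 (R := ℤ) j10 j20 j12 hb F
  simp only [Int.cast_id] at sb
  rw [sb, b0, c0] at bc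
  wlog w2 : c j1 = 0 generalizing j1 j2
  · exact this j2 j1 (by linarith) j20 j10 j12.symm bj2 bj1 (fun k x y z => hb k x z y) (fun F => by rw [sb]; ring)
      (hA bj2 bj1 (small c (by omega) j2) (small c (by omega) j1) (by linarith) (Or.inl rfl) w2)
  rw [sa, a0, d0] at ad
  rw [sa, a0, b0] at ab
  rw [sa, a0, c0] at ac
  rw [sa, a0, q0] at aq
  have D1 := hd i1
  have D2 := hd i2
  have bi : b i1 = 0 ∧ b i2 = 0 := by
    by_contra hn
    have n1 : b i1 ≠ 0 := fun e => hn ⟨e, by rw [hB ai2 (by rw [e] at ab; linarith : a i2 * b i2 = 0), zero_mul]⟩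
    have n2 : b i2 ≠ 0 := fun e => hn ⟨by rw [hB ai1 (by rw [e] at ab; linarith : a i1 * b i1 = 0), zero_mul], e⟩
    have hb' : ∀ k, k ≠ o → k ≠ i1 → k ≠ i2 → b k = 0 := fun k k0 k1 k2 => by
      have := sq_le b {o, i1, i2, k}
      rw [sum_insert (by simp [i10.symm, i20.symm, k0.symm]), sum_insert (by simp [i12, k1.symm]), sum_pair k2.symm,
        bb, b0] at this
      have := mul_self_pos.2 n1
      have := mul_self_pos.2 n2
      exact mul_self_eq_zero.1 (le_antisymm (by omega) (mul_self_nonneg _))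
    have := sum3 (R := ℤ) i10 i20 i12 hb' d
    simp only [Int.cast_id] at this
    rw [this, b0, d0] at bd
    rcases small b (by omega) i1 with e | e | e <;> rcases small b (by omega) i2 with e' | e' | e' <;>
      rcases pm1 ai1 with f | f <;> rcases pm1 ai2 with f' | f' <;> rw [e, e'] at bd ab <;> rw [f, f'] at ad ab <;> omega
  have pi1 : p i1 = -a i1 := by rw [hB ai1 (by rw [w1] at ap; linarith : a i1 * p i1 = -1)]; ring
  obtain ⟨k, ik, pk, hp⟩ := two p i1 pp (by rw [pi1]; linarith)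
  have sp := fun F => sum2 (R := ℤ) ik hp F
  simp only [Int.cast_id] at sp
  rw [sp] at pb pc pq pd
  have bk : b k = 0 := by rw [hB pk (by rw [bi.1] at pb; linarith : p k * b k = 0), zero_mul]
  have Dk := hd k
  have qi2 : q i2 = 0 := by
    by_contra hn
    have q1 : q i1 = 0 := hA ai1 ai2 (small q (by omega) i1) (small q (by omega) i2) (by linarith) (Or.inr rfl) hn
    have ki : i2 ≠ k := by rintro rfl; simp [w1] at pk
    have q2 : q i2 = -a i2 := by rw [hB ai2 (by rw [q1] at aq; linarith : a i2 * q i2 = -1)]; ring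
    have qk : q k = p k := by rw [hB pk (by rw [q1] at pq; linarith : p k * q k = 1), one_mul]
    obtain ⟨k', ik', -, hq⟩ := two q i2 qq (by rw [q2]; linarith)
    obtain rfl : k = k' := by
      by_contra hn'
      rw [hq k ki.symm hn'] at qk
      simp [← qk] at pk
    have := sum2 (R := ℤ) ik' hq d
    simp only [Int.cast_id] at this
    rw [this, q2, qk] at qd
    rw [pi1] at pd
    have : 1 + 2 * (a i1 * d i1) = 0 := by linarith
    omega
  have qi1 : q i1 = -a i1 := by rw [hB ai1 (by rw [qi2] at aq; linarith : a i1 * q i1 = -1)]; ring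
  have qk : q k = 0 := by
    rw [hB pk (by rw [pi1, qi1] at pq; linarith : p k * q k = 0), zero_mul]
  obtain ⟨k', ik', qk', hq⟩ := two q i1 qq (by rw [qi1]; linarith)
  have sq := fun F => sum2 (R := ℤ) ik' hq F
  simp only [Int.cast_id] at sq
  rw [sq] at qb qc
  have bk' : b k' = 0 := by rw [hB qk' (by rw [bi.1] at qb; linarith : q k' * b k' = 0), zero_mul]
  have cj2 : c j2 = b j2 := by rw [hB bj2 (by rw [w2] at bc; linarith : b j2 * c j2 = 1), one_mul]
  have nb : ∀ {l j}, b l = 0 → b j * b j = 1 → l ≠ j := by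
    rintro l j h1 h2 rfl
    simp [h1] at h2
  have ci1 : c i1 = 0 := by
    by_contra hn
    have n0 : a i1 * c i1 ≠ 0 := mul_ne_zero (by rintro e; simp [e] at ai1) hn
    have n1 : c k ≠ 0 := fun e => n0 (by rw [pi1, e] at pc; linarith)
    have n2 : c k' ≠ 0 := fun e => n0 (by rw [qi1, e] at qc; linarith)
    have kk : k ≠ k' := by rintro rfl; simp [qk] at qk'
    have := sq_le c {i1, k, k', j2}
    rw [sum_insert (by simp [ik, ik', nb bi.1 bj2]), sum_insert (by simp [kk, nb bk bj2]), sum_pair (nb bk' bj2),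
      cc, cj2, bj2] at this
    have := mul_self_pos.2 hn
    have := mul_self_pos.2 n1
    have := mul_self_pos.2 n2
    omega
  have ck : c k = 0 := by rw [hB pk (by rw [ci1] at pc; linarith : p k * c k = 0), zero_mul]
  have ck' : c k' = 0 := by rw [hB qk' (by rw [ci1] at qc; linarith : q k' * c k' = 0), zero_mul]
  have ci2 : c i2 = -a i2 := by rw [hB ai2 (by rw [ci1] at ac; linarith : a i2 * c i2 = -1)]; ring
  obtain ⟨e, he, ce, hc⟩ := rest c {i2, j2} (by rw [sum_pair (nb bi.2 bj2), cc, ci2, cj2]; linarith)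
  simp only [mem_insert, mem_singleton, not_or] at he hc
  have nc : ∀ {l}, c l = 0 → e ≠ l := by
    rintro l h1 rfl
    simp [h1] at ce
  have hc' : ∀ l, l ≠ e → l ≠ i2 → l ≠ j2 → c l = 0 := fun l x y z => hc l ⟨y, z⟩ x
  have aj : ∀ {j}, j ≠ o → b j * b j = 1 → a j = 0 ∧ p j = 0 ∧ q j = 0 := fun {j} h1 h2 =>
    ⟨ha j h1 (nb bi.1 h2).symm (nb bi.2 h2).symm, hp j (nb bi.1 h2).symm (nb bk h2).symm,
      hq j (nb bi.1 h2).symm (nb bk' h2).symm⟩
  have v0 : v o = 1 := by rw [hv, a0, b0, c0, p0, q0]; norm_num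
  have v1 : v i1 = 2 * a i1 := by rw [hv, bi.1, ci1, pi1, qi1]; ring
  have v2 : v i2 = -3 * a i2 := by rw [hv, bi.2, ci2, w1, qi2]; ring
  have v3 : v j1 = 3 * b j1 := by rw [hv, w2, (aj j10 bj1).1, (aj j10 bj1).2.1, (aj j10 bj1).2.2]; ring
  have v4 : v j2 = 4 * b j2 := by rw [hv, cj2, (aj j20 bj2).1, (aj j20 bj2).2.1, (aj j20 bj2).2.2]; ring
  have v5 : v e = c e := by
    rw [hv, ha e (nc c0) (nc ci1) he.1, hb e (nc c0) (nc w2) he.2, hp e (nc ci1) (nc ck), hq e (nc ci1) (nc ck')]; ring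
  rw [sum3 i10 i20 i12 ha, a0, v0, d0, v1, v2] at e5
  rw [sum3 j10 j20 j12 hb, b0, v0, d0, v3, v4] at e3
  rw [sum3 (Ne.symm he.1) (Ne.symm he.2) (nb bi.2 bj2) hc', v2, v4, v5, ci2, cj2] at e4
  rw [sb, b0, d0] at bd
  have := sum3 (R := ℤ) (Ne.symm he.1) (Ne.symm he.2) (nb bi.2 bj2) hc' d
  simp only [Int.cast_id] at this
  rw [this, ci2, cj2] at cd
  have key : ∀ {s n : ℤ} (r : ℤ), s * s = 1 → (s : ℂ) * (((r * s : ℤ) : ℂ) ^ 2 / n) = r ^ 2 / ((s * n : ℤ) : ℂ) := by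
    intro s n r hs
    rcases pm1 hs with f | f <;> simp [f, div_neg]
  have x2 : ((a i2 * d i2 : ℤ) : ℂ) = -1 - (a i1 * d i1 : ℤ) := by exact_mod_cast (by linarith : a i2 * d i2 = -1 - a i1 * d i1)
  have y2 : ((b j2 * d j2 : ℤ) : ℂ) = -1 - (b j1 * d j1 : ℤ) := by exact_mod_cast (by linarith : b j2 * d j2 = -1 - b j1 * d j1)
  have ee : ((c e * d e : ℤ) : ℂ) = (b j1 * d j1 : ℤ) - (a i1 * d i1 : ℤ) := by
    exact_mod_cast (by linarith : c e * d e = b j1 * d j1 - a i1 * d i1)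
  have nz : ∀ {s : ℤ} (l), s * s = 1 → s * d l ≠ 0 := fun l hs =>
    mul_ne_zero (by rintro e; simp [e] at hs) (hd l).ne'
  have k5 := key (n := d e) 1 ce
  rw [one_mul] at k5
  rw [key 2 ai1, key (-3) ai2, x2] at e5
  rw [key 3 bj1, key 4 bj2, y2] at e3
  rw [k5, Int.cast_neg, neg_mul, key (-3) ai2, key 4 bj2, x2, y2, ee] at e4
  have h81 := h8 i1
  rw [v1, bi.1, ci1] at h81
  rcases dioph (x := a i1 * d i1) (y := b j1 * d j1) hκ (nz _ ai1) (by have := nz i2 ai2; omega) (nz _ bj1)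
    (by have := nz j2 bj2; omega) (fun h => nz e ce (by linarith))
    (by rcases pm1 ai1 with f | f <;> rw [f] at h81 ⊢ <;> omega)
    (by rw [← e5]; push_cast; ring) (by rw [← e3]; push_cast; ring) (by rw [← e4]; push_cast; ring) with h | h
  · refine ⟨Or.inl h.2, i1, i10, ?_⟩
    have := h.1
    rcases pm1 ai1 with f | f <;> rw [f] at this v1 <;> omega
  · refine ⟨Or.inr h.2, j2, j20, ?_⟩
    have := h.1
    have := hd j2
    rcases pm1 bj2 with f | f <;> rw [f] at bd v4 <;> omega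

end Cfsg.Agent.H2.Wg
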