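import Mathlib.LinearAlgebra.Matrix.GeneralLinearGroup.Card
import Mathlib.Algebra.Field.ZMod
import Mathlib.GroupTheory.PGroup
import Mathlib.Algebra.Group.MinimalAxioms
import Mathlib.Tactic

/-! A computable model of `GL₂(3)`. -/

set_option autoImplicit false

namespace Cfsg.Agent.H2.Wg

open Subgroup

/-- invertible two by two matrices over the field of three elements -/
def Y : Type := {m : ZMod 3 × ZMod 3 × ZMod 3 × ZMod 3 // (m.1 * m.2.2.2 - m.2.1 * m.2.2.1) ^ 2 = 1}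

instance Y.decEq : DecidableEq Y := by unfold Y; infer_instance
instance Y.fintype : Fintype Y := by unfold Y; infer_instance

instance Y.mul : Mul Y := ⟨fun x y => ⟨(x.1.1 * y.1.1 + x.1.2.1 * y.1.2.2.1, x.1.1 * y.1.2.1 + x.1.2.1 * y.1.2.2.2,
    x.1.2.2.1 * y.1.1 + x.1.2.2.2 * y.1.2.2.1, x.1.2.2.1 * y.1.2.1 + x.1.2.2.2 * y.1.2.2.2), by
  have h1 := x.2
  have h2 := y.2
  dsimp only
  linear_combination (y.1.1 * y.1.2.2.2 - y.1.2.1 * y.1.2.2.1) ^ 2 * h1 + h2⟩⟩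

instance Y.one : One Y := ⟨⟨(1, 0, 0, 1), by decide⟩⟩

/-- the determinant -/
def Y.det (x : Y) : ZMod 3 := x.1.1 * x.1.2.2.2 - x.1.2.1 * x.1.2.2.1

instance Y.inv : Inv Y := ⟨fun x => ⟨(x.det * x.1.2.2.2, -(x.det * x.1.2.1), -(x.det * x.1.2.2.1), x.det * x.1.1), by
  have h1 := x.2
  dsimp only [Y.det]
  linear_combination ((x.1.1 * x.1.2.2.2 - x.1.2.1 * x.1.2.2.1) ^ 4 + (x.1.1 * x.1.2.2.2 - x.1.2.1 * x.1.2.2.1) ^ 2 + 1) * h1⟩⟩

theorem Y.mul_val (x y : Y) : (x * y).1 = (x.1.1 * y.1.1 + x.1.2.1 * y.1.2.2.1, x.1.1 * y.1.2.1 + x.1.2.1 * y.1.2.2.2,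
    x.1.2.2.1 * y.1.1 + x.1.2.2.2 * y.1.2.2.1, x.1.2.2.1 * y.1.2.1 + x.1.2.2.2 * y.1.2.2.2) := rfl

instance Y.group : Group Y := Group.ofLeftAxioms
  (fun x y z => Subtype.ext (by simp only [Y.mul_val]; ext <;> dsimp only <;> ring))
  (by decide +kernel) (by decide +kernel)

theorem Y.card : Nat.card Y = 48 := by rw [Nat.card_eq_fintype_card]; decide +kernel

/-- the comparison with the matrix group -/
def Y.toGL : Y →* GL (Fin 2) (ZMod 3) where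
  toFun x := Matrix.GeneralLinearGroup.mkOfDetNeZero !![x.1.1, x.1.2.1; x.1.2.2.1, x.1.2.2.2] (by
    have h1 := x.2
    rw [Matrix.det_fin_two_of]
    intro h
    rw [h] at h1
    exact absurd h1 (by decide))
  map_one' := by
    ext i j
    fin_cases i <;> fin_cases j <;> rfl
  map_mul' x y := by
    ext i j
    fin_cases i <;> fin_cases j <;> simp [Y.mul_val, Matrix.mul_apply, Fin.sum_univ_two]

theorem Y.equivGL : Nonempty (Y ≃* GL (Fin 2) (ZMod 3)) := by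
  refine ⟨MulEquiv.ofBijective Y.toGL ((Nat.bijective_iff_injective_and_card _).2 ⟨fun x y h => ?_, ?_⟩)⟩
  · have e := fun i j => congrArg (fun g : GL (Fin 2) (ZMod 3) => g.1 i j) h
    exact Subtype.ext (Prod.ext (e 0 0) (Prod.ext (e 0 1) (Prod.ext (e 1 0) (e 1 1))))
  · rw [Y.card, Matrix.card_GL_field]
    simp [Fin.prod_univ_two]

/-- the central involution -/
def z0 : Y := ⟨(2, 0, 0, 2), by decide⟩
/-- an element of order eight -/
def b0 : Y := ⟨(0, 1, 1, 1), by decide⟩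
/-- an element of order four -/
def j0 : Y := ⟨(0, 1, 2, 0), by decide⟩

/-- the quaternion subgroup -/
def Q0 : Subgroup Y where
  carrier := {y | y.det = 1 ∧ y * y * (y * y) = 1}
  mul_mem' := by
    have : ∀ a : Y, a.det = 1 ∧ a * a * (a * a) = 1 → ∀ b : Y, b.det = 1 ∧ b * b * (b * b) = 1 →
      (a * b).det = 1 ∧ a * b * (a * b) * (a * b * (a * b)) = 1 := by decide +kernel
    exact fun {_ _} ha hb => this _ ha _ hb
  one_mem' := by change _ ∧ _; decide +kernel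
  inv_mem' := by
    have : ∀ a : Y, a.det = 1 ∧ a * a * (a * a) = 1 → a⁻¹.det = 1 ∧ a⁻¹ * a⁻¹ * (a⁻¹ * a⁻¹) = 1 := by decide +kernel
    exact fun {_} ha => this _ ha

theorem mem_Q0 {y : Y} : y ∈ Q0 ↔ y.det = 1 ∧ y * y * (y * y) = 1 := Iff.rfl

instance Q0.dec : DecidablePred (· ∈ Q0) := fun y => inferInstanceAs (Decidable (y.det = 1 ∧ y * y * (y * y) = 1))

instance Q0.normal : Q0.Normal := ⟨by decide +kernel⟩

theorem card_Q0 : Nat.card Q0 = 8 := by rw [Nat.card_eq_fintype_card]; decide +kernel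

theorem cent_Q0 : centralizer (Q0 : Set Y) ≤ Q0 := by
  have : ∀ y : Y, j0 * y = y * j0 → b0 * b0 * y = y * (b0 * b0) → y ∈ Q0 := by decide +kernel
  exact fun y hy => this y (hy _ (by change j0 ∈ Q0; decide +kernel)) (hy _ (by change b0 * b0 ∈ Q0; decide +kernel))

theorem le_Q0 : ∀ y : Y, (∀ g : Y, (y * (g * y * g⁻¹)) ^ 8 = 1) → y ∈ Q0 := by decide +kernel

theorem z0_comm : ∀ g : Y, g * z0 = z0 * g := by decide +kernel
theorem z0_uniq : ∀ y : Y, y * y = 1 → j0 * y = y * j0 → y = 1 ∨ y = z0 := by decide +kernel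
theorem conj_Q0 : ∀ y ∈ Q0, y ≠ 1 → y ≠ z0 → ∃ g : Y, g * (b0 * b0) * g⁻¹ = y := by decide +kernel
theorem cent_i0 : ∀ g : Y, g * (b0 * b0) = b0 * b0 * g → ∃ k : Fin 8, g = b0 ^ k.val := by decide +kernel
theorem b0_pow : b0 ^ 4 = z0 ∧ b0 ^ 8 = 1 ∧ j0 * b0 * j0⁻¹ = b0 ^ 3 ∧ j0 ∈ Q0 ∧ b0 * b0 ∈ Q0 ∧ z0 ≠ 1 ∧ z0 * z0 = 1 ∧
  j0 * (b0 * b0) * j0⁻¹ = (b0 * b0)⁻¹ := by decide +kernel
theorem b0_nconj : ∀ g : Y, g * b0 * g⁻¹ ≠ b0⁻¹ := by decide +kernel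

/-- the non-central involutions -/
def I0 : Finset Y := Finset.univ.filter fun y => y * y = 1 ∧ y ≠ 1 ∧ y ≠ z0

/-- the number of pairs of non-central involutions with a given product -/
def gam (d : Y) : ℕ := ((I0 ×ˢ I0).filter fun p => p.1 * p.2 = d).card

theorem conj_I0 : ∀ y ∈ I0, ∀ y' ∈ I0, ∃ g : Y, g * y * g⁻¹ = y' := by decide +kernel
theorem I0_ne : I0.Nonempty := by decide +kernel
theorem gam_val : gam z0 = 12 ∧ gam (b0 * b0) = 4 ∧ gam b0 = 0 ∧ gam b0⁻¹ = 0 := by decide +kernel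
theorem three_facts : ∀ x : Y, x ^ 3 = 1 → x ≠ 1 → gam (z0 * x) = 6 ∧ (∃ g : Y, g * (z0 * x) * g⁻¹ = (z0 * x)⁻¹) ∧
    (Finset.univ.filter fun g : Y => z0 * x * g = g * (z0 * x)).card = 6 := by decide +kernel
theorem exists_three : ∃ x : Y, x ^ 3 = 1 ∧ x ≠ 1 := by decide +kernel

end Cfsg.Agent.H2.Wg
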