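import Cfsg.Agent.L0.Block4
import Cfsg.Agent.H2.W1
import Cfsg.Agent.H2.W2

/-! Principal block relations on the two-sections of a group whose involution centralizer is `GL₂(3)` modulo its core. -/

set_option autoImplicit false
set_option linter.unusedSectionVars false

namespace Cfsg.Agent.H2.Wg

open Subgroup Cfsg.Agent.L0
open scoped ComplexConjugate

variable {G : Type*} [Group G] [Finite G]

section sec

variable {x : G} {H : Subgroup G} (hH : H = centralizer ({x} : Set G)) {Γ : Type*} [Group Γ] (π : H →* Γ)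
  (hs : Function.Surjective π) (hK : ¬ 2 ∣ Nat.card π.ker) (Q : Subgroup Γ) [Q.Normal] (hQ : IsPGroup 2 Q)
  (hC : centralizer (Q : Set Γ) ≤ Q)

include hC in
theorem cent_comap {Δ : Type*} [Group Δ] (e : Δ ≃* Γ) :
    centralizer ((Q.comap e.toMonoidHom : Subgroup Δ) : Set Δ) ≤ Q.comap e.toMonoidHom := fun y hy =>
  hC fun q hq => by
    have := congrArg e (hy (e.symm q) (by simpa using hq))
    simpa using this

include hH hs hK hQ hC

open Classical in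
theorem sec_orth {g h : H} (hg : IsPPart 2 (g : G) x) (hh : IsPPart 2 (h : G) x) :
    ∑ χ ∈ prinBlk 2 G, χ.1 g * conj (χ.1 h) =
      if IsConj (π g) (π h) then (Nat.card (centralizer ({π g} : Set Γ)) : ℂ) else 0 := by
  let e := QuotientGroup.quotientKerEquivOfSurjective π hs
  rw [sum_prinBlk_section_mul_conj Nat.prime_two hH π.ker hK (Q.comap e.toMonoidHom)
    (hQ.comap_of_injective _ e.injective) (cent_comap Q hC e) hg hh]
  have h1 : IsConj (g : H ⧸ π.ker) (h : H ⧸ π.ker) ↔ IsConj (π g) (π h) :=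
    ⟨fun c => e.toMonoidHom.map_isConj c, fun c => by
      have := e.symm.toMonoidHom.map_isConj c
      rwa [show π g = e g from rfl, show π h = e h from rfl, MulEquiv.coe_toMonoidHom, e.symm_apply_apply,
        e.symm_apply_apply] at this⟩
  have h2 : Nat.card (centralizer ({(g : H ⧸ π.ker)} : Set (H ⧸ π.ker))) = Nat.card (centralizer ({π g} : Set Γ)) := by
    refine Nat.card_congr (e.toEquiv.subtypeEquiv fun y => ?_)
    rw [mem_centralizer_singleton_iff, mem_centralizer_singleton_iff, show π g = e g from rfl, MulEquiv.toEquiv_eq_coe,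
      EquivLike.coe_coe, ← map_mul, ← map_mul, e.injective.eq_iff]
  rw [h2]
  exact if_congr h1 rfl rfl

theorem sec_cls (a : G) {h : H} (hh : IsPPart 2 (h : G) x) :
    ((centralizer ({a} : Set G)).index : ℂ) * (centralizer ({a} : Set G)).index / Nat.card G *
        ∑ χ ∈ prinBlk 2 G, conj (χ.1 a) * conj (χ.1 a) * χ.1 h / χ.1 1 = (Nat.card π.ker : ℂ)⁻¹ *
      Nat.card {p : G × G // IsConj a p.1 ∧ IsConj a p.2 ∧ ∃ hm : p.1 * p.2 ∈ H, π ⟨_, hm⟩ = π h} := by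
  haveI := Fintype.ofFinite G
  haveI := Fintype.ofFinite π.ker
  let e := QuotientGroup.quotientKerEquivOfSurjective π hs
  rw [sum_prinBlk_section_clsMul Nat.prime_two hH π.ker hK (Q.comap e.toMonoidHom)
    (hQ.comap_of_injective _ e.injective) (cent_comap Q hC e) a a hh]
  congr 1
  simp only [clsMul_apply]
  rw [← Nat.cast_sum, ← Nat.card_sigma]
  congr 1
  refine Nat.card_congr (Equiv.ofBijective (fun s => ⟨s.2.1, s.2.2.1, s.2.2.2.1, by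
    rw [s.2.2.2.2]; exact mul_mem s.1.1.2 h.2, by
    rw [show (⟨s.2.1.1 * s.2.1.2, _⟩ : H) = s.1.1 * h from Subtype.ext s.2.2.2.2, map_mul, s.1.2, one_mul]⟩) ⟨?_, ?_⟩)
  · rintro ⟨n, p, hp⟩ ⟨n', p', hp'⟩ e
    obtain rfl : p = p' := congrArg Subtype.val e
    obtain rfl : n = n' := Subtype.ext (Subtype.ext (mul_right_cancel (hp.2.2.symm.trans hp'.2.2)))
    rfl
  · rintro ⟨p, h1, h2, hm, h3⟩
    exact ⟨⟨⟨⟨_, hm⟩ * h⁻¹, by rw [MonoidHom.mem_ker, map_mul, map_inv, h3, mul_inv_cancel]⟩, p, h1, h2, by simp⟩, rfl⟩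

end sec

theorem two_part {g : G} {k : ℕ} (h : g ^ 2 ^ k = 1) : IsPPart 2 g g := by
  obtain ⟨m, -, hm⟩ := (Nat.dvd_prime_pow Nat.prime_two).1 (orderOf_dvd_of_pow_eq_one h)
  exact ⟨1, mul_one g, Commute.one_right g, ⟨m, hm⟩, by simp⟩

theorem odd_pow_eq_one {K : Subgroup G} (hK : ¬ 2 ∣ Nat.card K) {k : G} (hk : k ∈ K) {m : ℕ} (h : k ^ 2 ^ m = 1) : k = 1 := by
  have h1 := orderOf_dvd_of_pow_eq_one h
  have h2 := K.orderOf_dvd_natCard hk
  exact orderOf_eq_one_iff.1 (Nat.eq_one_of_dvd_coprimes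
    (((Nat.Prime.coprime_iff_not_dvd Nat.prime_two).2 hK).pow_left m) h1 h2)

/-- counting pairs of involutions over a given element -/
theorem count {z : G} {H : Subgroup G} (hH : H = centralizer ({z} : Set G)) (hz : orderOf z = 2)
    (h1 : ∀ u : G, orderOf u = 2 → IsConj z u) (π : H →* Y) (hs : Function.Surjective π) (hK : ¬ 2 ∣ Nat.card π.ker)
    {zz : H} (hzz : (zz : G) = z) (pz : π zz = z0) :
    ∃ m : ℕ, 0 < m ∧ m ≤ Nat.card π.ker ∧ ∀ (d : Y) (k : ℕ), d ^ k = z0 →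
      Nat.card {p : G × G // IsConj z p.1 ∧ IsConj z p.2 ∧ ∃ hm : p.1 * p.2 ∈ H, π ⟨_, hm⟩ = d} = gam d * m ^ 2 := by
  classical
  haveI := Fintype.ofFinite H
  have cz : ∀ g : H, g * zz = zz * g := fun g => Subtype.ext (by
    simpa [hzz] using mem_centralizer_singleton_iff.1 (hH.le g.2))
  have z2 : zz * zz = 1 := Subtype.ext (by simpa [hzz, hz, pow_two] using pow_orderOf_eq_one z)
  have ho : Odd (Nat.card π.ker) := Nat.odd_iff.2 (Nat.two_dvd_ne_zero.1 hK)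
  have zo : zz ^ Nat.card π.ker = zz := by
    obtain ⟨r, hr⟩ := ho
    rw [hr, pow_succ, pow_mul, pow_two, z2, one_pow, one_mul]
  let A : Y → Finset H := fun y => Finset.univ.filter fun u => u * u = 1 ∧ π u = y
  have le : ∀ y ∈ I0, ∀ y' ∈ I0, (A y).card ≤ (A y').card := fun y hy y' hy' => by
    obtain ⟨g, rfl⟩ := conj_I0 y hy y' hy'
    obtain ⟨g, rfl⟩ := hs g
    refine Finset.card_le_card_of_injOn (fun u => g * u * g⁻¹) (fun u hu => ?_) fun u _ v _ e => by simpa using e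
    simp only [A, Finset.coe_filter, Finset.mem_univ, true_and, Set.mem_setOf_eq] at hu ⊢
    exact ⟨by rw [show g * u * g⁻¹ * (g * u * g⁻¹) = g * (u * u) * g⁻¹ by group, hu.1]; simp, by simp [hu.2]⟩
  obtain ⟨y0, hy0⟩ := I0_ne
  refine ⟨(A y0).card, ?_, ?_, fun d k hd => ?_⟩
  · obtain ⟨u, rfl⟩ := hs y0
    have h2 : π u * π u = 1 := (Finset.mem_filter.1 hy0).2.1
    refine Finset.card_pos.2 ⟨u ^ Nat.card π.ker, Finset.mem_filter.2 ⟨Finset.mem_univ _, ?_, ?_⟩⟩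
    · rw [← (Commute.refl u).mul_pow]
      exact congrArg Subtype.val (pow_card_eq_one' (x := (⟨u * u, by rw [MonoidHom.mem_ker, map_mul, h2]⟩ : π.ker)))
    · obtain ⟨r, hr⟩ := ho
      rw [map_pow, hr, pow_succ, pow_mul, pow_two, h2, one_pow, one_mul]
  · obtain ⟨u, rfl⟩ := hs y0
    rw [← Nat.card_eq_finsetCard]
    exact Nat.card_le_card_of_injective (fun v => ⟨v.1 * u⁻¹, by
      rw [MonoidHom.mem_ker, map_mul, map_inv, (Finset.mem_filter.1 v.2).2.2, mul_inv_cancel]⟩)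
      fun v w e => Subtype.ext (mul_right_cancel (congrArg Subtype.val e))
  let T : Finset (H × H) := Finset.univ.filter fun p => (p.1 * p.1 = 1 ∧ π p.1 ∈ I0) ∧ (p.2 * p.2 = 1 ∧ π p.2 ∈ I0) ∧
    π p.1 * π p.2 = d
  have hT : T.card = gam d * (A y0).card ^ 2 := by
    rw [Finset.card_eq_sum_card_fiberwise (f := fun p : H × H => (π p.1, π p.2))
      (t := (I0 ×ˢ I0).filter fun p => p.1 * p.2 = d) fun p hp => ?_, gam, ← smul_eq_mul, ← Finset.sum_const]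
    · refine Finset.sum_congr rfl fun q hq => ?_
      simp only [Finset.mem_filter, Finset.mem_product] at hq
      rw [pow_two]
      conv_rhs => rw [le_antisymm (le _ hy0 _ hq.1.1) (le _ hq.1.1 _ hy0)]
      conv_rhs => arg 2; rw [le_antisymm (le _ hq.1.1 _ hq.1.2) (le _ hq.1.2 _ hq.1.1)]
      rw [← Finset.card_product]
      congr 1
      ext p
      simp only [T, A, Finset.mem_filter, Finset.mem_univ, true_and, Finset.mem_product, Prod.ext_iff]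
      exact ⟨fun h => ⟨⟨h.1.1.1, h.2.1⟩, h.1.2.1.1, h.2.2⟩, fun h =>
        ⟨⟨⟨h.1.1, h.1.2 ▸ hq.1.1⟩, ⟨h.2.1, h.2.2 ▸ hq.1.2⟩, by rw [h.1.2, h.2.2, hq.2]⟩, h.1.2, h.2.2⟩⟩
    · simp only [T, Finset.coe_filter, Finset.mem_univ, true_and, Set.mem_setOf_eq, Finset.mem_product] at hp ⊢
      exact ⟨⟨hp.1.2, hp.2.1.2⟩, hp.2.2⟩
  rw [← hT, ← Nat.card_eq_finsetCard]
  have o2 : ∀ u : H, u * u = 1 ∧ π u ∈ I0 → IsConj z (u : G) := fun u hu => h1 _ (by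
    rw [orderOf_coe]
    exact orderOf_eq_prime (by rw [pow_two, hu.1]) (by rintro rfl; exact (Finset.mem_filter.1 hu.2).2.2.1 (map_one π)))
  symm
  refine Nat.card_congr (Equiv.ofBijective (fun p => ⟨(p.1.1, p.1.2), o2 _ (Finset.mem_filter.1 p.2).2.1,
    o2 _ (Finset.mem_filter.1 p.2).2.2.1, mul_mem p.1.1.2 p.1.2.2, by
      rw [← (Finset.mem_filter.1 p.2).2.2.2, ← map_mul]; rfl⟩) ⟨?_, ?_⟩)
  · intro p q e
    have e' := congrArg Subtype.val e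
    exact Subtype.ext (Prod.ext (Subtype.ext (congrArg Prod.fst e')) (Subtype.ext (congrArg Prod.snd e')))
  · rintro ⟨⟨u, v⟩, hu, hv, hm, e⟩
    have sq : ∀ {u : G}, IsConj z u → u * u = 1 ∧ u ≠ 1 := fun {u} hu => by
      obtain ⟨c, rfl⟩ := isConj_iff.1 hu
      refine ⟨by rw [show c * z * c⁻¹ * (c * z * c⁻¹) = c * (z * z) * c⁻¹ by group, ← hzz, ← coe_mul, z2]; simp, fun h => ?_⟩
      rw [conj_eq_one_iff.1 h, orderOf_one] at hz
      exact absurd hz (by norm_num)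
    have zp : (u * v) ^ (k * Nat.card π.ker) = z := by
      have n1 : (⟨u * v, hm⟩ : H) ^ k * zz ∈ π.ker := by rw [MonoidHom.mem_ker, map_mul, map_pow, e, hd, pz, b0_pow.2.2.2.2.2.2.1]
      have n2 := congrArg Subtype.val (pow_card_eq_one' (x := (⟨_, n1⟩ : π.ker)))
      rw [SubgroupClass.coe_pow, (show Commute _ zz from cz _).mul_pow, zo, ← pow_mul, OneMemClass.coe_one,
        mul_eq_one_iff_eq_inv, inv_eq_of_mul_eq_one_right z2] at n2
      rw [← hzz, ← n2]; rfl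
    have iu := inv_eq_of_mul_eq_one_right (sq hu).1
    have iv := inv_eq_of_mul_eq_one_right (sq hv).1
    have iz : z⁻¹ = z := by rw [← hzz, ← coe_inv, inv_eq_of_mul_eq_one_right z2]
    have uH : u ∈ H := by
      rw [hH, mem_centralizer_singleton_iff, ← mul_inv_eq_iff_eq_mul, ← zp, ← conj_pow,
        show u * (u * v) * u⁻¹ = (u * v)⁻¹ by rw [← mul_assoc, (sq hu).1, mul_inv_rev, iv, one_mul], inv_pow, zp, iz]
    have vH : v ∈ H := by simpa using mul_mem (inv_mem uH) hm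
    have ee : π ⟨u, uH⟩ * π ⟨v, vH⟩ = d := by rw [← map_mul, ← e]; rfl
    have n1 : ∀ {w : H}, w * w = 1 → π w = 1 → w = 1 := fun {w} a b =>
      odd_pow_eq_one hK (m := 1) b (by rw [pow_one, pow_two, a])
    have u2 : (⟨u, uH⟩ : H) * ⟨u, uH⟩ = 1 := Subtype.ext (sq hu).1
    have v2 : (⟨v, vH⟩ : H) * ⟨v, vH⟩ = 1 := Subtype.ext (sq hv).1
    have u1 : π ⟨u, uH⟩ ≠ 1 := fun h => (sq hu).2 (congrArg Subtype.val (n1 u2 h))
    have v1 : π ⟨v, vH⟩ ≠ 1 := fun h => (sq hv).2 (congrArg Subtype.val (n1 v2 h))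
    have key : ∀ y y' : Y, y * y = 1 → y' * y' = 1 → y ≠ 1 → y' ≠ 1 → (y * y') ^ k = z0 → y ≠ z0 ∧ y' ≠ z0 := by
      intro y y' a b c d h
      have r : ∀ w : Y, w * w = 1 → w ^ k = z0 → w = z0 := fun w a h => by
        rcases Nat.even_or_odd' k with ⟨r, rfl | rfl⟩
        · rw [pow_mul, pow_two, a, one_pow] at h
          exact absurd h.symm b0_pow.2.2.2.2.2.1
        · rwa [pow_succ, pow_mul, pow_two, a, one_pow, one_mul] at h
      constructor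
      · rintro rfl
        exact d (mul_left_cancel (a := z0) ((r _ (by rw [mul_assoc, ← mul_assoc y', z0_comm y', mul_assoc, b, mul_one, a]) h).trans
          (mul_one _).symm))
      · rintro rfl
        exact c (mul_right_cancel (b := z0) ((r _ (by rw [mul_assoc, ← mul_assoc z0, ← z0_comm y, mul_assoc, b, mul_one, a]) h).trans
          (one_mul _).symm))
    have u2' : π ⟨u, uH⟩ * π ⟨u, uH⟩ = 1 := by rw [← map_mul, u2, map_one]
    have v2' : π ⟨v, vH⟩ * π ⟨v, vH⟩ = 1 := by rw [← map_mul, v2, map_one]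
    have := key _ _ u2' v2' u1 v1 (ee ▸ hd)
    exact ⟨⟨(⟨u, uH⟩, ⟨v, vH⟩), Finset.mem_filter.2 ⟨Finset.mem_univ _,
      ⟨u2, Finset.mem_filter.2 ⟨Finset.mem_univ _, u2', u1, this.1⟩⟩,
      ⟨v2, Finset.mem_filter.2 ⟨Finset.mem_univ _, v2', v1, this.2⟩⟩, ee⟩⟩, rfl⟩

/-- integrality of the five inner products -/
theorem ints {χ : G → ℂ} (hχ : IsIrrCharacter G χ) {b t : G} {ζ : ℂ} (hζ : ζ ^ 4 = -1) (b8 : b ^ 8 = 1) (t6 : t ^ 6 = 1)
    (e3 : χ (b ^ 3) = χ b) (e5 : χ (b ^ 5) = χ (b ^ 7)) (e6 : χ (b ^ 6) = χ (b ^ 2)) (f5 : χ (t ^ 5) = χ t)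
    (f3 : t ^ 3 = b ^ 4) {R : ℕ} (hR : χ 1 + χ (b ^ 4) + 6 * χ (b ^ 2) = 8 * R) :
    ∃ a c e p q d : ℤ, 0 < d ∧ χ 1 = d ∧ (a : ℂ) = χ (b ^ 2) / 2 + χ b / 4 + χ (b ^ 7) / 4 ∧
      (c : ℂ) = χ (b ^ 4) / 6 + χ t / 3 + χ b / 4 + χ (b ^ 7) / 4 ∧
      (e : ℂ) = χ (b ^ 4) / 6 + χ t / 3 - χ b / 4 - χ (b ^ 7) / 4 ∧
      (p : ℂ) = -χ (b ^ 4) / 12 - χ (b ^ 2) / 4 + χ t / 3 + (ζ + ζ ^ 3) / 8 * χ b - (ζ + ζ ^ 3) / 8 * χ (b ^ 7) ∧
      (q : ℂ) = -χ (b ^ 4) / 12 - χ (b ^ 2) / 4 + χ t / 3 - (ζ + ζ ^ 3) / 8 * χ b + (ζ + ζ ^ 3) / 8 * χ (b ^ 7) ∧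
      8 ∣ d + (3 * c + e - 2 * p - 2 * q - 2 * a) - 2 * (2 * a - c + e) := by
  have hc := IsIrrCharacter.isCharacter hχ
  obtain ⟨d, hd, d1⟩ := IsIrrCharacter.exists_nat_pos hχ
  obtain ⟨r, hr⟩ := IsAlgClosed.exists_pow_nat_eq (-3 : ℂ) two_pos
  obtain ⟨ω, hω⟩ : ∃ ω : ℂ, ω ^ 2 = ω - 1 := ⟨(1 + r) / 2, by linear_combination hr / 4⟩
  obtain ⟨n0, h0⟩ := IsCharacter.exists_nat_sum_pow hc b8 (ζ := 1) (by norm_num)
  obtain ⟨n4, h4⟩ := IsCharacter.exists_nat_sum_pow hc b8 (ζ := -1) (by norm_num)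
  obtain ⟨n2, h2⟩ := IsCharacter.exists_nat_sum_pow hc b8 (ζ := ζ ^ 2) (by rw [← pow_mul, show 2 * 8 = 4 * 4 from rfl, pow_mul, hζ]; norm_num)
  obtain ⟨n1, h1⟩ := IsCharacter.exists_nat_sum_pow hc b8 (ζ := ζ) (by rw [show 8 = 4 * 2 from rfl, pow_mul, hζ]; norm_num)
  obtain ⟨n5, h5⟩ := IsCharacter.exists_nat_sum_pow hc b8 (ζ := -ζ) (by linear_combination (ζ ^ 4 - 1) * hζ)
  obtain ⟨m1, g1⟩ := IsCharacter.exists_nat_sum_pow hc t6 (ζ := ω) (by linear_combination (ω ^ 4 + ω ^ 3 - ω - 1) * hω)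
  obtain ⟨m4, g4⟩ := IsCharacter.exists_nat_sum_pow hc t6 (ζ := -ω) (by linear_combination (ω ^ 4 + ω ^ 3 - ω - 1) * hω)
  simp only [Finset.sum_range_succ, Finset.sum_range_zero, pow_zero, pow_one, e3, e5, e6, f5, f3] at h0 h4 h2 h1 h5 g1 g4
  push_cast at h0 h4 h2 h1 h5 g1 g4
  have k2 : χ 1 + χ (b ^ 4) - 2 * χ (b ^ 2) = 8 * n2 := by
    linear_combination h2 - (χ b * ζ ^ 2 + χ (b ^ 2) * (ζ ^ 8 - ζ ^ 4 + 2) + χ (b ^ 4) * (ζ ^ 4 - 1) + χ (b ^ 7) * ζ ^ 10) * hζ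
  have k1 : χ 1 - χ (b ^ 4) + (ζ + ζ ^ 3) * (χ b - χ (b ^ 7)) = 8 * n1 := by
    linear_combination h1 - (χ (b ^ 2) * ζ ^ 2 + χ (b ^ 4) + χ (b ^ 7) * (ζ + ζ ^ 3)) * hζ
  have k5 : χ 1 - χ (b ^ 4) - (ζ + ζ ^ 3) * (χ b - χ (b ^ 7)) = 8 * n5 := by
    linear_combination h5 - (χ (b ^ 2) * ζ ^ 2 + χ (b ^ 4) - χ (b ^ 7) * (ζ + ζ ^ 3)) * hζ
  have k3 : χ t - χ (b ^ 4) = 3 * (m1 - m4) := by
    linear_combination (g1 - g4) / 2 - (χ t * (ω ^ 3 + ω ^ 2 - 1) + χ (b ^ 4) * (ω + 1)) * hω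
  refine ⟨R - n4, m1 - m4 + 2 * n2 - n1 - n5 + R - n4, m1 - m4 + 2 * n2 - n1 - n5 + R - n0, m1 - m4 + n2 - n5,
    m1 - m4 + n2 - n1, d, by exact_mod_cast hd, by exact_mod_cast d1, ?_, ?_, ?_, ?_, ?_, n2, ?_⟩
  · push_cast; linear_combination h4 / 8 - hR / 8
  · push_cast; linear_combination h4 / 8 - hR / 8 - k3 / 3 - k2 / 4 + k1 / 8 + k5 / 8
  · push_cast; linear_combination h0 / 8 - hR / 8 - k3 / 3 - k2 / 4 + k1 / 8 + k5 / 8
  · push_cast; linear_combination -k3 / 3 - k2 / 8 + k5 / 8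
  · push_cast; linear_combination -k3 / 3 - k2 / 8 + k1 / 8
  · have : ((d + (3 * (m1 - m4 + 2 * n2 - n1 - n5 + R - n4) + (m1 - m4 + 2 * n2 - n1 - n5 + R - n0) - 2 * (m1 - m4 + n2 - n5) -
        2 * (m1 - m4 + n2 - n1) - 2 * (R - n4)) - 2 * (2 * (R - n4) - (m1 - m4 + 2 * n2 - n1 - n5 + R - n4) +
        (m1 - m4 + 2 * n2 - n1 - n5 + R - n0)) : ℤ) : ℂ) = (8 * n2 : ℤ) := by
      push_cast
      linear_combination -d1 + k2 / 2 + k1 / 4 + k5 / 4 + hR / 4 - h0 / 8 - h4 / 8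
    exact_mod_cast this

end Cfsg.Agent.H2.Wg
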