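import Cfsg.Agent.H2.W3

/-! The exceptional characters attached to an involution centralizer of shape `O · GL₂(3)`. -/

set_option autoImplicit false
set_option linter.unusedSectionVars false

namespace Cfsg.Agent.H2.Wg

open Subgroup Cfsg.Agent.L0
open scoped ComplexConjugate

theorem gram {ι : Type*} [Fintype ι] (X : Fin 5 → ι → ℂ) (w : Fin 5 → ℂ)
    (h : ∀ i j, ∑ k, X i k * conj (X j k) = if i = j then w i else 0) {n n' : ι → ℤ} {α β : Fin 5 → ℂ}
    (hn : ∀ k, (n k : ℂ) = ∑ i, α i * X i k) (hn' : ∀ k, (n' k : ℂ) = ∑ i, β i * X i k) {r : ℤ}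
    (hr : ∑ i, α i * conj (β i) * w i = r) : ∑ k, n k * n' k = r := by
  have : ((∑ k, n k * n' k : ℤ) : ℂ) = r := by
    rw [← hr]
    push_cast
    calc ∑ k, (n k : ℂ) * n' k = ∑ k, ∑ i, ∑ j, α i * conj (β j) * (X i k * conj (X j k)) :=
          Finset.sum_congr rfl fun k _ => by
            rw [← map_intCast (starRingEnd ℂ) (n' k), hn, hn', map_sum, Finset.sum_mul_sum]
            exact Finset.sum_congr rfl fun i _ => Finset.sum_congr rfl fun j _ => by rw [map_mul]; ring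
      _ = ∑ i, ∑ j, α i * conj (β j) * ∑ k, X i k * conj (X j k) := by
          rw [Finset.sum_comm]
          exact Finset.sum_congr rfl fun i _ => by
            rw [Finset.sum_comm]; exact Finset.sum_congr rfl fun j _ => by rw [Finset.mul_sum]
      _ = _ := Finset.sum_congr rfl fun i _ => by simp [h]
  exact_mod_cast this

theorem lin {ι : Type*} [Fintype ι] (X : Fin 5 → ι → ℂ) (F : ι → ℂ) (g : Fin 5 → ℂ) (h : ∀ i, ∑ k, X i k * F k = g i)
    {n : ι → ℤ} {α : Fin 5 → ℂ} (hn : ∀ k, (n k : ℂ) = ∑ i, α i * X i k) : ∑ k, n k * F k = ∑ i, α i * g i := by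
  simp only [hn, Finset.sum_mul, ← h, Finset.mul_sum, mul_assoc]
  exact Finset.sum_comm

variable {G : Type*} [Group G] [Finite G]

/-- lifts of the standard elements -/
theorem lifts {H : Type*} [Group H] [Finite H] (π : H →* Y) (hs : Function.Surjective π) (hK : ¬ 2 ∣ Nat.card π.ker)
    (Q : Subgroup H) [Q.Normal] (hQ : Nat.card Q = 8) :
    (∀ q ∈ Q, ∀ q' ∈ Q, π q = π q' → q = q') ∧ (∀ y ∈ Q0, ∃ q ∈ Q, π q = y) ∧ (∀ q ∈ Q, π q ∈ Q0) ∧
      (∀ k ∈ π.ker, ∀ q ∈ Q, k * q = q * k) ∧ ∃ b j : H, π b = b0 ∧ b ^ 8 = 1 ∧ b ^ 2 ∈ Q ∧ j ∈ Q ∧ π j = j0 ∧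
      j * b * j⁻¹ = b ^ 3 ∧ j * b ^ 2 * j⁻¹ = b ^ 6 := by
  have q8 : ∀ q ∈ Q, q ^ 2 ^ 3 = 1 := fun q hq => orderOf_dvd_iff_pow_eq_one.1 ((Q.orderOf_dvd_natCard hq).trans (by rw [hQ]; rfl))
  have i1 : ∀ q ∈ Q, π q = 1 → q = 1 := fun q hq h => odd_pow_eq_one hK h (q8 q hq)
  have inj : ∀ q ∈ Q, ∀ q' ∈ Q, π q = π q' → q = q' := fun q hq q' hq' h =>
    mul_inv_eq_one.1 (i1 _ (mul_mem hq (inv_mem hq')) (by rw [map_mul, map_inv, h, mul_inv_cancel]))
  have le : Q.map π ≤ Q0 := by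
    rintro _ ⟨q, hq, rfl⟩
    refine le_Q0 _ fun g => ?_
    obtain ⟨g, rfl⟩ := hs g
    rw [← map_inv, ← map_mul, ← map_mul, ← map_mul, ← map_pow,
      show _ ^ 8 = _ from q8 _ (mul_mem hq (Normal.conj_mem inferInstance q hq g)), map_one]
  have eq : Q.map π = Q0 := eq_of_le_of_card_ge le (by
    rw [card_Q0, ← hQ]
    exact Nat.card_le_card_of_injective (fun q : Q => (⟨π q, q, q.2, rfl⟩ : Q.map π))
      fun q q' e => Subtype.ext (inj _ q.2 _ q'.2 (congrArg Subtype.val e)))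
  have sur : ∀ y ∈ Q0, ∃ q ∈ Q, π q = y := fun y hy => (eq.ge hy :)
  have cm : ∀ k ∈ π.ker, ∀ q ∈ Q, k * q = q * k := fun k hk q hq =>
    commute_of_normal_of_disjoint _ _ inferInstance inferInstance (disjoint_def.2 fun a b => i1 _ b a) k q hk hq
  refine ⟨inj, sur, fun q hq => le ⟨q, hq, rfl⟩, cm, ?_⟩
  obtain ⟨h, hh⟩ := hs b0
  obtain ⟨j, hj, pj⟩ := sur j0 b0_pow.2.2.2.1
  obtain ⟨i, hi, pi⟩ := sur _ b0_pow.2.2.2.2.1
  obtain ⟨b, pb, b8⟩ : ∃ b, π b = b0 ∧ b ^ 8 = 1 := by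
    refine ⟨h ^ (Nat.card π.ker * Nat.card π.ker), ?_, ?_⟩
    · obtain ⟨r, hr⟩ : 8 ∣ Nat.card π.ker * Nat.card π.ker - 1 := by
        obtain ⟨r, hr⟩ := Nat.odd_iff.2 (Nat.two_dvd_ne_zero.1 hK)
        obtain ⟨s, hs⟩ := Nat.even_mul_succ_self r
        exact ⟨s, by rw [hr]; apply Nat.sub_eq_of_eq_add; nlinarith⟩
      rw [map_pow, hh, Nat.eq_add_of_sub_eq (Nat.mul_pos Nat.card_pos Nat.card_pos) hr, pow_succ, pow_mul, b0_pow.2.1,
        one_pow, one_mul]
    · have := congrArg Subtype.val (pow_card_eq_one' (x := (⟨h ^ 8, by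
        rw [MonoidHom.mem_ker, map_pow, hh, b0_pow.2.1]⟩ : π.ker)))
      rw [SubgroupClass.coe_pow, OneMemClass.coe_one] at this
      rw [← pow_mul, mul_comm _ 8, ← mul_assoc, pow_mul, pow_mul, this, one_pow]
  have b2 : b ^ 2 ∈ Q := by
    have k1 : b ^ 2 * i⁻¹ ∈ π.ker := by rw [MonoidHom.mem_ker, map_mul, map_inv, pi, map_pow, pb, pow_two, mul_inv_cancel]
    have c : Commute (b ^ 2 * i⁻¹) i := cm _ k1 i hi
    have := c.mul_pow (2 ^ 3)
    rw [inv_mul_cancel_right, q8 i hi, mul_one, ← pow_mul, show 2 * 2 ^ 3 = 8 * 2 from rfl, pow_mul, b8, one_pow] at this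
    rwa [mul_inv_eq_one.1 (odd_pow_eq_one hK k1 this.symm)]
  have e3 : j * b * j⁻¹ = b ^ 3 := by
    have := inj (j * (b * j⁻¹ * b⁻¹)) (mul_mem hj (Normal.conj_mem inferInstance _ (inv_mem hj) b)) _ b2 (by
      simp only [map_mul, map_inv, map_pow, pj, pb, ← mul_assoc, b0_pow.2.2.1]; group)
    rw [pow_succ, ← this]; group
  exact ⟨b, j, pb, b8, b2, hj, pj, e3, by rw [← conj_pow, e3, ← pow_mul]⟩

/-- the cyclic sections -/
theorem cyc {z : G} {H : Subgroup G} (hH : H = centralizer ({z} : Set G)) (π : H →* Y) (hK : ¬ 2 ∣ Nat.card π.ker)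
    {b x : H} (pb : π b = b0) (b8 : b ^ 8 = 1) (hx : x ∈ zpowers b) (hz : z ∈ zpowers (x : G)) (hi : b0 * b0 ∈ zpowers (π x)) :
    ∑ χ ∈ prinBlk 2 G, χ.1 x * conj (χ.1 x) = 8 ∧ ∃ (hle : centralizer ({(x : G)} : Set G) ≤ H) (K : ℕ),
      K = Nat.card (π.comp (inclusion hle)).ker ∧
      ((centralizer ({z} : Set G)).index : ℂ) * (centralizer ({z} : Set G)).index / Nat.card G *
        ∑ χ ∈ prinBlk 2 G, conj (χ.1 z) * conj (χ.1 z) * χ.1 x / χ.1 1 = (K : ℂ)⁻¹ *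
      Nat.card {p : G × G // IsConj z p.1 ∧ IsConj z p.2 ∧
        ∃ hm : p.1 * p.2 ∈ centralizer ({(x : G)} : Set G), π ⟨_, hle hm⟩ = π x} := by
  classical
  have hle : centralizer ({(x : G)} : Set G) ≤ H := fun g hg => by
    obtain ⟨k, rfl⟩ := hz
    exact hH.ge (mem_centralizer_singleton_iff.2 (Commute.zpow_right (mem_centralizer_singleton_iff.1 hg) k))
  let ρ : centralizer ({(x : G)} : Set G) →* zpowers b0 := (π.comp (inclusion hle)).codRestrict _ fun g => by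
    have c : Commute (π (inclusion hle g)) (π x) :=
      Commute.map (Subtype.ext (mem_centralizer_singleton_iff.1 g.2) : Commute (inclusion hle g) x) π
    obtain ⟨k, hk⟩ := hi
    obtain ⟨m, hm⟩ := cent_i0 (π (inclusion hle g)) (by have := c.zpow_right k; rwa [show π x ^ k = _ from hk] at this)
    exact hm.symm ▸ (pow_mem (mem_zpowers b0) m.val : b0 ^ m.val ∈ zpowers b0)
  have bx : (b : G) ∈ centralizer ({(x : G)} : Set G) := by
    obtain ⟨k, rfl⟩ := hx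
    exact mem_centralizer_singleton_iff.2 ((Commute.refl (b : G)).zpow_right k)
  have hρ : Function.Surjective ρ := by
    rintro ⟨_, k, rfl⟩
    exact ⟨⟨b, bx⟩ ^ k, Subtype.ext (by rw [map_zpow]; exact congrArg (· ^ k) pb)⟩
  have kρ : ρ.ker = (π.comp (inclusion hle)).ker := MonoidHom.ker_codRestrict _ _ _
  have hK' : ¬ 2 ∣ Nat.card ρ.ker := fun h => hK (h.trans (by
    rw [kρ, ← MonoidHom.comap_ker]
    exact card_comap_dvd_of_injective _ _ (inclusion_injective hle)))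
  have c8 : Nat.card (zpowers b0) = 2 ^ 3 := by
    rw [Nat.card_zpowers]
    exact orderOf_eq_prime_pow (by rw [show 2 ^ 2 = 4 from rfl, b0_pow.1]; exact b0_pow.2.2.2.2.2.1) b0_pow.2.1
  have px : IsPPart 2 ((⟨x, mem_centralizer_singleton_iff.2 rfl⟩ : centralizer ({(x : G)} : Set G)) : G) x := by
    obtain ⟨k, rfl⟩ := hx
    exact two_part (k := 3) (by
      change ((b ^ k : H) : G) ^ 8 = 1
      rw [← coe_pow, ← zpow_natCast, ← zpow_mul, mul_comm, zpow_mul, zpow_natCast, b8, one_zpow, coe_one])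
  have hp : IsPGroup 2 (⊤ : Subgroup (zpowers b0)) := (IsPGroup.of_card c8).to_subgroup _
  refine ⟨?_, hle, _, rfl, ?_⟩
  · have := sec_orth rfl ρ hρ hK' ⊤ hp le_top px px
    have ct : ∀ y : zpowers b0, centralizer ({y} : Set (zpowers b0)) = ⊤ := fun y =>
      eq_top_iff.2 fun _ _ => mem_centralizer_singleton_iff.2 (mul_comm' _ _)
    rw [if_pos (IsConj.refl _), ct, card_top, c8] at this
    exact_mod_cast this
  · have := sec_cls rfl ρ hρ hK' ⊤ hp le_top z px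
    rw [kρ] at this
    rw [this]
    congr 2
    exact Nat.card_congr (Equiv.subtypeEquivRight fun p => and_congr_right fun _ => and_congr_right fun _ =>
      exists_congr fun hm => Subtype.ext_iff)

theorem nconj {u v : G} (n : ℕ) (hu : u ^ n = 1) (hv : v ^ n ≠ 1) : ¬ IsConj u v ∧ ¬ IsConj v u := by
  have : ¬ IsConj u v := fun h => by
    obtain ⟨c, rfl⟩ := isConj_iff.1 h
    exact hv (by rw [conj_pow, hu]; simp)
  exact ⟨this, fun h => this h.symm⟩

/-- the exceptional characters -/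
theorem chars {z : G} {H : Subgroup G} (hH : H = centralizer ({z} : Set G)) (hz : orderOf z = 2)
    (h1 : ∀ u : G, orderOf u = 2 → IsConj z u) (π : H →* Y) (hs : Function.Surjective π) (hK : ¬ 2 ∣ Nat.card π.ker)
    (Q : Subgroup H) [Q.Normal] (hQ : Nat.card Q = 8) {x : H} (x3 : x ^ 3 = 1) (x1 : π x ≠ 1) :
    (∃ m : ℕ, 0 < m ∧ m ≤ Nat.card π.ker ∧ (55 * m ^ 2 * Nat.card G = 16 * Nat.card π.ker * H.index ^ 2 ∨
      39 * m ^ 2 * Nat.card G = 16 * Nat.card π.ker * H.index ^ 2)) ∧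
      ∃ χ ∈ prinBlk 2 G, χ ≠ irrOne G ∧ χ.1 1 = χ.1 z + 8 := by
  classical
  haveI := Fintype.ofFinite G
  obtain ⟨inj, sur, mem, cm, b, j, pb, b8, b2, hj, pj, e3, e6⟩ := lifts π hs hK Q hQ
  let zz : H := ⟨z, hH.ge (mem_centralizer_singleton_iff.2 rfl)⟩
  have cz : ∀ g : H, g * zz = zz * g := fun g => Subtype.ext (mem_centralizer_singleton_iff.1 (hH.le g.2))
  have z2 : zz * zz = 1 := Subtype.ext (by simpa [hz, pow_two] using pow_orderOf_eq_one z)
  have z1 : z ≠ 1 := by rintro rfl; simp at hz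
  have pz : π zz = z0 := by
    obtain ⟨g, hg⟩ := hs j0
    refine (z0_uniq _ (by rw [← map_mul, z2, map_one]) (by rw [← hg, ← map_mul, cz, map_mul])).resolve_left fun h => ?_
    exact z1 (congrArg Subtype.val (odd_pow_eq_one hK (m := 1) h (by rw [pow_one, pow_two, z2])))
  have b4 : b ^ 4 = zz := by
    have k1 : b ^ 4 * zz ∈ π.ker := by rw [MonoidHom.mem_ker, map_mul, map_pow, pb, pz, b0_pow.1, b0_pow.2.2.2.2.2.2.1]
    have := odd_pow_eq_one hK (m := 1) k1 (by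
      rw [pow_one, (show Commute _ zz from cz _).mul_pow, ← pow_mul, b8, pow_two, z2, one_mul])
    rw [← mul_one (b ^ 4), ← z2, ← mul_assoc, this, one_mul]
  have b4' : (b : G) ^ 4 = z := congrArg Subtype.val b4
  have b8' : (b : G) ^ 8 = 1 := congrArg Subtype.val b8
  have zz2 : z ^ 2 = 1 := hz ▸ pow_orderOf_eq_one z
  have cx : Commute zz x := (cz x).symm
  have t3 : (zz * x) ^ 3 = zz := by rw [cx.mul_pow, x3, mul_one, pow_succ, pow_two, z2, one_mul]
  have t6 : (zz * x) ^ 6 = 1 := by rw [show 6 = 3 * 2 from rfl, pow_mul, t3, pow_two, z2]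
  have pw : ∀ {g : H} {y : G}, g ^ 3 = 1 → IsPPart 2 ((zz * g : H) : G) z := fun {g _} hg =>
    ⟨g, rfl, congrArg Subtype.val (cz g).symm, ⟨1, hz⟩, fun h => absurd (h.trans (orderOf_dvd_of_pow_eq_one
      (congrArg Subtype.val hg : (g : G) ^ 3 = 1))) (by norm_num)⟩
  have pt : IsPPart 2 ((zz * x : H) : G) z := pw (y := 1) x3
  have pz' : IsPPart 2 (zz : G) z := two_part (k := 1) zz2
  obtain ⟨m, m0, mle, hm⟩ := count hH hz h1 π hs hK (zz := zz) rfl pz
  obtain ⟨g6, ⟨g, hg⟩, c6⟩ := three_facts (π x) (by rw [← map_pow, x3, map_one]) x1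
  have hQ0 : IsPGroup 2 Q0 := IsPGroup.of_card (n := 3) card_Q0
  have o1 := fun {g h : H} => sec_orth (g := g) (h := h) hH π hs hK Q0 hQ0 cent_Q0
  have s1 := fun {h : H} => sec_cls (h := h) hH π hs hK Q0 hQ0 cent_Q0 z
  have b7 : b ^ 7 = b⁻¹ := eq_inv_of_mul_eq_one_left (by rw [← pow_succ, b8])
  obtain ⟨oa, la, Ka, hKa, sa⟩ := cyc hH π hK pb b8 (x := b ^ 2) (pow_mem (mem_zpowers b) 2)
    (by rw [← b4', show 4 = 2 * 2 from rfl, pow_mul]; exact pow_mem (mem_zpowers _) 2) (by rw [map_pow, pb, pow_two]; exact mem_zpowers _)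
  obtain ⟨ob, lb, Kb, -, sb⟩ := cyc hH π hK pb b8 (x := b) (mem_zpowers b)
    (b4' ▸ pow_mem (mem_zpowers _) 4) (by rw [pb]; exact mul_mem (mem_zpowers _) (mem_zpowers _))
  obtain ⟨oc, lc, Kc, -, sc⟩ := cyc hH π hK pb b8 (x := b ^ 7) (pow_mem (mem_zpowers b) 7)
    (by rw [b7, coe_inv, zpowers_inv]; exact b4' ▸ pow_mem (mem_zpowers _) 4)
    (by rw [b7, map_inv, zpowers_inv, pb]; exact mul_mem (mem_zpowers _) (mem_zpowers _))
  have emp : ∀ {C : Subgroup G} (l : C ≤ H) {d : Y} (k : ℕ), d ^ k = z0 → gam d = 0 →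
      Nat.card {p : G × G // IsConj z p.1 ∧ IsConj z p.2 ∧ ∃ hm : p.1 * p.2 ∈ C, π ⟨_, l hm⟩ = d} = 0 := fun l d k h h' => by
    have := hm d k h
    rw [h', zero_mul] at this
    exact Nat.eq_zero_of_le_zero (this ▸ Nat.card_le_card_of_injective
      (fun p => (⟨p.1, p.2.1, p.2.2.1, let ⟨a, e⟩ := p.2.2.2; ⟨l a, e⟩⟩ : {p : G × G // IsConj z p.1 ∧ IsConj z p.2 ∧
        ∃ hm : p.1 * p.2 ∈ H, π ⟨_, hm⟩ = d})) fun p q e => Subtype.ext (by simpa using e))
  rw [emp lb 4 (by rw [pb, b0_pow.1]) (by rw [pb, gam_val.2.2.1])] at sb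
  rw [emp lc 4 (by rw [b7, map_inv, pb, inv_pow, b0_pow.1]; exact inv_eq_of_mul_eq_one_right b0_pow.2.2.2.2.2.2.1)
    (by rw [b7, map_inv, pb, gam_val.2.2.2])] at sc
  have ca : ∀ g : H, π g = π (b ^ 2) ∨ π g = 1 → (g : G) ∈ centralizer ({((b ^ 2 : H) : G)} : Set G) := by
    have : ∀ g : H, π g = 1 → (g : G) ∈ centralizer ({((b ^ 2 : H) : G)} : Set G) := fun g h =>
      mem_centralizer_singleton_iff.2 (congrArg Subtype.val (cm g h _ b2))
    rintro g (h | h)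
    · have := mul_mem (this (g * (b ^ 2)⁻¹) (by rw [map_mul, map_inv, h, mul_inv_cancel]))
        (mem_centralizer_singleton_iff.2 rfl)
      rwa [← coe_mul, inv_mul_cancel_right] at this
    · exact this g h
  have eKa : Ka = Nat.card π.ker := hKa.trans (Nat.card_congr (Equiv.ofBijective (fun n => ⟨inclusion la n.1, n.2⟩)
    ⟨fun n n' e => Subtype.ext (inclusion_injective la (congrArg Subtype.val e)), fun n => ⟨⟨⟨n.1, ca _ (Or.inr n.2)⟩, n.2⟩, rfl⟩⟩))
  rw [eKa, Nat.card_congr (Equiv.subtypeEquivRight (q := fun p : G × G => IsConj z p.1 ∧ IsConj z p.2 ∧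
    ∃ hm : p.1 * p.2 ∈ H, π ⟨_, hm⟩ = π (b ^ 2)) fun p => and_congr_right fun _ => and_congr_right fun _ =>
      ⟨fun ⟨a, e⟩ => ⟨la a, e⟩, fun ⟨a, e⟩ => ⟨ca ⟨_, a⟩ (Or.inl e), e⟩⟩),
    hm _ 2 (by rw [map_pow, pb, ← pow_mul, b0_pow.1]), map_pow, pb, pow_two b0, gam_val.2.1] at sa
  have sz := s1 pz'
  rw [hm _ 1 (by rw [pz, pow_one]), pz, gam_val.1] at sz
  have st := s1 pt
  rw [hm _ 3 (by rw [← map_pow, t3, pz]), map_mul, pz, g6] at st
  rw [← hH] at sa sb sc sz st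
  obtain ⟨ζ, hζ⟩ := IsAlgClosed.exists_pow_nat_eq (-1 : ℂ) (by norm_num : 0 < 4)
  have cζ : conj ζ = -ζ ^ 3 := by
    rw [← Complex.inv_eq_conj (norm_eq_one_of_pow_eq_one (n := 8) (by norm_num) (by linear_combination (ζ ^ 4 - 1) * hζ))]
    exact inv_eq_of_mul_eq_one_right (by linear_combination -hζ)
  have key : ∀ χ : prinBlk 2 G, _ := fun χ => by
    have cf := IsIrrCharacter.isClassFunction χ.1.2
    have cj : ∀ (c u : H), χ.1.1 (c * u * c⁻¹ : H) = χ.1.1 u := fun c u => (IsClassFunction.eq_of_isConj cf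
      (isConj_iff.2 ⟨c, rfl⟩)).symm
    have hR : ∃ R : ℕ, χ.1.1 1 + χ.1.1 ((b : G) ^ 4) + 6 * χ.1.1 ((b : G) ^ 2) = 8 * R := by
      haveI := Fintype.ofFinite Q
      obtain ⟨R, hR⟩ := IsCharacter.exists_nat_classInner (IsCharacter.comp (IsIrrCharacter.isCharacter χ.1.2)
        (H.subtype.comp Q.subtype)) isCharacter_one
      have zQ : zz ∈ Q := by rw [← b4, show 4 = 2 * 2 from rfl, pow_mul]; exact pow_mem b2 2
      have ne : (⟨zz, zQ⟩ : Q) ≠ 1 := fun h => z1 (congrArg (fun q : Q => ((q : H) : G)) h)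
      rw [classInner_one_right, hQ, ← Finset.add_sum_erase _ _ (Finset.mem_univ 1), ← Finset.add_sum_erase _ _
        (Finset.mem_erase.2 ⟨ne, Finset.mem_univ _⟩), Finset.sum_congr rfl (g := fun _ => χ.1.1 ((b : G) ^ 2)) fun q hq => ?_,
        Finset.sum_const, Finset.card_erase_of_mem (Finset.mem_erase.2 ⟨ne, Finset.mem_univ _⟩),
        Finset.card_erase_of_mem (Finset.mem_univ _), Finset.card_univ, ← Nat.card_eq_fintype_card, hQ] at hR
      · refine ⟨R, ?_⟩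
        rw [← hR, b4']
        simp [zz]
        ring
      · simp only [Finset.mem_erase] at hq
        obtain ⟨c, hc⟩ := conj_Q0 _ (mem _ q.2) (fun h => hq.2.1 (Subtype.ext (inj _ q.2 _ (one_mem Q) (h.trans (map_one π).symm))))
          fun h => hq.1 (Subtype.ext (inj _ q.2 _ zQ (h.trans pz.symm)))
        obtain ⟨c, rfl⟩ := hs c
        have := inj _ (Normal.conj_mem inferInstance _ b2 c) _ q.2 (by rw [← hc, map_mul, map_mul, map_inv, map_pow, pb, pow_two])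
        exact (congrArg (fun u : H => χ.1.1 u) this).symm.trans (cj c _)
    have f5 : χ.1.1 (((zz * x : H) : G) ^ 5) = χ.1.1 (zz * x : H) := by
      obtain ⟨c, rfl⟩ := hs g
      have t5 : (zz * x) ^ 5 = zz * x⁻¹ := by
        rw [eq_inv_of_mul_eq_one_left (show (zz * x) ^ 5 * (zz * x) = 1 by rw [← pow_succ, t6]), mul_inv_rev,
          inv_eq_of_mul_eq_one_right z2, cz]
      have k1 : c * (zz * x) * c⁻¹ * (zz * x⁻¹)⁻¹ ∈ π.ker := by
        rw [MonoidHom.mem_ker, ← t5, map_mul, map_mul, map_mul, map_inv, map_mul, pz, hg, map_inv,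
          ← mul_inv_rev, ← pz, ← map_mul, ← map_mul, ← pow_succ, t6, map_one, inv_one]
      have := prinBlk_apply_mul Nat.prime_two (pw (y := 1) (g := x⁻¹) (by rw [inv_pow, x3, inv_one]))
        (N := π.ker.map H.subtype) ((map_subtype_le _).trans hH.le)
        (by rw [← hH, subgroupOf, comap_map_eq_self_of_injective H.subtype_injective]; infer_instance)
        (by rwa [card_map_of_injective H.subtype_injective]) (mem_map_of_mem _ k1) χ.2
      rw [← coe_pow, t5, ← this, ← cj c (zz * x)]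
      exact congrArg (fun u : H => χ.1.1 u) (inv_mul_cancel_right _ _)
    exact hR.elim fun R hR => ints χ.1.2 (t := ((zz * x : H) : G)) hζ b8' (congrArg Subtype.val t6)
      ((congrArg (fun u : H => χ.1.1 u) e3).symm.trans (cj j b))
      (by
        have : j * b ^ 7 * j⁻¹ = b ^ 5 := by rw [← conj_pow, e3, ← pow_mul, show 3 * 7 = 8 * 2 + 5 from rfl, pow_add, pow_mul, b8]; simp
        exact (congrArg (fun u : H => χ.1.1 u) this).symm.trans (cj j _))
      ((congrArg (fun u : H => χ.1.1 u) e6).symm.trans (cj j _)) f5 ((congrArg Subtype.val t3).trans b4'.symm) hR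
  choose a c e p q d d0 d1 ha hc he hp hq h8 using key
  let el : Fin 5 → G := ![z, b ^ 2, (zz * x : H), b, b ^ 7]
  let X : Fin 5 → prinBlk 2 G → ℂ := fun i χ => χ.1.1 (el i)
  have n24 := nconj (u := z) (v := (b : G) ^ 2) 2 zz2 (by rw [← pow_mul, b4']; exact z1)
  have n28 := nconj (u := z) (v := (b : G)) 4 (by rw [show 4 = 2 * 2 from rfl, pow_mul, zz2, one_pow]) (b4' ▸ z1)
  have b74 : ((b : G) ^ 7) ^ 4 = z := by rw [← pow_mul, show 7 * 4 = 8 * 3 + 4 from rfl, pow_add, pow_mul, b8', b4']; simp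
  have n27 := nconj (u := z) (v := (b : G) ^ 7) 4 (by rw [show 4 = 2 * 2 from rfl, pow_mul, zz2, one_pow]) (b74 ▸ z1)
  have n48 := nconj (u := (b : G) ^ 2) (v := (b : G)) 4 (by rw [← pow_mul, b8']) (b4' ▸ z1)
  have n47 := nconj (u := (b : G) ^ 2) (v := (b : G) ^ 7) 4 (by rw [← pow_mul, b8']) (b74 ▸ z1)
  have n87 : ¬ IsConj (b : G) (b ^ 7) := fun h => by
    obtain ⟨c, hc⟩ := isConj_iff.1 h
    have cH : c ∈ H := hH.ge (mem_centralizer_singleton_iff.2 (by rw [← mul_inv_eq_iff_eq_mul, ← b4', ← conj_pow, hc, b74, b4']))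
    have : (⟨c, cH⟩ : H) * b * (⟨c, cH⟩ : H)⁻¹ = b⁻¹ := by rw [← b7]; exact Subtype.ext hc
    exact b0_nconj (π ⟨c, cH⟩) (by rw [← pb, ← map_inv, ← map_mul, ← map_mul, this, map_inv])
  have pa : IsPPart 2 ((b : G) ^ 2) (b ^ 2) := two_part (k := 2) (by rw [← pow_mul]; exact b8')
  have pb' : IsPPart 2 (b : G) b := two_part (k := 3) b8'
  have pc : IsPPart 2 ((b : G) ^ 7) (b ^ 7) := two_part (k := 3) (by rw [← pow_mul, mul_comm, pow_mul]; simp [b8'])
  have nzt : ¬ IsConj z0 (z0 * π x) := fun h => by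
    obtain ⟨c, hc⟩ := isConj_iff.1 h
    rw [z0_comm c, mul_inv_cancel_right] at hc
    exact x1 (left_eq_mul.1 hc)
  have ozz := o1 pz' pz'
  rw [if_pos (IsConj.refl _), pz, (eq_top_iff (a := centralizer {z0})).2 fun y _ => mem_centralizer_singleton_iff.2 (z0_comm y),
    card_top, Y.card] at ozz
  have ott := o1 pt pt
  rw [if_pos (IsConj.refl _), map_mul, pz, show Nat.card (centralizer ({z0 * π x} : Set Y)) = 6 by
    rw [← c6, ← Nat.card_eq_finsetCard]
    exact Nat.card_congr (Equiv.subtypeEquivRight fun y => by simp [mem_centralizer_singleton_iff, eq_comm])] at ott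
  have ozt := o1 pz' pt
  rw [map_mul, pz, if_neg nzt] at ozt
  have otz := o1 pt pz'
  rw [map_mul, pz, if_neg fun h => nzt h.symm] at otz
  have zr := fun {g h x y : G} => sum_prinBlk_mul_conj_eq_zero (g := g) (h := h) (x := x) (y := y) Nat.prime_two
  have orth : ∀ i j, ∑ k, X i k * conj (X j k) = if i = j then ![48, 8, 6, 8, 8] i else 0 := fun i j => by
    rw [Finset.sum_coe_sort (prinBlk 2 G) fun χ => χ.1 (el i) * conj (χ.1 (el j))]
    fin_cases i <;> fin_cases j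
    exacts [by exact_mod_cast ozz, zr pz' pa n24.1, ozt, zr pz' pb' n28.1, zr pz' pc n27.1,
      zr pa pz' n24.2, oa, zr pa pt n24.2, zr pa pb' n48.1, zr pa pc n47.1,
      otz, zr pt pa n24.1, by exact_mod_cast ott, zr pt pb' n28.1, zr pt pc n27.1,
      zr pb' pz' n28.2, zr pb' pa n48.2, zr pb' pt n28.2, ob, zr pb' pc n87,
      zr pc pz' n27.2, zr pc pa n47.2, zr pc pt n27.2, zr pc pb' fun h => n87 h.symm, oc]
  rw [b4'] at hc he hp hq
  have ha' : ∀ k, (a k : ℂ) = ∑ i, ![0, 1 / 2, 0, 1 / 4, 1 / 4] i * X i k := fun k => by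
    rw [ha]; simp [Fin.sum_univ_five, X, el]; ring
  have hc' : ∀ k, (c k : ℂ) = ∑ i, ![1 / 6, 0, 1 / 3, 1 / 4, 1 / 4] i * X i k := fun k => by
    rw [hc]; simp [Fin.sum_univ_five, X, el]; ring
  have he' : ∀ k, (e k : ℂ) = ∑ i, ![1 / 6, 0, 1 / 3, -1 / 4, -1 / 4] i * X i k := fun k => by
    rw [he]; simp [Fin.sum_univ_five, X, el]; ring
  have hp' : ∀ k, (p k : ℂ) = ∑ i, ![-1 / 12, -1 / 4, 1 / 3, (ζ + ζ ^ 3) / 8, -(ζ + ζ ^ 3) / 8] i * X i k := fun k => by
    rw [hp]; simp [Fin.sum_univ_five, X, el]; ring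
  have hq' : ∀ k, (q k : ℂ) = ∑ i, ![-1 / 12, -1 / 4, 1 / 3, -(ζ + ζ ^ 3) / 8, (ζ + ζ ^ 3) / 8] i * X i k := fun k => by
    rw [hq]; simp [Fin.sum_univ_five, X, el]; ring
  have dv : ∀ {g : G}, IsPPart 2 g z ∨ g ^ 4 = z ∨ g ^ 2 = z → 2 ∣ orderOf g := by
    rintro g (⟨y, rfl, c, -, hy⟩ | h | h)
    · rw [c.orderOf_mul_eq_mul_orderOf_of_coprime (by rw [hz]; exact (Nat.Prime.coprime_iff_not_dvd Nat.prime_two).2 hy), hz]
      exact dvd_mul_right _ _
    · exact hz ▸ h ▸ orderOf_pow_dvd 4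
    · exact hz ▸ h ▸ orderOf_pow_dvd 2
  have deg : ∀ i, ∑ k, X i k * d k = (0 : Fin 5 → ℂ) i := fun i => by
    simp only [← d1, mul_comm (X i _)]
    rw [Finset.sum_coe_sort (prinBlk 2 G) fun χ => χ.1 1 * χ.1 (el i)]
    refine sum_prinBlk_degree_mul_eq_zero Nat.prime_two (dv ?_)
    fin_cases i
    exacts [Or.inl pz', Or.inr (Or.inr ((pow_mul _ 2 2).symm.trans b4')), Or.inl pt, Or.inr (Or.inl b4'), Or.inr (Or.inl b74)]
  have dz : ∀ {n : prinBlk 2 G → ℤ} {α : Fin 5 → ℂ}, (∀ k, (n k : ℂ) = ∑ i, α i * X i k) → ∑ k, n k * d k = 0 := fun h => by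
    have := lin X _ _ deg h
    simp only [Pi.zero_apply, mul_zero, Finset.sum_const_zero] at this
    exact_mod_cast this
  have hv : ∀ k, k.1.1 z = (3 * c k + e k - 2 * p k - 2 * q k - 2 * a k : ℤ) := fun k => by
    push_cast; rw [ha, hc, he, hp, hq]; ring
  have i0 : (H.index : ℂ) ≠ 0 := Nat.cast_ne_zero.2 index_ne_zero_of_finite
  have g0 := natCard_ne_zero G
  have k0 := natCard_ne_zero π.ker
  have m0' : (m : ℂ) ≠ 0 := Nat.cast_ne_zero.2 m0.ne'
  have cls : ∀ i, ∑ k, X i k * (((3 * c k + e k - 2 * p k - 2 * q k - 2 * a k : ℤ) : ℂ) ^ 2 / d k) =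
      ![12, 4, 6, 0, 0] i * (m ^ 2 * Nat.card G / (Nat.card π.ker * H.index ^ 2)) := fun i => by
    have : ∑ k, X i k * (((3 * c k + e k - 2 * p k - 2 * q k - 2 * a k : ℤ) : ℂ) ^ 2 / d k) =
        ∑ χ ∈ prinBlk 2 G, conj (χ.1 z) * conj (χ.1 z) * χ.1 (el i) / χ.1 1 := by
      rw [← Finset.sum_coe_sort (prinBlk 2 G)]
      exact Finset.sum_congr rfl fun k _ => by rw [hv, d1, map_intCast]; ring
    rw [this]
    have gen : ∀ {S K : ℂ} {r : ℕ}, (H.index : ℂ) * H.index / Nat.card G * S = K⁻¹ * ((r * m ^ 2 : ℕ) : ℂ) →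
        S = r * (m ^ 2 * Nat.card G / (K * H.index ^ 2)) := fun {S K r} h => by
      rw [← mul_right_inj' (div_ne_zero (mul_ne_zero i0 i0) g0), h]
      push_cast
      field_simp
    have gen0 : ∀ {S K : ℂ}, (H.index : ℂ) * H.index / Nat.card G * S = K⁻¹ * ((0 : ℕ) : ℂ) → S = 0 := fun h =>
      (mul_eq_zero.1 (h.trans (by simp))).resolve_left (div_ne_zero (mul_ne_zero i0 i0) g0)
    fin_cases i
    exacts [by exact_mod_cast gen sz, by exact_mod_cast gen sa, by exact_mod_cast gen st, (gen0 sb).trans (by simp),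
      (gen0 sc).trans (by simp)]
  let o : prinBlk 2 G := ⟨irrOne G, irrOne_mem_prinBlk Nat.prime_two⟩
  have ov : ∀ {n : prinBlk 2 G → ℤ} {α : Fin 5 → ℂ} {r : ℤ}, (∀ k, (n k : ℂ) = ∑ i, α i * X i k) → ∑ i, α i = r → n o = r :=
    fun h h' => by
      have := h o
      simp only [X, o, irrOne_apply, mul_one, h'] at this
      exact_mod_cast this
  have G := fun {n n' α β} (hn : ∀ k, ((n k : ℤ) : ℂ) = _) hn' {r} => gram X _ orth (n := n) (n' := n') (α := α) (β := β) hn hn' (r := r)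
  have ss : (ζ + ζ ^ 3) ^ 2 = -2 := by linear_combination (ζ ^ 2 + 2) * hζ
  have cs : conj (ζ + ζ ^ 3) = -(ζ + ζ ^ 3) := by
    rw [map_add, map_pow, cζ]; linear_combination -ζ * (ζ ^ 4 - 1) * hζ
  generalize ζ + ζ ^ 3 = s at *
  obtain ⟨hκ, k, ko, hk⟩ := numeric o a c e p q d _ (m ^ 2 * Nat.card _ / (Nat.card π.ker * H.index ^ 2))
    (div_ne_zero (mul_ne_zero (pow_ne_zero _ m0') g0) (mul_ne_zero k0 (pow_ne_zero _ i0))) d0
    (by have := d1 o; rw [irrOne_apply] at this; exact_mod_cast this.symm)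
    (ov ha' (by simp [Fin.sum_univ_five]; norm_num)) (ov hc' (by simp [Fin.sum_univ_five]; norm_num))
    (ov he' (by simp [Fin.sum_univ_five]; norm_num)) (ov hp' (by simp [Fin.sum_univ_five]; ring))
    (ov hq' (by simp [Fin.sum_univ_five]; ring))
    (G ha' ha' (by simp [Fin.sum_univ_five, map_ofNat]; norm_num)) (G hc' hc' (by simp [Fin.sum_univ_five, map_ofNat]; norm_num))
    (G he' he' (by simp [Fin.sum_univ_five, map_ofNat]; norm_num))
    (G hp' hp' (by simp [Fin.sum_univ_five, map_ofNat, cs]; linear_combination -ss / 4))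
    (G hq' hq' (by simp [Fin.sum_univ_five, map_ofNat, cs]; linear_combination -ss / 4))
    (G ha' hc' (by simp [Fin.sum_univ_five, map_ofNat]; norm_num)) (G ha' he' (by simp [Fin.sum_univ_five, map_ofNat]; norm_num))
    (G ha' hp' (by simp [Fin.sum_univ_five, map_ofNat, cs]; ring)) (G ha' hq' (by simp [Fin.sum_univ_five, map_ofNat, cs]; ring))
    (G hc' he' (by simp [Fin.sum_univ_five, map_ofNat]; norm_num))
    (G hp' hc' (by simp [Fin.sum_univ_five, map_ofNat]; ring)) (G hq' hc' (by simp [Fin.sum_univ_five, map_ofNat]; ring))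
    (G hp' he' (by simp [Fin.sum_univ_five, map_ofNat]; ring)) (G hq' he' (by simp [Fin.sum_univ_five, map_ofNat]; ring))
    (G hp' hq' (by simp [Fin.sum_univ_five, map_ofNat, cs]; linear_combination ss / 4))
    (dz ha') (dz hc') (dz he') (dz hp') (dz hq') (fun _ => rfl) h8
    (by rw [lin X _ _ cls ha']; simp [Fin.sum_univ_five]; ring) (by rw [lin X _ _ cls hc']; simp [Fin.sum_univ_five]; ring)
    (by rw [lin X _ _ cls he']; simp [Fin.sum_univ_five]; ring)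
  refine ⟨⟨m, m0, mle, hκ.imp (fun h => ?_) fun h => ?_⟩, k.1, k.2, fun h => ko (Subtype.ext h), by rw [d1, hv, hk]; push_cast; rfl⟩
  all_goals
    rw [div_eq_div_iff (mul_ne_zero k0 (pow_ne_zero _ i0)) (by norm_num)] at h
    have h' := (mul_comm _ _).trans h
    rw [← mul_assoc, ← mul_assoc] at h'
    exact_mod_cast h'

end Cfsg.Agent.H2.Wg
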