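import Cfsg.Agent.H2.W4
import Cfsg.Agent.H2.Fp3

/-! The core of the involution centralizer is trivial. -/

set_option autoImplicit false
set_option linter.unusedSectionVars false

namespace Cfsg.Agent.H2.Wg

open Subgroup Cfsg.Agent.L0 Cfsg.Agent.H2.Hw
open scoped ComplexConjugate

open Classical in
theorem coef {ι A : Type*} [Group A] (I : Finset ι) (l : ι → A →* ℂ) (c : ι → ℂ) (h : ∀ u, ∑ r ∈ I, c r * l r u = 0)
    (ψ : A →* ℂ) : ∑ r ∈ I.filter (fun r => l r = ψ), c r = 0 := by
  by_cases hψ : ψ ∈ I.image l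
  · refine linearIndependent_iff'.1 (linearIndependent_monoidHom A ℂ) (I.image l)
      (fun ψ => ∑ r ∈ I.filter (fun r => l r = ψ), c r) ?_ ψ hψ
    ext u
    rw [Finset.sum_apply, Pi.zero_apply, ← h u, ← Finset.sum_fiberwise_of_maps_to fun r hr => Finset.mem_image_of_mem l hr]
    refine Finset.sum_congr rfl fun φ _ => ?_
    rw [Pi.smul_apply, smul_eq_mul, Finset.sum_mul]
    exact Finset.sum_congr rfl fun r hr => by rw [(Finset.mem_filter.1 hr).2]
  · exact Finset.sum_eq_zero fun r hr => (hψ ((Finset.mem_filter.1 hr).2 ▸ Finset.mem_image_of_mem l (Finset.mem_filter.1 hr).1)).elim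

theorem fixed {ι A : Type*} [Group A] (I : Finset ι) (hI : I.card = 4) (l : ι → A →* ℂ) (c : ι → ℂ) (hc : ∀ r, c r ≠ 0)
    (h : ∀ u, ∑ r ∈ I, c r * l r u = 0) (σ : A →* A) (h3 : ∀ u, σ (σ (σ u)) = u)
    (hσ : ∀ u, ∑ r ∈ I, l r (σ u) = ∑ r ∈ I, l r u) {r : ι} (hr : r ∈ I) : (l r).comp σ = l r := by
  classical
  have two : ∀ r ∈ I, 2 ≤ (I.filter fun s => l s = l r).card := fun r hr => by
    have hm : r ∈ I.filter fun s => l s = l r := Finset.mem_filter.2 ⟨hr, rfl⟩
    by_contra hn
    have := coef I l c h (l r)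
    rw [Finset.eq_singleton_iff_unique_mem.2 ⟨hm, fun s hs => Finset.card_le_one.1 (by omega) _ hs _ hm⟩,
      Finset.sum_singleton] at this
    exact hc r this
  have nxt : ∀ r ∈ I, ∃ s ∈ I, l s = (l r).comp σ := fun r hr => by
    have := coef (I.disjSum I) (Sum.elim (fun r => (l r).comp σ) l) (Sum.elim (fun _ => 1) fun _ => -1)
      (fun u => by simp [hσ]) ((l r).comp σ)
    simp only [Finset.sum_filter, Finset.sum_disjSum, Sum.elim_inl, Sum.elim_inr] at this
    by_contra hn
    push Not at hn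
    have h0 := (congrArg (_ + ·) (Finset.sum_eq_zero fun s hs => if_neg (hn s hs))).symm.trans this
    rw [add_zero] at h0
    exact Finset.ne_empty_of_mem ((Finset.mem_filter (p := fun x => (l x).comp σ = (l r).comp σ)).2 ⟨hr, rfl⟩) (Finset.card_eq_zero.1 (Nat.cast_eq_zero.1
      ((Finset.sum_boole (R := ℂ) (fun x => (l x).comp σ = (l r).comp σ) I).symm.trans h0)))
  by_contra hn
  obtain ⟨s, hs, es⟩ := nxt r hr
  obtain ⟨t, ht, et⟩ := nxt s hs
  have n1 : l s ≠ l r := es ▸ hn
  have n2 : l t ≠ l s := fun e => hn (MonoidHom.ext fun u => by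
    have := DFunLike.congr_fun (et.symm.trans e) (σ (σ u))
    rwa [MonoidHom.comp_apply, h3, es, MonoidHom.comp_apply, MonoidHom.comp_apply, h3] at this)
  have n3 : l t ≠ l r := fun e => hn (MonoidHom.ext fun u => by
    have := DFunLike.congr_fun (et.symm.trans e) (σ u)
    rw [es, MonoidHom.comp_apply, MonoidHom.comp_apply, h3] at this
    exact this.symm)
  have dj : ∀ {a b}, l a ≠ l b → Disjoint (I.filter fun s => l s = l a) (I.filter fun s => l s = l b) := fun e =>
    Finset.disjoint_filter.2 fun _ _ h1 h2 => e (h1.symm.trans h2)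
  have := Finset.card_le_card (Finset.union_subset (Finset.union_subset (Finset.filter_subset (fun x => l x = l r) I)
    (Finset.filter_subset (fun x => l x = l s) I)) (Finset.filter_subset (fun x => l x = l t) I))
  rw [Finset.card_union_of_disjoint (Finset.disjoint_union_left.2 ⟨dj n3.symm, dj n2.symm⟩),
    Finset.card_union_of_disjoint (dj n1.symm)] at this
  have := two r hr
  have := two s hs
  have := two t ht
  omega

variable {G : Type*} [Group G] [Finite G]

theorem order [IsSimpleGroup G] {z : G} {H : Subgroup G} (hH : H = centralizer ({z} : Set G)) (hz : orderOf z = 2)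
    (h1 : ∀ u : G, orderOf u = 2 → IsConj z u) (π : H →* Y) (hs : Function.Surjective π) (hK : ¬ 2 ∣ Nat.card π.ker)
    (Q : Subgroup H) [Q.Normal] (hQ : Nat.card Q = 8) {x : H} (x3 : x ^ 3 = 1) (x1 : π x ≠ 1)
    (hx : ∀ k ∈ π.ker, x * k = k * x → k = 1) :
    Function.Injective π ∧ (Nat.card G = 7920 ∨ Nat.card G = 5616) := by
  classical
  obtain ⟨⟨m, m0, mle, hm⟩, χ, hχ, χ1, χ8⟩ := chars hH hz h1 π hs hK Q hQ x3 x1
  suffices hb : π.ker = ⊥ by
    have hi := (MonoidHom.ker_eq_bot_iff π).1 hb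
    have c48 : Nat.card H = 48 := by rw [← Y.card]; exact Nat.card_congr (Equiv.ofBijective π ⟨hi, hs⟩)
    have := H.card_mul_index
    have i0 : 0 < H.index := Nat.pos_of_ne_zero index_ne_zero_of_finite
    rw [hb, card_bot] at hm mle
    obtain rfl : m = 1 := by omega
    rw [← this, c48] at hm ⊢
    refine ⟨hi, hm.imp (fun h => ?_) fun h => ?_⟩
    · rw [Nat.eq_of_mul_eq_mul_left i0 (show H.index * H.index = H.index * 165 by nlinarith)]
    · rw [Nat.eq_of_mul_eq_mul_left i0 (show H.index * H.index = H.index * 117 by nlinarith)]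
  rw [eq_bot_iff_forall]
  intro k hk
  obtain ⟨inj, sur, mem, cm, b, j, pb, b8, b2, hj, pj, e3, e6⟩ := lifts π hs hK Q hQ
  have fK : Fp x π.ker := ⟨fun y hy => Normal.conj_mem inferInstance y hy x, by rw [← x3, pow_succ, pow_two], hx⟩
  let zz : H := ⟨z, hH.ge (mem_centralizer_singleton_iff.2 rfl)⟩
  have cz : ∀ g : H, g * zz = zz * g := fun g => Subtype.ext (mem_centralizer_singleton_iff.1 (hH.le g.2))
  have z2 : zz * zz = 1 := Subtype.ext (by simpa [hz, pow_two] using pow_orderOf_eq_one z)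
  have b4 : b ^ 2 * b ^ 2 = zz := by
    have n1 : b ^ 4 ≠ 1 := fun h => b0_pow.2.2.2.2.2.1 (by rw [← b0_pow.1, ← pb, ← map_pow, h, map_one])
    have z1 : z ≠ 1 := by rintro rfl; simp at hz
    have pz : π zz = z0 := by
      refine (z0_uniq _ (by rw [← map_mul, z2, map_one]) (by rw [← pj, ← map_mul, cz, map_mul])).resolve_left fun h => ?_
      exact z1 (congrArg Subtype.val (odd_pow_eq_one hK (m := 1) h (by rw [pow_one, pow_two, z2])))
    have k1 : b ^ 4 * zz ∈ π.ker := by rw [MonoidHom.mem_ker, map_mul, map_pow, pb, pz, b0_pow.1, b0_pow.2.2.2.2.2.2.1]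
    have := odd_pow_eq_one hK (m := 1) k1 (by
      rw [pow_one, (show Commute _ zz from cz _).mul_pow, ← pow_mul, b8, pow_two, z2, one_mul])
    rw [← pow_add, ← mul_one (b ^ (2 + 2)), ← z2, ← mul_assoc, this, one_mul]
  let A : Subgroup H := closure {k, x * k * x⁻¹}
  have AK : A ≤ π.ker := (closure_le _).2 (by rintro _ (rfl | rfl); exacts [hk, fK.cj _ hk])
  have fA : Fp x A := fK.mono AK fun y hy => by
    refine (closure_le (A.comap (MulAut.conj x).toMonoidHom)).2 ?_ hy
    rintro _ (rfl | rfl)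
    · exact subset_closure (Or.inr rfl)
    · have e : x * (x * k * x⁻¹) * x⁻¹ = (k * (x * k * x⁻¹))⁻¹ := by
        rw [show x * (x * k * x⁻¹) * x⁻¹ = x * x * k * (x * x)⁻¹ by group, fK.sq, inv_inv]
        exact eq_inv_of_mul_eq_one_right (fK.rel hk)
      change x * (x * k * x⁻¹) * x⁻¹ ∈ A
      rw [e]
      exact inv_mem (mul_mem (subset_closure (Or.inl rfl)) (subset_closure (Or.inr rfl)))
  let B : Subgroup H := closure {b ^ 2, k, x * k * x⁻¹}
  have AB : A ≤ B := closure_mono (Set.subset_insert _ _)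
  haveI : IsMulCommutative B := isMulCommutative_closure (by
    have c1 := cm k hk _ b2
    have c2 := cm _ (fK.cj _ hk) _ b2
    have c3 := (fK.comm hk).eq
    rintro _ (rfl | rfl | rfl) _ (rfl | rfl | rfl)
    exacts [rfl, c1.symm, c2.symm, c1, rfl, c3, c2, c3.symm, rfl])
  obtain ⟨n, μ, hn, hμ⟩ := IsCharacter.exists_sum_monoidHom (IsCharacter.comp (IsIrrCharacter.isCharacter χ.2)
    (H.subtype.comp B.subtype))
  let i : B := ⟨b ^ 2, subset_closure (Or.inl rfl)⟩
  have cf := IsIrrCharacter.isClassFunction χ.2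
  have cj : ∀ (c u : H), χ.1 (c * u * c⁻¹ : H) = χ.1 u := fun c u => (IsClassFunction.eq_of_isConj cf
    (isConj_iff.2 ⟨c, rfl⟩)).symm
  have hμ' : ∀ u : B, χ.1 (u : H) = ∑ r, μ r u := hμ
  let I : Finset (Fin n) := Finset.univ.filter fun r => μ r (i * i) = -1
  have pm : ∀ r, r ∉ I → μ r (i * i) = 1 := fun r hr => by
    have : μ r (i * i) * μ r (i * i) = 1 := by
      rw [← map_mul, show i * i * (i * i) = 1 from Subtype.ext (by change b ^ 2 * b ^ 2 * (b ^ 2 * b ^ 2) = 1; rw [b4, z2]), map_one]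
    exact (mul_self_eq_one_iff.1 this).resolve_right (by simpa [I] using hr)
  have dif : ∀ u : B, χ.1 (u : H) - χ.1 (zz * u : H) = 2 * ∑ r ∈ I, μ r u := fun u => by
    rw [← b4, show ((b ^ 2 * b ^ 2 * u : H) : G) = ((i * i * u : B) : H) from rfl, hμ', hμ', ← Finset.sum_sub_distrib,
      Finset.mul_sum, ← Finset.sum_subset (Finset.subset_univ I) fun r _ hr => by rw [map_mul, pm r hr]; ring]
    exact Finset.sum_congr rfl fun r hr => by rw [map_mul, (Finset.mem_filter.1 hr).2]; ring
  have c4 : I.card = 4 := by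
    have := dif 1
    simp only [OneMemClass.coe_one, mul_one, map_one, Finset.sum_const, nsmul_eq_mul, zz, χ8] at this
    exact_mod_cast (by linear_combination -this / 2 : (I.card : ℂ) = 4)
  have zn : ∀ u ∈ π.ker, χ.1 (zz * u : H) = χ.1 z := fun u hu => by
    rw [← cz]
    exact prinBlk_apply_mul Nat.prime_two (two_part (k := 1) (by rw [pow_one, ← hz, pow_orderOf_eq_one]))
      (N := π.ker.map H.subtype) ((map_subtype_le _).trans hH.le)
      (by rw [← hH, subgroupOf, comap_map_eq_self_of_injective H.subtype_injective]; infer_instance)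
      (by rwa [card_map_of_injective H.subtype_injective]) (mem_map_of_mem _ hu) hχ
  let σ : A →* A := MonoidHom.mk' (fun y => ⟨x * y * x⁻¹, fA.cj _ y.2⟩) fun a b => Subtype.ext (by simp)
  have fx := fun {r} => fixed I c4 (fun r => (μ r).comp (inclusion AB)) (fun r => μ r i)
    (fun r h => one_ne_zero ((map_one (μ r)).symm.trans (by rw [← mul_inv_cancel i, map_mul, h, zero_mul]))) (fun u => by
      have h1 := dif (i * inclusion AB u)
      have h2 : (zz * (i * inclusion AB u : B) : H) = j * (i * inclusion AB u : B) * j⁻¹ := by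
        change zz * (b ^ 2 * u) = j * (b ^ 2 * u) * j⁻¹
        rw [← mul_assoc, ← mul_assoc, mul_assoc _ u.1, cm _ (AK u.2) _ (inv_mem hj), ← mul_assoc, e6, ← b4, ← pow_add, ← pow_add]
      rw [h2, cj, sub_self] at h1
      simp only [map_mul] at h1
      exact (mul_eq_zero.1 h1.symm).resolve_left two_ne_zero) σ (fun u => Subtype.ext (by
      change x * (x * (x * u * x⁻¹) * x⁻¹) * x⁻¹ = u
      rw [show x * (x * (x * u * x⁻¹) * x⁻¹) * x⁻¹ = x * x * x * u * (x * x * x)⁻¹ by group, fA.cube]; simp)) (fun u => by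
      have h1 := dif (inclusion AB (σ u))
      have h2 := dif (inclusion AB u)
      rw [zn (inclusion AB (σ u)) (AK (σ u).2)] at h1
      rw [zn (inclusion AB u) (AK u.2)] at h2
      exact mul_left_cancel₀ two_ne_zero (h1.symm.trans ((congrArg (· - χ.1 z) (cj x u)).trans h2))) (r := r)
  have kA : k ∈ A := subset_closure (Or.inl rfl)
  obtain ⟨g, hg, eg⟩ := fA.surj kA
  have := dif ⟨k, AB kA⟩
  rw [zn k hk, Finset.sum_congr rfl (g := fun _ => 1) fun r hr => ?_, Finset.sum_const, c4] at this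
  · have h0 : (k : G) ∈ charKer χ.1 := (IsCharacter.mem_charKer_iff (IsIrrCharacter.isCharacter χ.2)).2 (by
      rw [χ8]; simp at this; linear_combination this)
    rw [IsIrrCharacter.charKer_eq_bot_of_isSimpleGroup χ.2 fun h => χ1 (Subtype.ext h)] at h0
    exact Subtype.ext h0
  · have e1 : μ r (inclusion AB (σ ⟨g, hg⟩)) = μ r (inclusion AB ⟨g, hg⟩) := DFunLike.congr_fun (fx hr) ⟨g, hg⟩
    rw [show (⟨k, AB kA⟩ : B) = (inclusion AB ⟨g, hg⟩)⁻¹ * inclusion AB (σ ⟨g, hg⟩) from Subtype.ext (by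
      change k = g⁻¹ * (x * g * x⁻¹); rw [← mul_assoc, ← mul_assoc, ← eg, mul_inv_cancel_right]), map_mul, e1, ← map_mul,
      inv_mul_cancel, map_one]

end Cfsg.Agent.H2.Wg
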