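import Cfsg.Agent.H2.L4e
import Cfsg.Agent.H2.L4f
import Cfsg.Agent.H2.D13

/-! The projective plane of order three attached to two subgroups of order nine. -/

set_option autoImplicit false
set_option linter.unusedSectionVars false

namespace Cfsg.Agent.H2.Wg

open Subgroup Cfsg.Agent.FT Cfsg.Agent.L0 Cfsg.Agent.H8 Cfsg.Agent.H2.Chk
open Cfsg.Agent.H2.CI (cjm cjm' Pt Fl)
open scoped LinearAlgebra.Projectivization Pointwise

universe u

theorem steiner13 {α β : Type*} [Fintype α] [DecidableEq α] [Fintype β] (hα : Fintype.card α = 13) (blk : β → Finset α)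
    (h1 : ∀ l, (blk l).card = 4) (h2 : ∀ x, {l | x ∈ blk l}.ncard = 4)
    (h3 : ∀ x y l l', x ≠ y → x ∈ blk l → y ∈ blk l → x ∈ blk l' → y ∈ blk l' → l = l') :
    IsSteinerSystem 2 4 (Set.range blk) := by
  classical
  refine ⟨by rintro _ ⟨l, rfl⟩; exact h1 l, fun s hs => ?_⟩
  obtain ⟨x, y, hne, rfl⟩ := Finset.card_eq_two.1 hs
  have hc : ((Finset.univ.filter fun l => x ∈ blk l).biUnion fun l => (blk l).erase x).card = 12 := by
    rw [Finset.card_biUnion fun l hl l' hl' hn => Finset.disjoint_left.2 fun y hy hy' => hn (h3 x y l l'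
      (Finset.ne_of_mem_erase hy).symm (by simpa using hl) (Finset.mem_of_mem_erase hy) (by simpa using hl')
      (Finset.mem_of_mem_erase hy')), Finset.sum_congr rfl (g := fun _ => 3) fun l hl => by
        rw [Finset.card_erase_of_mem (by simpa using hl), h1], Finset.sum_const]
    have := h2 x
    rw [show {l | x ∈ blk l} = ↑(Finset.univ.filter fun l => x ∈ blk l) by ext; simp, Set.ncard_coe_finset] at this
    rw [this]; rfl
  have he : ((Finset.univ.filter fun l => x ∈ blk l).biUnion fun l => (blk l).erase x) = Finset.univ.erase x :=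
    Finset.eq_of_subset_of_card_le (fun y hy => by
    obtain ⟨l, -, hy⟩ := Finset.mem_biUnion.1 hy
    exact Finset.mem_erase.2 ⟨Finset.ne_of_mem_erase hy, Finset.mem_univ _⟩)
    (by rw [hc, Finset.card_erase_of_mem (Finset.mem_univ _), Finset.card_univ, hα])
  obtain ⟨l, hl, hy⟩ := Finset.mem_biUnion.1 (he.ge (Finset.mem_erase.2 ⟨hne.symm, Finset.mem_univ y⟩))
  have hl' : x ∈ blk l := by simpa using hl
  refine ⟨blk l, ⟨⟨l, rfl⟩, fun z hz => ?_⟩, ?_⟩
  · simp only [Finset.mem_insert, Finset.mem_singleton] at hz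
    rcases hz with rfl | rfl
    exacts [hl', Finset.mem_of_mem_erase hy]
  · rintro _ ⟨⟨l', rfl⟩, hs⟩
    rw [h3 x y l' l hne (hs (Finset.mem_insert_self x {y})) (hs (Finset.mem_insert_of_mem (Finset.mem_singleton_self y)))
      hl' (Finset.mem_of_mem_erase hy)]

open Projectivization Matrix in
theorem psl_of_plane {G α : Type*} [Group G] [Finite G] [Fintype α] [DecidableEq α] (hG : Nat.card G = 5616)
    {B : Set (Finset α)} (hα : Fintype.card α = 13) (hB : IsSteinerSystem 2 4 B) (φ : G →* setSystemAut B)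
    (hφ : Function.Injective φ) : Nonempty (G ≃* ProjectiveSpecialLinearGroup (Fin 3) (ZMod 3)) := by
  classical
  let F := ZMod 3
  have hF : Fintype.card F = 3 := ZMod.card 3
  haveI := Fintype.ofFinite (ℙ F (Fin 3 → F))
  have c13 : Fintype.card (ℙ F (Fin 3 → F)) = 13 := by
    rw [← Nat.card_eq_fintype_card, card_of_finrank F _ (Module.finrank_fin_fun F), Nat.card_eq_fintype_card, hF]; rfl
  have o3 : Configuration.ProjectivePlane.order (ℙ F (Fin 3 → F)) (ℙ F (Fin 3 → F)) = 3 := by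
    have := Configuration.ProjectivePlane.card_points (ℙ F (Fin 3 → F)) (ℙ F (Fin 3 → F))
    rw [c13] at this
    nlinarith
  let blk : ℙ F (Fin 3 → F) → Finset (ℙ F (Fin 3 → F)) := fun l => Finset.univ.filter fun p => p.orthogonal l
  let B' : Set (Finset (ℙ F (Fin 3 → F))) := Set.range blk
  have hB' : IsSteinerSystem 2 4 B' := by
    refine ⟨?_, fun s hs => ?_⟩
    · rintro _ ⟨l, rfl⟩
      have := Configuration.ProjectivePlane.pointCount_eq (ℙ F (Fin 3 → F)) l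
      rw [o3, Configuration.pointCount, Nat.card_eq_fintype_card, Fintype.card_subtype] at this
      exact this
    · obtain ⟨x, y, hne, rfl⟩ := Finset.card_eq_two.1 hs
      obtain ⟨l, hl, hu⟩ := Configuration.HasLines.existsUnique_line (ℙ F (Fin 3 → F)) (ℙ F (Fin 3 → F)) x y hne
      refine ⟨blk l, ⟨⟨l, rfl⟩, fun z hz => ?_⟩, ?_⟩
      · simp only [Finset.mem_insert, Finset.mem_singleton] at hz
        rcases hz with rfl | rfl
        · exact Finset.mem_filter.2 ⟨Finset.mem_univ _, hl.1⟩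
        · exact Finset.mem_filter.2 ⟨Finset.mem_univ _, hl.2⟩
      · rintro _ ⟨⟨l', rfl⟩, hs⟩
        rw [hu l' ⟨(Finset.mem_filter.1 (hs (Finset.mem_insert_self x {y}))).2,
          (Finset.mem_filter.1 (hs (Finset.mem_insert_of_mem (Finset.mem_singleton_self y)))).2⟩]
  let ψ0 : GL (Fin 3) F →* setSystemAut B' := (MulAction.toPermHom _ (ℙ F (Fin 3 → F))).codRestrict _ fun g => by
    refine CI.mem_aut_of_sub ?_
    rintro _ ⟨l, rfl⟩
    induction l using Projectivization.ind with | _ w hw =>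
    have h0 : w ᵥ* (g⁻¹).1 ≠ 0 := fun e => hw (by
      rw [← vecMul_one w, ← Units.inv_mul g, ← vecMul_vecMul, e, zero_vecMul])
    have key : ∀ p : ℙ F (Fin 3 → F), (g • p).orthogonal (mk F _ h0) ↔ p.orthogonal (mk F w hw) := fun p => by
      induction p using Projectivization.ind with | _ v hv =>
      rw [smul_mk, orthogonal_mk, orthogonal_mk, dotProduct_comm, dotProduct_comm v, ← dotProduct_mulVec]
      change w ⬝ᵥ (g⁻¹).1 *ᵥ (g.1 *ᵥ v) = 0 ↔ _
      rw [mulVec_mulVec, Units.inv_mul, one_mulVec]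
    refine ⟨mk F _ h0, ?_⟩
    ext x
    simp only [blk, Finset.mem_smul_finset, Finset.mem_filter, Finset.mem_univ, true_and]
    constructor
    · intro hx
      exact ⟨g⁻¹ • x, (key _).1 (by rwa [smul_inv_smul]), smul_inv_smul g x⟩
    · rintro ⟨y, hy, rfl⟩
      exact (key y).2 hy
  have hk : center (GL (Fin 3) F) = ψ0.ker := by rw [MonoidHom.ker_codRestrict, L4.ker_act]
  let ψ := QuotientGroup.lift _ ψ0 hk.le
  have hψ : Function.Injective ψ := (QuotientGroup.injective_lift_iff _ _ _).2 hk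
  obtain ⟨e1, he1⟩ := D13.strong.exists_equiv' hα hB
  obtain ⟨e2, he2⟩ := D13.strong.exists_equiv' c13 hB'
  let χ : G →* setSystemAut B' := ((autEquiv he1).trans (autEquiv he2).symm).toMonoidHom.comp φ
  have hχ : Function.Injective χ := ((autEquiv he1).trans (autEquiv he2).symm).injective.comp hφ
  have ca : Nat.card (setSystemAut B') = 5616 := by
    rw [D13.strong.card_aut (by norm_num) D13.card_stab c13 hB']
    norm_num [Nat.descFactorial]
  have cp : Nat.card (GL (Fin 3) F ⧸ center (GL (Fin 3) F)) = 5616 := by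
    have h1 := (center (GL (Fin 3) F)).card_mul_index
    have h2 : Nat.card (center (GL (Fin 3) F)) = 2 := by
      rw [GeneralLinearGroup.center_eq_range_scalar, ← Nat.card_congr (MonoidHom.ofInjective fun a b e => Units.ext (by
        simpa using congrArg (fun g : GL (Fin 3) F => g.1 0 0) e)).toEquiv, Nat.card_units, Nat.card_eq_fintype_card, hF]
    rw [h2, card_GL_field, hF] at h1
    simp only [Fin.prod_univ_three] at h1
    rw [← index_eq_card]
    norm_num at h1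
    omega
  have hs : Function.Surjective (ProjectiveSpecialLinearGroup.toPGL (n := Fin 3) (R := F)) :=
    ProjectiveSpecialLinearGroup.toPGL_surj_of_roots fun r => ⟨r, by revert r; decide⟩
  exact ⟨(MulEquiv.ofBijective χ ((Nat.bijective_iff_injective_and_card _).2 ⟨hχ, hG.trans ca.symm⟩)).trans
    ((MulEquiv.ofBijective ψ ((Nat.bijective_iff_injective_and_card _).2 ⟨hψ, cp.trans ca.symm⟩)).symm.trans
      (MulEquiv.ofBijective _ ⟨ProjectiveSpecialLinearGroup.toPGL_injective, hs⟩).symm)⟩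

variable {G : Type u} [Group G] [Finite G] {P E U X X' Y Y' : Subgroup G} {a b g x : G}

theorem card_orb (L X : Subgroup G) : #|L| = {Y | ∃ g ∈ L, cj g X = Y}.ncard * #|(L ⊓ 𝐍(X) : Subgroup G)| := by
  rw [← H6.ncard_subgroup L]
  refine H6.ncard_eq_mul_of_fibers (fun g => cj g X) _ {Y | ∃ g ∈ L, cj g X = Y} (fun g hg => ⟨g, hg, rfl⟩) ?_
  rintro _ ⟨k, hk, rfl⟩
  rw [← H6.ncard_subgroup]
  refine Set.ncard_congr (fun g _ => k⁻¹ * g) (fun g hg => ⟨L.mul_mem (L.inv_mem hk) hg.1, cj_eq_self_iff.1 ?_⟩)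
    (fun _ _ _ _ e => mul_left_cancel e) fun g hg => ⟨k * g, ⟨L.mul_mem hk hg.1, by rw [cj_mul, cj_eq_self hg.2]⟩, by simp⟩
  rw [cj_mul, hg.2, cj_inv_cj]

theorem le_nm_of_three (hP : IsPGroup 3 P) (hle : E ≤ P) (h : #|P| = 3 * #|E|) : P ≤ 𝐍(E) := by
  haveI := Fact.mk Nat.prime_three
  have c0 : 0 < #|E| := Nat.card_pos
  have h1 := lt_inf_normalizer_of_pgroup hP (lt_of_le_of_ne hle fun e => by rw [e] at h c0; omega)
  obtain ⟨k, hk⟩ := card_dvd_of_le h1.le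
  obtain ⟨l, hl⟩ := card_dvd_of_le (inf_le_left : P ⊓ 𝐍(E) ≤ P)
  have h2 : k * l = 3 := Nat.eq_of_mul_eq_mul_left c0 (by rw [← mul_assoc, ← hk, ← hl, h, mul_comm])
  have h3 : k ≠ 1 := by rintro rfl; exact h1.ne (eq_of_le_of_card_ge h1.le (by omega))
  have h4 : k = 3 := ((Nat.dvd_prime Nat.prime_three).1 ⟨l, h2.symm⟩).resolve_left h3
  exact inf_eq_left.1 (eq_of_le_of_card_ge inf_le_left (by rw [hk, h4, h, mul_comm]))

/-- the building data -/
structure Pl (x : G) (P E U : Subgroup G) : Prop where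
  card : Nat.card G = 5616
  syl : IsSylowIn 3 P ⊤
  cP : #|P| = 27
  x3 : orderOf x = 3
  EP : E ≤ P
  UP : U ≤ P
  cE : #|E| = 9
  cU : #|U| = 9
  ne : E ≠ U
  xE : x ∈ E
  xU : x ∈ U
  Z : ∀ g ∈ P, P ≤ 𝐂[g] → g ∈ zpowers x
  NP : 𝐍(P) ≤ 𝐍(zpowers x)
  BE : 𝐍(zpowers x) ≤ 𝐍(E)
  BU : 𝐍(zpowers x) ≤ 𝐍(U)
  cB : #|𝐍(zpowers x)| = 108
  nE : #|𝐍(E)| = 432
  nU : #|𝐍(U)| = 432

theorem eq_of_three (h1 : #|X| = 3) (h2 : #|Y| = 3) (ha : a ∈ X) (ha' : a ∈ Y) (a1 : a ≠ 1) : X = Y := by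
  have : ∀ {X : Subgroup G}, #|X| = 3 → a ∈ X → zpowers a = X := fun h ha => eq_of_le_of_card_ge (zpowers_le.2 ha) (by
    rw [h, Nat.card_zpowers, ((Nat.dvd_prime Nat.prime_three (m := orderOf a)).1 (h ▸ orderOf_dvd_natCard _ ha)).resolve_left
      (by rwa [orderOf_eq_one_iff])])
  rw [← this h1 ha, this h2 ha']

namespace Pl

variable (h : Pl x P E U)
include h

theorem symm : Pl x P U E :=
  ⟨h.card, h.syl, h.cP, h.x3, h.UP, h.EP, h.cU, h.cE, h.ne.symm, h.xU, h.xE, h.Z, h.NP, h.BU, h.BE, h.cB, h.nU, h.nE⟩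

theorem nP : P ≤ 𝐍(E) := le_nm_of_three h.syl.pgroup h.EP (by rw [h.cP, h.cE])

theorem inf : E ⊓ U = zpowers x := by
  refine (eq_of_le_of_card_ge (zpowers_le.2 (mem_inf.2 ⟨h.xE, h.xU⟩)) ?_).symm
  have h1 := card_dvd_of_le (inf_le_left : E ⊓ U ≤ E)
  have h2 : #|(E ⊓ U : Subgroup G)| ≠ 9 := fun e => h.ne (eq_of_le_of_card_ge
    (inf_eq_left.1 (eq_of_le_of_card_ge inf_le_left (by rw [e, h.cE]))) (by rw [h.cE, h.cU]))
  rw [h.cE] at h1
  rw [Nat.card_zpowers, h.x3]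
  have := Nat.le_of_dvd (by norm_num) h1
  interval_cases #|(E ⊓ U : Subgroup G)| <;> omega

theorem top {M : Subgroup G} (h1 : E ≤ M) (hb : b ∈ M) (hb' : b ∈ P) (hn : b ∉ E) : P ≤ M := by
  have h2 : E ≤ M ⊓ P := le_inf h1 h.EP
  have h3 := card_dvd_of_le h2
  have h4 := card_dvd_of_le (inf_le_right : M ⊓ P ≤ P)
  have h5 : #|(M ⊓ P : Subgroup G)| ≠ 9 := fun e => hn ((eq_of_le_of_card_ge h2 (by rw [e, h.cE])).ge ⟨hb, hb'⟩)
  rw [h.cE] at h3
  rw [h.cP] at h4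
  have := Nat.le_of_dvd (by norm_num) h4
  refine inf_eq_right.1 (eq_of_le_of_card_ge inf_le_right ?_)
  rw [h.cP]
  interval_cases #|(M ⊓ P : Subgroup G)| <;> omega

theorem ab (ha : a ∈ E) : E ≤ 𝐂[a] := fun b hb => by
  haveI := Fact.mk Nat.prime_three
  have := IsPGroup.isMulCommutative_of_card_eq_prime_sq (p := 3) (G := E) h.cE
  exact mem_centralizer_singleton_iff.2 (congrArg Subtype.val (mul_comm' (⟨b, hb⟩ : E) ⟨a, ha⟩))

theorem fl (hf : Fl E U X Y) : #|(X ⊓ Y : Subgroup G)| = 3 ∧ X ≤ 𝐍(Y) ∧ Y ≤ 𝐍(X) ∧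
    ∀ a ∈ X, ∀ b ∈ Y, a * b = b * a → a ∈ Y ∨ b ∈ X := by
  obtain ⟨g, rfl, rfl⟩ := hf
  refine ⟨by rw [← cj_inf, card_cj, h.inf, Nat.card_zpowers, h.x3], ?_, ?_, fun a ha b hb e => ?_⟩
  · rw [← cj_normalizer]; exact cj_mono g (h.EP.trans h.symm.nP)
  · rw [← cj_normalizer]; exact cj_mono g (h.UP.trans h.nP)
  · rw [mem_cj] at ha hb
    rw [mem_cj, mem_cj, or_iff_not_imp_right]
    intro hn
    refine zpowers_le.2 h.xU (h.Z _ (h.EP ha) (h.top (h.ab ha) (mem_centralizer_singleton_iff.2 ?_) (h.UP hb) hn))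
    calc _ = g⁻¹ * (b * a) * g := by group
      _ = _ := by rw [← e]; group

theorem det (hf : Fl E U X Y) (hf' : Fl E U X' Y') (ha : a ∈ X ⊓ Y) (ha' : a ∈ X' ⊓ Y') (a1 : a ≠ 1) : X = X' ∧ Y = Y' := by
  have e := eq_of_three (h.fl hf).1 (h.fl hf').1 ha ha' a1
  obtain ⟨g, rfl, rfl⟩ := hf
  obtain ⟨g', rfl, rfl⟩ := hf'
  rw [← cj_inf, ← cj_inf, h.inf] at e
  have : g'⁻¹ * g ∈ 𝐍(zpowers x) := cj_eq_self_iff.1 (by rw [cj_mul, e, cj_inv_cj])
  constructor
  · conv_rhs => rw [← cj_eq_self (h.BE this), ← cj_mul, mul_inv_cancel_left]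
  · conv_rhs => rw [← cj_eq_self (h.BU this), ← cj_mul, mul_inv_cancel_left]

theorem uniq (h1 : Fl E U X Y) (h2 : Fl E U X' Y) (h3 : Fl E U X Y') (h4 : Fl E U X' Y') (hne : X ≠ X') : Y = Y' := by
  by_contra hn
  have ex : ∀ {X Y}, Fl E U X Y → ∃ a ∈ X ⊓ Y, a ≠ 1 := fun {X Y} hf => by
    obtain ⟨⟨a, ha⟩, a1⟩ := (ne_bot_iff_exists_ne_one (H := X ⊓ Y)).1 fun e => by have := (h.fl hf).1; rw [e, card_bot] at this; omega
    exact ⟨a, ha, fun e => a1 (Subtype.ext e)⟩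
  obtain ⟨b, hb, b1⟩ := ex h3
  obtain ⟨c, hc, c1⟩ := ex h2
  have cm : ∀ {X Y}, Fl E U X Y → ∀ a ∈ X, ∀ b ∈ Y, a * b * a⁻¹ * b⁻¹ ∈ X ⊓ Y := fun hf a ha b hb =>
    mem_inf.2 ⟨by rw [mul_assoc, mul_assoc, ← mul_assoc b]; exact mul_mem ha (cjm ((h.fl hf).2.2.1 hb) (inv_mem ha)),
      mul_mem (cjm ((h.fl hf).2.1 ha) hb) (inv_mem hb)⟩
  refine hne (h.det h1 h4 (cm h1 b hb.1 c hc.2) (by simpa [mul_assoc] using inv_mem (cm h4 c hc.1 b hb.2)) fun e => ?_).1
  rcases (h.fl h1).2.2.2 b hb.1 c hc.2 (by rwa [mul_inv_eq_one, mul_inv_eq_iff_eq_mul] at e) with k | k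
  · exact hn (h.det h1 h3 ⟨hb.1, k⟩ hb b1).2
  · exact hne (h.det h1 h2 ⟨k, hc.2⟩ hc c1).1

theorem four (hY : Pt U Y) : {X | Fl E U X Y}.ncard = 4 := by
  obtain ⟨k, rfl⟩ := hY
  have h1 := card_orb 𝐍(U) E
  have h2 : 𝐍(U) ⊓ 𝐍(E) = 𝐍(zpowers x) := le_antisymm
    (by rw [← h.inf, inf_comm]; exact inf_normalizer_le_normalizer_inf) (le_inf h.BU h.BE)
  rw [h2, h.nU, h.cB] at h1
  rw [show 4 = {Y | ∃ g ∈ 𝐍(U), cj g E = Y}.ncard by omega]
  refine (Set.ncard_congr (fun X _ => cj k X) ?_ (fun _ _ _ _ e => cj_injective k e) ?_).symm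
  · rintro _ ⟨g, hg, rfl⟩
    exact ⟨k * g, (cj_mul _ _ _).symm, by rw [cj_mul, cj_eq_self hg]⟩
  · rintro _ ⟨g, rfl, e⟩
    exact ⟨_, ⟨k⁻¹ * g, cj_eq_self_iff.1 (by rw [cj_mul, ← e, cj_inv_cj]), rfl⟩, by rw [← cj_mul, mul_inv_cancel_left]⟩

theorem psl [IsSimpleGroup G] : Nonempty (G ≃* Matrix.ProjectiveSpecialLinearGroup (Fin 3) (ZMod 3)) := by
  classical
  haveI := Fintype.ofFinite (Subgroup G)
  letI := CI.Am.act E
  have sm : ∀ (g : G) (x : {X // Pt E X}), (g • x).1 = cj g x.1 := fun _ _ => rfl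
  let blk : {Y // Pt U Y} → Finset {X // Pt E X} := fun Y => Finset.univ.filter fun x => Fl E U x.1 Y.1
  have hα : Fintype.card {X // Pt E X} = 13 := by
    have h1 := card_orb ⊤ E
    rw [top_inf_eq, card_top, h.card, h.nE] at h1
    rw [← Nat.card_eq_fintype_card, show 13 = {Y | ∃ g ∈ (⊤ : Subgroup G), cj g E = Y}.ncard by omega, ← Nat.card_coe_set_eq]
    exact Nat.card_congr (Equiv.subtypeEquivRight fun X => ⟨fun ⟨g, e⟩ => ⟨g, trivial, e.symm⟩, fun ⟨g, _, e⟩ => ⟨g, e.symm⟩⟩)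
  have hB := steiner13 hα blk (fun Y => by
      rw [← h.four Y.2, ← Set.ncard_coe_finset]
      exact Set.ncard_congr (fun X _ => X.1) (fun X hX => by simpa [blk] using hX) (fun _ _ _ _ e => Subtype.ext e)
        fun X hX => ⟨⟨X, hX.pt⟩, by simpa [blk] using hX, rfl⟩) (fun X => by
      rw [← h.symm.four X.2]
      exact Set.ncard_congr (fun Y _ => Y.1) (fun Y hY => Fl.symm (by simpa [blk] using hY)) (fun _ _ _ _ e => Subtype.ext e)
        fun Y hY => ⟨⟨Y, hY.pt⟩, by simpa [blk] using hY.symm, rfl⟩) fun x y l l' hne a b c d =>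
    Subtype.ext (h.uniq (Finset.mem_filter.1 a).2 (Finset.mem_filter.1 b).2 (Finset.mem_filter.1 c).2
      (Finset.mem_filter.1 d).2 fun e => hne (Subtype.ext e))
  let φ : G →* setSystemAut (Set.range blk) := (MulAction.toPermHom G {X // Pt E X}).codRestrict _ fun g => by
    refine CI.mem_aut_of_sub ?_
    rintro _ ⟨Y, rfl⟩
    refine ⟨⟨cj g Y.1, Y.2.conj g⟩, ?_⟩
    ext x
    simp only [blk, Finset.mem_smul_finset, Finset.mem_filter, Finset.mem_univ, true_and]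
    constructor
    · intro hx
      exact ⟨g⁻¹ • x, by simpa only [cj_inv_cj, sm] using hx.conj g⁻¹, smul_inv_smul g x⟩
    · rintro ⟨y, hy, rfl⟩
      exact hy.conj g
  obtain ⟨g, hg⟩ : ∃ g, g ∉ 𝐍(E) := by
    by_contra hn
    push Not at hn
    have := h.nE
    rw [(eq_top_iff (a := 𝐍(E))).2 fun g _ => hn g, card_top, h.card] at this
    omega
  exact psl_of_plane h.card hα hB φ ((MonoidHom.injective_codRestrict _ _ _).2 (H6.toPermHom_injective (g := g)
    (ω := ⟨E, 1, (cj_one _).symm⟩) fun e => hg (cj_eq_self_iff.1 (congrArg Subtype.val e))))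

end Pl

end Cfsg.Agent.H2.Wg
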