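import Cfsg.Agent.H2.W6
import Cfsg.Agent.H2.W5
import Cfsg.Agent.H3.M11
import Cfsg.Agent.H1.Mathieu
import Cfsg.Agent.H9.F3c
import Cfsg.Agent.H4.Scn3

/-! A simple group of order `5616` with an involution centralizer `GL₂(3)`. -/

set_option autoImplicit false
set_option linter.unusedSectionVars false

namespace Cfsg.Agent.H2.Wg

open Subgroup Cfsg.Agent.FT Cfsg.Agent.L0 Cfsg.Agent.H8
open Cfsg.Agent.H2.CI (cjm cjm' card_orbit)

universe u

variable {G : Type u} [Group G] [Finite G] {A B M P : Subgroup G} {c g v w x y z : G}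

theorem idx2 (hA : A ≤ M) (hB : A ≤ B) (hc : #|B| = 2 * #|A|) (h1 : z ∈ M) (h2 : z ∈ B) (h3 : z ∉ A) : B ≤ M := by
  have c0 : 0 < #|A| := Nat.card_pos
  obtain ⟨k, hk⟩ := card_dvd_of_le (le_inf hA hB)
  have h4 := card_le_of_le (inf_le_right : M ⊓ B ≤ B)
  have h5 : k ≠ 1 := by rintro rfl; exact h3 ((eq_of_le_of_card_ge (le_inf hA hB) (by omega)).ge ⟨h1, h2⟩)
  have h6 : k ≠ 0 := by rintro rfl; exact Nat.card_pos.ne' hk
  exact inf_eq_right.1 (eq_of_le_of_card_ge inf_le_right (by rw [hk, hc]; nlinarith [Nat.pos_of_ne_zero h6, show 2 ≤ k by omega]))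

theorem inv_count (hv : v ∈ 𝐍(P)) (v2 : v * v = 1) :
    #|P| ≤ {g | g ∈ P ∧ v * g * v⁻¹ = g⁻¹}.ncard * #|(P ⊓ 𝐂[v] : Subgroup G)| := by
  rw [← H6.ncard_subgroup P]
  refine H6.ncard_le_mul_of_fibers (fun g => g⁻¹ * (v * g * v⁻¹)) _ {g | g ∈ P ∧ v * g * v⁻¹ = g⁻¹}
    (fun g hg => ⟨P.mul_mem (P.inv_mem hg) (cjm hv hg), ?_⟩) fun b _ => ?_
  · calc _ = v * g⁻¹ * v⁻¹ * (v * v) * g * (v * v)⁻¹ := by group
      _ = _ := by rw [v2]; group
  · rcases Set.eq_empty_or_nonempty {a | a ∈ (P : Set G) ∧ a⁻¹ * (v * a * v⁻¹) = b} with e | ⟨k, hk⟩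
    · rw [e]; simp
    rw [← H6.ncard_subgroup]
    refine Set.ncard_le_ncard_of_injOn (fun g => g * k⁻¹) (fun g hg => ⟨P.mul_mem hg.1 (P.inv_mem hk.1),
      mem_centralizer_singleton_iff.2 ?_⟩) fun _ _ _ _ e => mul_right_cancel e
    calc g * k⁻¹ * v = g * (k⁻¹ * (v * k * v⁻¹)) * v * k⁻¹ := by group
      _ = _ := by rw [hk.2.trans hg.2.symm]; group

theorem three_mem (ha : #|A| = 3) (hx : x ∈ A) (x1 : x ≠ 1) (hy : y ∈ A) : y = 1 ∨ y = x ∨ y = x⁻¹ := by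
  classical
  have o : orderOf x = 3 := ((Nat.dvd_prime Nat.prime_three).1 (ha ▸ orderOf_dvd_natCard _ hx)).resolve_left
    (by rwa [orderOf_eq_one_iff])
  rw [← eq_of_le_of_card_ge (zpowers_le.2 hx) (by rw [ha, Nat.card_zpowers, o]), mem_zpowers_iff_mem_range_orderOf, o] at hy
  obtain ⟨i, hi, rfl⟩ := Finset.mem_image.1 hy
  rw [Finset.mem_range] at hi
  interval_cases i
  · exact Or.inl (pow_zero x)
  · exact Or.inr (Or.inl (pow_one x))
  · exact Or.inr (Or.inr (eq_inv_of_mul_eq_one_left (by rw [← pow_succ]; exact orderOf_dvd_iff_pow_eq_one.1 o.dvd)))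

theorem nm_zp (h : g * x * g⁻¹ = x ∨ g * x * g⁻¹ = x⁻¹) : g ∈ 𝐍(zpowers x) := by
  refine mem_normalizer_of_cj_le ?_
  rw [cj, MonoidHom.map_zpowers, zpowers_le]
  change g * x * g⁻¹ ∈ _
  rcases h with h | h <;> rw [h]
  exacts [mem_zpowers x, inv_mem (mem_zpowers x)]

/-- the local data -/
structure L3 (z x w : G) : Prop where
  card : Nat.card G = 5616
  z2 : orderOf z = 2
  w2 : orderOf w = 2
  x3 : orderOf x = 3
  zx : z * x = x * z
  zw : z * w = w * z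
  wx : w * x * w⁻¹ = x⁻¹
  c6 : #|(𝐂[x] ⊓ 𝐂[z] : Subgroup G)| = 6
  c48 : ∀ v : G, orderOf v = 2 → #|𝐂[v]| = 48
  cj3 : ∀ v y : G, orderOf v = 2 → orderOf y = 3 → v * y = y * v → IsConj x y

namespace L3

variable [IsSimpleGroup G] (h : L3 z x w)
include h

theorem nab : ¬ IsMulCommutative G := H6.not_isMulCommutative_of_card (by rw [h.card]; norm_num)

theorem x1 : x ≠ 1 := by rintro rfl; have := h.x3; simp at this

theorem xi : x⁻¹ ≠ x := fun e => by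
  have := orderOf_dvd_of_pow_eq_one (show x ^ 2 = 1 by rw [pow_two]; nth_rw 1 [← e]; exact inv_mul_cancel x)
  rw [h.x3] at this
  omega

theorem zz : z * z = 1 := by rw [← pow_two, ← h.z2, pow_orderOf_eq_one]
theorem ww : w * w = 1 := by rw [← pow_two, ← h.w2, pow_orderOf_eq_one]
theorem zx' : z * x * z⁻¹ = x := mul_inv_eq_iff_eq_mul.2 h.zx

theorem swap : L3 z x (w * z) := by
  have e : w * z * x * (w * z)⁻¹ = x⁻¹ := by rw [← h.wx]; nth_rw 2 [← h.zx']; group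
  exact ⟨h.card, h.z2, orderOf_eq_prime (by rw [pow_two, mul_assoc, ← mul_assoc z, h.zw, mul_assoc, h.zz, mul_one, h.ww])
    fun e' => h.xi (by rw [← e, e']; simp), h.x3, h.zx, by rw [← mul_assoc, h.zw], e, h.c6, h.c48, h.cj3⟩

theorem not4 : ¬ 4 ∣ #|𝐂[x]| := fun h4 => by
  haveI := Fact.mk Nat.prime_two
  have hz : z ∈ 𝐂[x] := mem_centralizer_singleton_iff.2 h.zx
  have pz : IsPGroup 2 (zpowers z) := IsPGroup.of_card (n := 1) (by rw [Nat.card_zpowers, h.z2, pow_one])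
  obtain ⟨R, hR, hle⟩ := exists_isSylowIn_ge pz (zpowers_le.2 hz)
  have h1 : zpowers z < R := lt_of_le_of_ne hle fun e => by
    have := hR.not_dvd_relIndex
    have h2 := relIndex_mul_card_of_le hR.le
    rw [← e, Nat.card_zpowers, h.z2] at h2
    rw [← e] at this
    omega
  have h2 := lt_inf_normalizer_of_pgroup hR.pgroup h1
  rw [H4.normalizer_zpowers_two h.z2] at h2
  have h3 := card_dvd_of_le (inf_le_inf_right 𝐂[z] hR.le)
  obtain ⟨n, hn⟩ := (hR.pgroup.to_le (inf_le_left : R ⊓ 𝐂[z] ≤ R)).exists_card_eq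
  have h5 : #|zpowers z| < _ := card_lt_of_lt h2
  rw [h.c6, hn] at h3
  rw [Nat.card_zpowers, h.z2, hn] at h5
  have : n ≤ 1 := by
    by_contra hn'
    have := (pow_dvd_pow 2 (show 2 ≤ n by omega)).trans h3
    omega
  interval_cases n <;> omega

theorem not13 : ¬ 13 ∣ #|𝐂[x]| := fun h13 => by
  haveI := Fact.mk (by norm_num : Nat.Prime 13)
  obtain ⟨f, hf⟩ := exists_prime_orderOf_dvd_card' (G := 𝐂[x]) 13 h13
  rw [← orderOf_coe] at hf
  have hF : IsSylowIn 13 (zpowers (f : G)) ⊤ := IsSylowIn.of_not_dvd_relIndex le_top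
    (IsPGroup.of_card (n := 1) (by rw [Nat.card_zpowers, hf, pow_one])) (by
      have := (zpowers (f : G)).card_mul_index
      rw [Nat.card_zpowers, hf, h.card] at this
      rw [relIndex_top_right]; omega)
  obtain ⟨F, hF'⟩ := hF.exists_sylow_top
  have h1 := H6.card_sylow_mul_card_normalizer F
  have h2 := card_sylow_modEq_one 13 G
  have h3 := H6.relIndex_centralizer_ne_one (H6.perfect_of_simple h.nab) (by rw [h.card]; norm_num) F
  have h4 := H6.relIndex_centralizer_mul_card (F : Subgroup G)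
  have h5 := H6.two_mul_card_dvd_factorial_card_sylow h.nab (p := 13) (by rw [h.card]; norm_num)
  rw [hF'] at h1 h3 h4
  have cz : ∀ g : G, g * f = f * g → g ∈ 𝐂(zpowers (f : G)) := fun g hg => by
    rintro _ ⟨k, rfl⟩
    exact ((show Commute g f from hg).zpow_right k).eq.symm
  have d3 := orderOf_dvd_natCard _ (cz x (mem_centralizer_singleton_iff.1 f.2).symm)
  have d13 := orderOf_dvd_natCard _ (cz f rfl)
  rw [h.x3] at d3
  rw [hf] at d13
  obtain ⟨k, hk⟩ := Nat.Coprime.mul_dvd_of_dvd_of_dvd (by norm_num) d3 d13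
  rw [← h4, hk, h.card] at h1
  rw [h.card] at h5
  generalize Nat.card (Sylow 13 G) = n at *
  generalize relIndex (G := G) _ _ = r at *
  have h6 : n * (r * k) = 144 := by nlinarith
  have h7 : n ∣ 144 := ⟨_, h6.symm⟩
  have := Nat.le_of_dvd (by norm_num) h7
  unfold Nat.ModEq at h2
  interval_cases n <;> first | omega | (revert h5; norm_num) | skip
  exact h3 (Nat.eq_one_of_mul_eq_one_right (by omega : r * k = 1))

theorem syl (hP : IsSylowIn 3 P 𝐂[x]) : #|𝐂[x]| = 2 * #|P| ∧ #|P| ∣ 27 := by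
  haveI := Fact.mk Nat.prime_three
  have h1 := h.card ▸ (𝐂[x]).card_subgroup_dvd_card
  have h2 : 2 ∣ #|𝐂[x]| := h.z2 ▸ orderOf_dvd_natCard _ (mem_centralizer_singleton_iff.2 h.zx)
  have h3 := h.not4
  have h4 := h.not13
  have h5 : #|𝐂[x]| ∣ 54 := by
    obtain ⟨k, hk⟩ := h2
    rw [hk] at h1 h3 h4 ⊢
    have c : k.Coprime (2 ^ 3 * 13) := Nat.Coprime.mul_right (Nat.Coprime.pow_right _ (Odd.coprime_two_right
      (Nat.odd_iff.2 (by omega)))) ((Nat.Prime.coprime_iff_not_dvd (by norm_num)).2 fun e => h4 (e.mul_left 2)).symm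
    exact Nat.mul_dvd_mul_left 2 (c.dvd_of_dvd_mul_left (Nat.dvd_of_mul_dvd_mul_left two_pos (show 2 * k ∣ 2 * (2 ^ 3 * 13 * 27) from h1)))
  have h6 := hP.not_dvd_relIndex
  have h7 := relIndex_mul_card_of_le hP.le
  obtain ⟨n, hn⟩ := hP.pgroup.exists_card_eq
  have h8 : #|P| ∣ 27 := (show (#|P|).Coprime 2 by rw [hn]; exact Nat.Coprime.pow_left _ (by norm_num)).dvd_of_dvd_mul_left
    ((card_dvd_of_le hP.le).trans h5)
  refine ⟨?_, h8⟩
  have := Nat.le_of_dvd (by norm_num) h8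
  have h9 := Nat.le_of_dvd (by norm_num) ((Dvd.intro _ h7).trans h5)
  rw [← h7] at h5 h2 ⊢
  generalize relIndex (G := G) _ _ = r at *
  generalize #|P| = m at *
  interval_cases m <;> first | omega | (interval_cases r <;> omega)

theorem uq (hP : IsSylowIn 3 P 𝐂[x]) {R : Subgroup G} (hR : IsPGroup 3 R) (hle : R ≤ 𝐂[x]) : R ≤ P := by
  haveI := Fact.mk Nat.prime_three
  exact hP.le_of_le_normalizer' hR hle (hle.trans (H9.F3.le_nm_of_card hP.le (h.syl hP).1.le))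

theorem nm (hP : IsSylowIn 3 P 𝐂[x]) (hg : g ∈ 𝐍(zpowers x)) : g ∈ 𝐍(P) := by
  refine mem_normalizer_of_cj_le (h.uq hP (pgroup_cj hP.pgroup g) ?_)
  rw [← centralizer_zpowers x, ← cj_eq_self hg, ← cj_centralizer, centralizer_zpowers]
  exact cj_mono g hP.le

theorem xP (hP : IsSylowIn 3 P 𝐂[x]) (hy : orderOf y = 3) (hc : y * x = x * y) : y ∈ P :=
  zpowers_le.1 (h.uq hP (IsPGroup.of_card (n := 1) (by rw [Nat.card_zpowers, hy, pow_one])) (zpowers_le.2 (mem_centralizer_singleton_iff.2 hc)))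

theorem zB : z ∈ 𝐍(zpowers x) := nm_zp (Or.inl h.zx')
theorem wB : w ∈ 𝐍(zpowers x) := nm_zp (Or.inr h.wx)

theorem four (h1 : z ∈ M) (h2 : w ∈ M) : 4 ∣ #|M| := by
  have := CI.card_sup_zp (Q := zpowers z) (t := w) (nm_zp (Or.inl (by rw [← h.zw, mul_inv_cancel_right])))
    (fun hw => h.xi (by
      obtain ⟨k, rfl⟩ := hw
      rw [← h.wx, mul_inv_eq_iff_eq_mul]
      exact ((show Commute z x from h.zx).zpow_left k).eq)) (h.ww ▸ one_mem _)
  rw [Nat.card_zpowers, h.z2] at this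
  exact (show 4 = _ from this.symm) ▸ card_dvd_of_le (sup_le (zpowers_le.2 h1) (zpowers_le.2 h2))

theorem c27 (hP : IsSylowIn 3 P 𝐂[x]) : #|P| = 27 := by
  haveI := Fact.mk Nat.prime_three
  obtain ⟨h1, h2⟩ := h.syl hP
  obtain ⟨S, hS, hle⟩ := exists_isSylowIn_ge hP.pgroup le_top
  have cS : #|S| = 27 := by
    rw [hS.card_eq, card_top, h.card, show 5616 = 3 ^ 3 * 208 from rfl, Nat.factorization_mul (by norm_num) (by norm_num),
      Nat.prime_three.factorization_pow, Finsupp.add_apply, Finsupp.single_eq_same, Nat.factorization_eq_zero_of_not_dvd (by norm_num)]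
    rfl
  obtain ⟨c, hc, c3, hcc, -⟩ := H5.exists_mem_centralizer_of_isPGroup hS.pgroup hS.pgroup le_normalizer
    (by rintro rfl; simp at cS)
  have xP := h.xP hP h.x3 rfl
  have cP := h.xP hP c3 (hcc x (hle xP)).symm
  by_contra hn
  have nc : ¬ IsConj x c := fun e => by
    have := card_dvd_of_le (show S ≤ 𝐂[c] from fun g hg => mem_centralizer_singleton_iff.2 (hcc g hg))
    rw [← H6.card_centralizer_eq_of_isConj e, h1, cS] at this
    have := Nat.le_of_dvd (by norm_num) h2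
    interval_cases #|P| <;> omega
  have xi : IsConj x x⁻¹ := isConj_iff.2 ⟨w, h.wx⟩
  have nc' : ¬ IsConj x c⁻¹ := fun e => nc (xi.trans (by
    obtain ⟨g, hg⟩ := isConj_iff.1 e
    exact isConj_iff.2 ⟨g, by rw [← inv_inv c, ← hg]; group⟩))
  have c1 : c ≠ 1 := by rintro rfl; simp at c3
  have c9 : #|P| = 9 := by
    have h3 := h.x3 ▸ orderOf_dvd_natCard _ xP
    have h4 : #|P| ≠ 3 := fun e => by
      rcases three_mem e xP h.x1 cP with e | e | e
      exacts [c1 e, nc (e ▸ IsConj.refl x), nc (e ▸ xi)]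
    have := Nat.le_of_dvd (by norm_num) h2
    interval_cases #|P| <;> omega
  have o := card_orbit 𝐍(P) x
  have CN : 𝐂[x] ≤ 𝐍(P) := H9.F3.le_nm_of_card hP.le h1.le
  rw [show 𝐍(P) ⊓ CI.Ce x = 𝐂[x] from inf_eq_right.2 CN, h1, c9] at o
  have ci : c⁻¹ ≠ c := fun e => by
    have := orderOf_dvd_of_pow_eq_one (show c ^ 2 = 1 by rw [pow_two]; nth_rw 1 [← e]; exact inv_mul_cancel c)
    rw [c3] at this
    omega
  have sub : {y | ∃ g ∈ 𝐍(P), g * x * g⁻¹ = y} ⊆ (P : Set G) \ {1, c, c⁻¹} := by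
    rintro _ ⟨g, hg, rfl⟩
    refine ⟨cjm hg xP, ?_⟩
    rintro (e | e | e)
    exacts [CI.conj_ne_one h.x1 e, nc (isConj_iff.2 ⟨g, e⟩), nc' (isConj_iff.2 ⟨g, e⟩)]
  have c6 : ((P : Set G) \ {1, c, c⁻¹}).ncard = 6 := by
    rw [Set.ncard_diff (by rintro _ (rfl | rfl | rfl); exacts [one_mem P, cP, inv_mem cP]), H6.ncard_subgroup, c9,
      Set.ncard_eq_three.2 ⟨_, _, _, c1.symm, (inv_ne_one.2 c1).symm, ci.symm, rfl⟩]
  have d4 := h.four (h.nm hP h.zB) (h.nm hP h.wB)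
  have d27 := cS ▸ card_dvd_of_le (le_nm_of_three hS.pgroup hle (by rw [cS, c9]))
  have le := c6 ▸ Set.ncard_le_ncard sub
  have p0 : 0 < #|𝐍(P)| := Nat.card_pos
  have eq := Set.eq_of_subset_of_ncard_le sub (by rw [c6]; omega)
  have key : ∀ v ∈ 𝐍(P), v * c * v⁻¹ = c ∨ v * c * v⁻¹ = c⁻¹ := fun v hv => by
    by_contra hn
    push Not at hn
    obtain ⟨g, -, e⟩ := eq.ge ⟨cjm hv cP, by rintro (e | e | e); exacts [CI.conj_ne_one c1 e, hn.1 e, hn.2 e]⟩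
    exact nc ((isConj_iff.2 ⟨g, e⟩).trans (isConj_iff.2 ⟨v, rfl⟩).symm)
  rcases key z (h.nm hP h.zB) with e | e
  · exact nc (h.cj3 z c h.z2 c3 (mul_inv_eq_iff_eq_mul.1 e))
  rcases key w (h.nm hP h.wB) with e' | e'
  · exact nc (h.cj3 w c h.w2 c3 (mul_inv_eq_iff_eq_mul.1 e'))
  refine nc (h.cj3 _ c h.swap.w2 c3 (mul_inv_eq_iff_eq_mul.1 ?_))
  calc _ = w * (z * c * z⁻¹) * w⁻¹ := by group
    _ = (w * c * w⁻¹)⁻¹ := by rw [e]; group
    _ = c := by rw [e', inv_inv]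

theorem cB (hP : IsSylowIn 3 P 𝐂[x]) : #|𝐍(zpowers x)| = 108 := by
  have o := card_orbit 𝐍(zpowers x) x
  rw [show 𝐍(zpowers x) ⊓ CI.Ce x = 𝐂[x] from inf_eq_right.2 fun g hg => nm_zp (Or.inl (mul_inv_eq_iff_eq_mul.2
    (mem_centralizer_singleton_iff.1 hg))), (h.syl hP).1, h.c27 hP,
    show {y | ∃ g ∈ 𝐍(zpowers x), g * x * g⁻¹ = y} = {x, x⁻¹} from Set.ext fun y => ⟨?_, ?_⟩, Set.ncard_pair h.xi.symm] at o
  · exact o
  · rintro ⟨g, hg, rfl⟩
    exact (three_mem (by rw [Nat.card_zpowers, h.x3]) (mem_zpowers x) h.x1 (cjm hg (mem_zpowers x))).resolve_left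
      (CI.conj_ne_one h.x1)
  · rintro (rfl | rfl)
    exacts [⟨1, one_mem _, by simp⟩, ⟨w, h.wB, h.wx⟩]

theorem c3 (hP : IsSylowIn 3 P 𝐂[x]) (hv : orderOf v = 2) : #|(P ⊓ 𝐂[v] : Subgroup G)| ∣ 3 :=
  Nat.dvd_gcd (h.c27 hP ▸ card_dvd_of_le (inf_le_left : P ⊓ 𝐂[v] ≤ P)) (h.c48 v hv ▸ card_dvd_of_le inf_le_right)

/-- an involution commuting with `z` and normalizing `P` has a fixed point on `P` -/
theorem fix (hP : IsSylowIn 3 P 𝐂[x]) (hv : orderOf v = 2) (hn : v ∈ 𝐍(P)) (hc : z * v = v * z) :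
    #|(P ⊓ 𝐂[v] : Subgroup G)| = 3 := by
  refine ((Nat.dvd_prime Nat.prime_three).1 (h.c3 hP hv)).resolve_left fun e => ?_
  have vv : v * v = 1 := by rw [← pow_two, ← hv, pow_orderOf_eq_one]
  have h1 := inv_count hn vv
  rw [e, mul_one, ← H6.ncard_subgroup] at h1
  have h2 := Set.eq_of_subset_of_ncard_le (fun g hg => hg.1) h1
  have h3 := inv_count (h.nm hP h.zB) h.zz
  have h4 := Nat.le_of_dvd (by norm_num) (h.c3 hP h.z2)
  have h5 : {g | g ∈ P ∧ z * g * z⁻¹ = g⁻¹} ⊆ (P ⊓ 𝐂[v * z] : Subgroup G) := fun g hg =>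
    ⟨hg.1, mem_centralizer_singleton_iff.2 (mul_inv_eq_iff_eq_mul.1 (by
      calc _ = v * (z * g * z⁻¹) * v⁻¹ := by group
        _ = (v * g * v⁻¹)⁻¹ := by rw [hg.2]; group
        _ = g := by rw [(h2.ge hg.1).2, inv_inv])).symm⟩
  have h6 := Nat.le_of_dvd (by norm_num) (h.c3 hP (v := v * z) (orderOf_eq_prime
    (by rw [pow_two, mul_assoc, ← mul_assoc z, hc, mul_assoc, h.zz, mul_one, vv]) fun e' => h.xi (by
      rw [← (h2.ge (h.xP hP h.x3 rfl)).2, eq_inv_of_mul_eq_one_left e', inv_eq_of_mul_eq_one_right h.zz, h.zx'])))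
  have h7 := Set.ncard_le_ncard h5
  rw [H6.ncard_subgroup] at h7
  rw [h.c27 hP] at h3
  nlinarith

theorem NP (hP : IsSylowIn 3 P 𝐂[x]) : IsSylowIn 3 P ⊤ ∧ 𝐍(P) ≤ 𝐍(zpowers x) := by
  haveI := Fact.mk Nat.prime_three
  haveI := Fact.mk Nat.prime_two
  have hS : IsSylowIn 3 P ⊤ := IsSylowIn.of_not_dvd_relIndex le_top hP.pgroup (by
    have := P.card_mul_index
    rw [h.c27 hP, h.card] at this
    rw [relIndex_top_right]; omega)
  refine ⟨hS, ?_⟩
  have BN : 𝐍(zpowers x) ≤ 𝐍(P) := fun g hg => h.nm hP hg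
  obtain ⟨k, hk⟩ := card_dvd_of_le BN
  obtain ⟨F, hF⟩ := hS.exists_sylow_top
  have h1 := H6.card_sylow_mul_card_normalizer F
  have h2 := card_sylow_modEq_one 3 G
  have h5 := H6.two_mul_card_dvd_factorial_card_sylow h.nab (p := 3) (by rw [h.card]; norm_num)
  rw [hF, hk, h.cB hP, h.card] at h1
  rw [h.card] at h5
  generalize Nat.card (Sylow 3 G) = n at *
  have h6 : n * k = 52 := by nlinarith
  have h7 : n ∣ 52 := ⟨_, h6.symm⟩
  have := Nat.le_of_dvd (by norm_num) h7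
  unfold Nat.ModEq at h2
  have hk' : k = 1 ∨ k = 4 := by interval_cases n <;> first | omega | (revert h5; norm_num)
  rcases hk' with rfl | rfl
  · exact (eq_of_le_of_card_ge BN (by omega)).ge
  exfalso
  obtain ⟨T, hT, hle⟩ := exists_isSylowIn_ge (IsPGroup.of_card (p := 2) (n := 1) (by rw [Nat.card_zpowers, h.z2, pow_one]))
    (zpowers_le.2 (BN h.zB))
  have cT : #|T| = 16 := by
    rw [hT.card_eq, hk, h.cB hP, show 108 * 4 = 2 ^ 4 * 27 from rfl, Nat.factorization_mul (by norm_num) (by norm_num),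
      Nat.prime_two.factorization_pow, Finsupp.add_apply, Finsupp.single_eq_same, Nat.factorization_eq_zero_of_not_dvd (by norm_num)]
    rfl
  obtain ⟨v, hv, v2, hc, -⟩ := H5.exists_mem_centralizer_of_isPGroup hT.pgroup hT.pgroup le_normalizer (by rintro rfl; simp at cT)
  have h3 := h.fix hP v2 (hT.le hv) (hc z (hle (mem_zpowers z)))
  obtain ⟨c, hc3⟩ := exists_prime_orderOf_dvd_card' (G := (P ⊓ 𝐂[v] : Subgroup G)) 3 h3.symm.dvd
  rw [← orderOf_coe] at hc3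
  obtain ⟨g, hg⟩ := isConj_iff.1 (h.cj3 v c v2 hc3 (mem_centralizer_singleton_iff.1 c.2.2).symm)
  have e : P ⊓ 𝐂[v] = cj g (zpowers x) := eq_of_three h3 (by rw [card_cj, Nat.card_zpowers, h.x3]) c.2
    (hg ▸ conj_mem_cj g (mem_zpowers x)) (by rintro e; rw [e] at hc3; simp at hc3)
  have : T ≤ cj g 𝐍(zpowers x) := fun t ht => by
    rw [cj_normalizer, ← e]
    refine inf_normalizer_le_normalizer_inf ⟨hT.le ht, cj_eq_self_iff.1 ?_⟩
    rw [cj_centralizer_singleton, hc t ht, mul_inv_cancel_right]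
  have := card_dvd_of_le this
  rw [card_cj, cT, h.cB hP] at this
  omega

theorem nine (hP : IsSylowIn 3 P 𝐂[x]) : ∃ E, E ≤ P ∧ #|E| = 9 ∧ x ∈ E ∧ 𝐍(zpowers x) ≤ 𝐍(E) ∧ #|𝐍(E)| = 432 ∧
    (∀ e ∈ E, w * z * e * (w * z)⁻¹ = e⁻¹) ∧ ∃ e ∈ E, e ≠ 1 ∧ w * e = e * w ∧ ¬ P ≤ 𝐂[e] := by
  haveI := Fact.mk Nat.prime_three
  have h3 := h.fix hP h.w2 (h.nm hP h.wB) h.zw
  obtain ⟨⟨y, yP, yw⟩, y3⟩ := exists_prime_orderOf_dvd_card' (G := (P ⊓ 𝐂[w] : Subgroup G)) 3 h3.symm.dvd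
  rw [← orderOf_coe] at y3
  change orderOf y = 3 at y3
  have y1 : y ≠ 1 := by rintro rfl; simp at y3
  have wy : w * y * w⁻¹ = y := mul_inv_eq_iff_eq_mul.2 (mem_centralizer_singleton_iff.1 yw).symm
  have cx : #|zpowers x| = 3 := by rw [Nat.card_zpowers, h.x3]
  have yx : y ∉ zpowers x := fun hy => by
    rcases three_mem cx (mem_zpowers x) h.x1 hy with e | e | e
    · exact y1 e
    · exact h.xi (by rw [← h.wx, ← e, wy])
    · exact h.xi (by rw [← h.wx, ← inv_inv x, ← e, show w * y⁻¹ * w⁻¹ = (w * y * w⁻¹)⁻¹ by group, wy])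
  have xP := h.xP hP h.x3 rfl
  have zy : z * y * z⁻¹ = y⁻¹ := by
    have m : z * y * z⁻¹ ∈ P ⊓ 𝐂[w] := cjm (inf_normalizer_le_normalizer_inf ⟨h.nm hP h.zB, cj_eq_self_iff.1 (by
      rw [cj_centralizer_singleton, h.zw, mul_inv_cancel_right])⟩) ⟨yP, yw⟩
    refine ((three_mem h3 ⟨yP, yw⟩ y1 m).resolve_left (CI.conj_ne_one y1)).resolve_left fun e => yx ?_
    rw [← eq_of_three (h.fix hP h.z2 (h.nm hP h.zB) rfl) cx ⟨xP, mem_centralizer_singleton_iff.2 h.zx.symm⟩ (mem_zpowers x) h.x1]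
    exact ⟨yP, mem_centralizer_singleton_iff.2 (mul_inv_eq_iff_eq_mul.1 e).symm⟩
  have xy : y * x = x * y := mem_centralizer_singleton_iff.1 (hP.le yP)
  have c9 : #|(zpowers x ⊔ zpowers y : Subgroup G)| = 9 := by
    rw [H5.card_sup_zpowers (p := 3) (nm_zp (Or.inl (mul_inv_eq_iff_eq_mul.2 xy))) yx (by rw [← y3, pow_orderOf_eq_one]; exact one_mem _), cx]
  have EP : zpowers x ⊔ zpowers y ≤ P := sup_le (zpowers_le.2 xP) (zpowers_le.2 yP)
  have nE : ∀ {g}, g ∈ 𝐍(zpowers x) → g ∈ 𝐍(zpowers y) → g ∈ 𝐍(zpowers x ⊔ zpowers y) := fun a b => H9.F3.nm_sup a b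
  have PE := le_nm_of_three hP.pgroup EP (by rw [h.c27 hP, c9])
  have CB : 𝐂[x] ≤ 𝐍(zpowers x) := fun g hg => nm_zp (Or.inl (mul_inv_eq_iff_eq_mul.2 (mem_centralizer_singleton_iff.1 hg)))
  have CE : 𝐂[x] ≤ 𝐍(zpowers x ⊔ zpowers y) := idx2 PE hP.le (h.syl hP).1 (nE h.zB (nm_zp (Or.inr zy)))
    (mem_centralizer_singleton_iff.2 h.zx) fun hz => by
      have := orderOf_dvd_natCard _ hz
      rw [h.z2, h.c27 hP] at this
      omega
  have BE : 𝐍(zpowers x) ≤ 𝐍(zpowers x ⊔ zpowers y) := idx2 CE CB (by rw [h.cB hP, (h.syl hP).1, h.c27 hP])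
    (nE h.wB (nm_zp (Or.inl wy))) h.wB fun hw => h.xi (by rw [← h.wx, mem_centralizer_singleton_iff.1 hw, mul_inv_cancel_right])
  obtain ⟨g, hg⟩ := isConj_iff.1 (h.cj3 w y h.w2 y3 (mem_centralizer_singleton_iff.1 yw).symm)
  have gB : g ∉ 𝐍(zpowers x) := fun hb => yx (hg ▸ cjm hb (mem_zpowers x))
  have m1 : ∀ u, orderOf u = 3 → u * y = y * u → u ∈ cj g P := fun u u3 hu => mem_cj.2 (h.xP hP
    ((H6.orderOf_eq_of_isConj (isConj_iff.2 ⟨g⁻¹, by rw [inv_inv]⟩)).symm.trans u3) (by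
      calc _ = g⁻¹ * (u * (g * x * g⁻¹)) * g := by group
        _ = g⁻¹ * (g * x * g⁻¹ * u) * g := by rw [hg, hu]
        _ = _ := by group))
  have P1 : ¬ cj g P ≤ 𝐍(P) := fun hle => gB ((h.NP hP).2 (mem_normalizer_of_cj_le
    ((h.NP hP).1.le_of_le_normalizer' (pgroup_cj hP.pgroup g) le_top hle)))
  have P1E : cj g P ≤ 𝐍(zpowers x ⊔ zpowers y) := le_nm_of_three (pgroup_cj hP.pgroup g)
    (sup_le (zpowers_le.2 (m1 x h.x3 xy.symm)) (zpowers_le.2 (m1 y y3 rfl))) (by rw [card_cj, h.c27 hP, c9])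
  refine ⟨_, EP, c9, mem_sup_left (mem_zpowers x), BE, ?_, fun e he => ?_, y, mem_sup_right (mem_zpowers y), y1,
    mul_inv_eq_iff_eq_mul.1 wy, fun hle => P1 (le_trans (le_of_eq ?_) le_normalizer)⟩
  · have o := card_orbit 𝐍(zpowers x ⊔ zpowers y) x
    rw [show 𝐍(zpowers x ⊔ zpowers y) ⊓ CI.Ce x = 𝐂[x] from inf_eq_right.2 CE, (h.syl hP).1, h.c27 hP] at o
    have le : {w | ∃ g ∈ 𝐍(zpowers x ⊔ zpowers y), g * x * g⁻¹ = w}.ncard ≤ 8 := by
      rw [show 8 = #|(zpowers x ⊔ zpowers y : Subgroup G)| - 1 by rw [c9], ← CI.ncard_sharp]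
      refine Set.ncard_le_ncard ?_
      rintro _ ⟨g, hg, rfl⟩
      exact ⟨cjm hg (mem_sup_left (mem_zpowers x)), CI.conj_ne_one h.x1⟩
    obtain ⟨k, hk⟩ := card_dvd_of_le BE
    have d := h.card ▸ (𝐍(zpowers x ⊔ zpowers y)).card_subgroup_dvd_card
    have k2 : ¬ k ≤ 2 := fun k2 => P1 fun u hu => h.nm hP (by
      have := H9.F3.le_nm_of_card BE (by rw [hk]; nlinarith) (P1E hu)
      exact (h.NP hP).2 (mem_normalizer_of_cj_le ((h.NP hP).1.le_of_le_normalizer' (pgroup_cj hP.pgroup u) le_top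
        (le_trans (cj_le_of_mem_normalizer this (hP.le.trans CB)) fun g hg => h.nm hP hg))))
    rw [h.cB hP] at hk
    rw [hk] at d o ⊢
    have : k ≤ 4 := by omega
    interval_cases k <;> omega
  · haveI : IsMulCommutative (zpowers x ⊔ zpowers y : Subgroup G) := IsPGroup.isMulCommutative_of_card_eq_prime_sq (p := 3) c9
    obtain ⟨_, ⟨i, rfl⟩, _, ⟨j, rfl⟩, rfl⟩ := (H5.mem_sup_of_le_normalizer_right (zpowers_le.2 (nm_zp (Or.inl
      (mul_inv_eq_iff_eq_mul.2 xy.symm))))).1 he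
    have e2 : w * z * y * (w * z)⁻¹ = y⁻¹ := by
      calc _ = w * (z * y * z⁻¹) * w⁻¹ := by group
        _ = (w * y * w⁻¹)⁻¹ := by rw [zy]; group
        _ = _ := by rw [wy]
    dsimp only
    rw [show w * z * (x ^ i * y ^ j) * (w * z)⁻¹ = w * z * x ^ i * (w * z)⁻¹ * (w * z * y ^ j * (w * z)⁻¹) by group,
      ← conj_zpow, ← conj_zpow, h.swap.wx, e2, inv_zpow, inv_zpow, ← mul_inv_rev, ((show Commute y x from xy).zpow_zpow j i).eq]
  · refine (eq_of_le_of_card_ge (fun u hu => mem_cj.2 (h.uq hP (pgroup_cj hP.pgroup g⁻¹) (fun a ha => ?_)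
      (by simpa only [inv_inv] using conj_mem_cj g⁻¹ hu))) (by rw [card_cj])).symm
    have := mem_centralizer_singleton_iff.1 (hle (mem_cj.1 ha))
    rw [← hg] at this
    refine mem_centralizer_singleton_iff.2 ?_
    calc _ = g⁻¹ * (g⁻¹⁻¹ * a * g⁻¹ * (g * x * g⁻¹)) * g := by group
      _ = _ := by rw [this]; group

theorem psl : Nonempty (G ≃* Matrix.ProjectiveSpecialLinearGroup (Fin 3) (ZMod 3)) := by
  haveI := Fact.mk Nat.prime_three
  obtain ⟨P, hP⟩ := exists_isSylowIn 3 𝐂[x]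
  obtain ⟨E, a1, a2, a3, a4, a5, a6, e, he, e1, -, a7⟩ := h.nine hP
  obtain ⟨U, b1, b2, b3, b4, b5, -, u, hu, u1, b6, -⟩ := h.swap.nine hP
  refine Pl.psl (x := x) ⟨h.card, (h.NP hP).1, h.c27 hP, h.x3, a1, b1, a2, b2, fun e => u1 ?_, a3, b3, fun g hg hc => ?_,
    (h.NP hP).2, a4, b4, h.cB hP, a5, b5⟩
  · have := a6 u (e ▸ hu)
    rw [b6, mul_inv_cancel_right] at this
    exact odd_pow_eq_one (m := 1) (by rw [b2]; norm_num) hu (by rw [pow_one, pow_two]; nth_rw 1 [this]; exact inv_mul_cancel u)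
  · by_contra hn
    have ab : E ≤ 𝐂[e] := fun b hb => mem_centralizer_singleton_iff.2 (congrArg Subtype.val
      ((IsPGroup.isMulCommutative_of_card_eq_prime_sq (p := 3) (G := E) a2).is_comm.comm (⟨b, hb⟩ : E) ⟨e, he⟩))
    have top : ∀ {X Y Z : Subgroup G}, #|Z| = 3 * #|X| → X ≤ Y → Y ≤ Z → X ≠ Y → Y = Z := fun {X Y Z} c h1 h2 h3 => by
      obtain ⟨k, hk⟩ := card_dvd_of_le h1
      have d := card_dvd_of_le h2
      rw [c, hk, mul_comm 3] at d
      rcases (Nat.dvd_prime Nat.prime_three).1 (Nat.dvd_of_mul_dvd_mul_left Nat.card_pos d) with rfl | rfl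
      · exact absurd (eq_of_le_of_card_ge h1 (by omega)) h3
      · exact eq_of_le_of_card_ge h2 (by omega)
    by_cases gE : g ∈ E
    · have := top (X := zpowers x) (Y := E ⊓ 𝐂(P)) (Z := E) (by rw [a2, Nat.card_zpowers, h.x3])
        (zpowers_le.2 ⟨a3, fun y hy => mem_centralizer_singleton_iff.1 (hP.le hy)⟩) inf_le_left
        fun e => hn (e ▸ ⟨gE, fun y hy => mem_centralizer_singleton_iff.1 (hc hy)⟩)
      exact a7 fun y hy => mem_centralizer_singleton_iff.2 ((this.ge he).2 y hy)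
    · have := top (X := E) (Y := P ⊓ 𝐂[e]) (Z := P) (by rw [a2, h.c27 hP]) (le_inf a1 ab) inf_le_left
        fun e' => gE (e' ▸ ⟨hg, mem_centralizer_singleton_iff.2 (mem_centralizer_singleton_iff.1 (hc (a1 he))).symm⟩)
      exact a7 (inf_eq_left.1 this)

end L3

end Cfsg.Agent.H2.Wg
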