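import Cfsg.Agent.H2.W7
import Cfsg.Agent.H4.Dihedral
import Cfsg.Prelude.Def_Spor_Mathieu

/-! Simple groups with an involution centralizer `GL₂(3)` (Brauer, Wong). -/

set_option autoImplicit false

namespace Cfsg.Agent.H2.Wong

open Subgroup Cfsg.Agent.FT Cfsg.Agent.L0 Cfsg.Agent.H8 Cfsg.Agent.H2.Wg

universe u

variable {G : Type u} [Group G] [Finite G] [IsSimpleGroup G] {z : G} {H : Subgroup G}

/-- an element of order three -/
def x0 : Y := ⟨(1, 1, 0, 1), by decide⟩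
/-- an involution inverting it -/
def w0 : Y := ⟨(1, 0, 0, 2), by decide⟩

theorem facts : ∃ x w : Y, x ^ 3 = 1 ∧ x ≠ 1 ∧ w ^ 2 = 1 ∧ w ≠ 1 ∧ w * x * w⁻¹ = x⁻¹ ∧ w * x ≠ x * w ∧
    (Finset.univ.filter fun g => g * x = x * g).card = 6 ∧ ∀ y : Y, y ^ 3 = 1 → y ≠ 1 → ∃ g, g * x * g⁻¹ = y :=
  ⟨x0, w0, by decide +kernel⟩

theorem one_class (hH : H = centralizer ({z} : Set G)) (hz : orderOf z = 2) (π : H →* Y) (hs : Function.Surjective π)
    (hK : ¬ 2 ∣ Nat.card π.ker) (Q : Subgroup H) [Q.Normal] (hQ : Nat.card Q = 8) (u : G) (hu : orderOf u = 2) :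
    IsConj z u := by
  haveI := Fact.mk Nat.prime_two
  have sq : ∀ {v : G}, orderOf v = 2 → v * v = 1 ∧ v ≠ 1 := fun {v} h =>
    ⟨by rw [← pow_two, ← h, pow_orderOf_eq_one], by rintro rfl; simp at h⟩
  have nab : ¬ IsMulCommutative G := fun h => by
    obtain ⟨x, w, -, -, -, -, -, n, -⟩ := facts
    obtain ⟨x, rfl⟩ := hs x
    obtain ⟨w, rfl⟩ := hs w
    exact n (by rw [← map_mul, ← map_mul]; exact congrArg π (Subtype.ext (h.is_comm.comm _ _)))
  obtain ⟨-, -, -, -, -, j, -, -, -, hj, pj, -⟩ := lifts π hs hK Q hQ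
  let zz : H := ⟨z, hH.ge (mem_centralizer_singleton_iff.2 rfl)⟩
  have cz : ∀ g : H, g * zz = zz * g := fun g => Subtype.ext (mem_centralizer_singleton_iff.1 (hH.le g.2))
  have z2 : zz * zz = 1 := Subtype.ext (sq hz).1
  have k1 : ∀ v : H, v * v = 1 → π v = 1 → v = 1 := fun v h1 h2 => odd_pow_eq_one hK (m := 1) h2 (by rw [pow_one, pow_two, h1])
  have pz : ∀ v : H, v * v = 1 → v ≠ 1 → j * v = v * j → π v = z0 := fun v h1 h2 h3 =>
    (z0_uniq _ (by rw [← map_mul, h1, map_one]) (by rw [← pj, ← map_mul, h3, map_mul])).resolve_left fun h => h2 (k1 v h1 h)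
  have pzz := pz zz z2 (fun h => (sq hz).2 (congrArg Subtype.val h)) (cz j)
  have ez : ∀ v : H, v * v = 1 → π v = z0 → v = zz := fun v h1 h2 => by
    have := k1 (v * zz) (by rw [mul_assoc, ← mul_assoc zz, ← cz, mul_assoc, z2, mul_one, h1])
      (by rw [map_mul, h2, pzz, b0_pow.2.2.2.2.2.2.1])
    rw [← mul_one v, ← z2, ← mul_assoc, this, one_mul]
  have pQ : IsPGroup 2 ((Q ⊔ zpowers zz).map H.subtype) := by
    haveI : (zpowers zz).Normal := ⟨fun a ha g => by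
      obtain ⟨k, rfl⟩ := ha
      rw [((show Commute g zz from cz g).zpow_right k).eq, mul_inv_cancel_right]
      exact zpow_mem_zpowers _ _⟩
    exact ((IsPGroup.of_card (n := 3) hQ).to_sup_of_normal_left (IsPGroup.of_card (n := 1)
      (by rw [Nat.card_zpowers, ← orderOf_coe, hz, pow_one]))).map _
  obtain ⟨T, hT, hle⟩ := exists_isSylowIn_ge pQ le_top
  have zT : z ∈ T := hle ⟨zz, mem_sup_right (mem_zpowers zz), rfl⟩
  obtain ⟨c, -, c2, hc, -⟩ := H5.exists_mem_centralizer_of_isPGroup hT.pgroup hT.pgroup le_normalizer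
    fun e => (sq hz).2 (by simpa [e] using zT)
  have cH : c ∈ H := hH.ge (mem_centralizer_singleton_iff.2 (hc z zT).symm)
  obtain rfl : c = z := congrArg Subtype.val (ez ⟨c, cH⟩ (Subtype.ext (sq c2).1) (pz _ (Subtype.ext (sq c2).1)
    (fun h => (sq c2).2 (congrArg Subtype.val h)) (Subtype.ext (hc j (hle ⟨j, mem_sup_left hj, rfl⟩)))))
  have TH : T ≤ H := fun t ht => hH.ge (mem_centralizer_singleton_iff.2 (hc t ht))
  have I : ∀ v : H, orderOf (v : G) = 2 → (v : G) ≠ c → π v ∈ I0 := fun v h1 h2 => by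
    have v2 : v * v = 1 := Subtype.ext (sq h1).1
    exact Finset.mem_filter.2 ⟨Finset.mem_univ _, by rw [← map_mul, v2, map_one],
      fun h => (sq h1).2 (congrArg Subtype.val (k1 v v2 h)), fun h => h2 (congrArg Subtype.val (ez v v2 h))⟩
  obtain ⟨g, hg, hg'⟩ : ∃ g : G, g * c * g⁻¹ ∈ T ∧ g * c * g⁻¹ ≠ c := by
    by_contra h
    push Not at h
    obtain ⟨P, rfl⟩ := hT.exists_sylow_top
    exact ((H7.Isolated.of_sylow P (sq hz).1 h).eq_one_or_comm).elim (sq hz).2 nab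
  obtain ⟨P, hP, hxP⟩ := exists_isSylowIn_ge (IsPGroup.of_card (p := 2) (n := 1) (by rw [Nat.card_zpowers, hu, pow_one]))
    (le_top : zpowers u ≤ ⊤)
  obtain ⟨k, -, e⟩ := hP.exists_cj_eq hT
  have uT : k * u * k⁻¹ ∈ T := e ▸ conj_mem_cj k (hxP (mem_zpowers u))
  refine IsConj.trans ?_ (isConj_iff.2 ⟨k, rfl⟩).symm
  by_cases e : k * u * k⁻¹ = c
  · rw [e]
  have o1 : orderOf (k * u * k⁻¹) = 2 := (H6.orderOf_eq_of_isConj (isConj_iff.2 ⟨k, rfl⟩)).symm.trans hu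
  have o2 : orderOf (g * c * g⁻¹) = 2 := (H6.orderOf_eq_of_isConj (isConj_iff.2 ⟨g, rfl⟩)).symm.trans hz
  obtain ⟨a, ha⟩ := conj_I0 _ (I ⟨_, TH hg⟩ o2 hg') _ (I ⟨_, TH uT⟩ o1 e)
  obtain ⟨a, rfl⟩ := hs a
  refine ((isConj_iff.2 ⟨g, rfl⟩).trans (isConj_iff.2 ⟨a, rfl⟩)).trans (H4.isConj_of_odd_orderOf_mul
    (by rw [show a * (g * c * g⁻¹) * (a : G)⁻¹ * (a * (g * c * g⁻¹) * (a : G)⁻¹) = a * g * (c * c) * (a * g)⁻¹ by group,
      (sq hz).1]; simp) (sq o1).1 ?_)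
  have m : a * ⟨_, TH hg⟩ * a⁻¹ * ⟨_, TH uT⟩ ∈ π.ker := by
    rw [MonoidHom.mem_ker, map_mul, map_mul, map_mul, map_inv, ha, ← map_mul]
    exact (congrArg π (Subtype.ext (sq o1).1)).trans (map_one π)
  have := orderOf_dvd_natCard _ m
  rw [← orderOf_coe] at this
  exact Odd.of_dvd_nat (Nat.odd_iff.2 (Nat.two_dvd_ne_zero.1 hK)) this

theorem gen (hH : H = centralizer ({z} : Set G)) (hz : orderOf z = 2) (π : H →* Y) (hs : Function.Surjective π)
    (hK : ¬ 2 ∣ Nat.card π.ker) (Q : Subgroup H) [Q.Normal] (hQ : Nat.card Q = 8) {x : H} (x3 : x ^ 3 = 1) (x1 : π x ≠ 1)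
    (hx : ∀ k ∈ π.ker, x * k = k * x → k = 1) :
    Nonempty (G ≃* Matrix.ProjectiveSpecialLinearGroup (Fin 3) (ZMod 3)) ∨ Cfsg.Spor.IsoM11 G := by
  have h1 := one_class hH hz π hs hK Q hQ
  obtain ⟨hi, hc | hc⟩ := order hH hz h1 π hs hK Q hQ x3 x1 hx
  · have hM : Cfsg.Spor.M11 = H1.fixL (H1.stabS (H1.toSet 340831)) ([0].map H1.pt) := by
      have : Cfsg.Spor.squareDodecad = H1.toSet 340831 := by decide +kernel
      ext g
      simp only [Cfsg.Spor.M11, Cfsg.Spor.M12, this, H1.mem_fixL, List.map, List.mem_singleton, forall_eq]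
      rfl
    have := H1.simple_dfix1
    rw [Cfsg.Spor.IsoM11, hM]
    exact Or.inr (H3.equiv_of_card_7920 hc H1.card_dfix1)
  haveI := Fact.mk Nat.prime_two
  haveI := Fact.mk Nat.prime_three
  obtain ⟨a, w, a3, a1, w2, w1, wa, -, c6, cj⟩ := facts
  obtain ⟨a, rfl⟩ := hs a
  obtain ⟨w, rfl⟩ := hs w
  subst hH
  refine Or.inl (L3.psl (z := z) (x := a) (w := w) ⟨hc, hz, ?_, ?_, (mem_centralizer_singleton_iff.1 a.2).symm,
    (mem_centralizer_singleton_iff.1 w.2).symm, congrArg Subtype.val (hi (show π (w * a * w⁻¹) = π a⁻¹ by simpa using wa)),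
    ?_, fun v hv => ?_, fun v y hv hy hc => ?_⟩)
  · rw [orderOf_coe, ← orderOf_injective π hi]
    exact orderOf_eq_prime w2 w1
  · rw [orderOf_coe, ← orderOf_injective π hi]
    exact orderOf_eq_prime a3 a1
  · rw [← c6, ← Nat.card_eq_finsetCard]
    refine Nat.card_congr (Equiv.ofBijective (fun g => ⟨π ⟨g.1, g.2.2⟩, Finset.mem_filter.2 ⟨Finset.mem_univ _, by
      rw [← map_mul, ← map_mul]; exact congrArg π (Subtype.ext (mem_centralizer_singleton_iff.1 g.2.1))⟩⟩)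
      ⟨fun g g' e => Subtype.ext (congrArg Subtype.val (hi (congrArg Subtype.val e)) :), fun ⟨g, hg⟩ => ?_⟩)
    obtain ⟨g, rfl⟩ := hs g
    exact ⟨⟨g, mem_centralizer_singleton_iff.2 (congrArg Subtype.val (hi (show π (g * a) = π (a * g) by
      simpa using (Finset.mem_filter.1 hg).2))), g.2⟩, rfl⟩
  · rw [← H6.card_centralizer_eq_of_isConj (h1 v hv), ← Y.card]
    exact Nat.card_congr (Equiv.ofBijective π ⟨hi, hs⟩)
  · obtain ⟨g, rfl⟩ := isConj_iff.1 (h1 v hv)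
    have m : g⁻¹ * y * g ∈ centralizer ({z} : Set G) := mem_centralizer_singleton_iff.2 (by
      calc _ = g⁻¹ * (y * (g * z * g⁻¹)) * g := by group
        _ = _ := by rw [← hc]; group)
    have o : orderOf (π ⟨_, m⟩) = 3 := by
      rw [orderOf_injective π hi, ← orderOf_coe, ← hy]
      exact (H6.orderOf_eq_of_isConj (isConj_iff.2 ⟨g⁻¹, by rw [inv_inv]⟩)).symm
    obtain ⟨b, hb⟩ := cj _ (o ▸ pow_orderOf_eq_one _) (by rintro e; rw [e] at o; simp at o)
    obtain ⟨b, rfl⟩ := hs b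
    have := congrArg Subtype.val (hi (show π (b * a * b⁻¹) = π ⟨_, m⟩ by simpa using hb))
    exact (isConj_iff.2 ⟨(b : G), this⟩ : IsConj (a : G) (g⁻¹ * y * g)).trans (isConj_iff.2 ⟨g, by group⟩)

theorem main (z : G) (hz : orderOf z = 2) (e : Nonempty (centralizer ({z} : Set G) ≃* GL (Fin 2) (ZMod 3))) :
    (∃ (F : Type) (_ : Field F) (_ : Fintype F), Fintype.card F = 3 ∧
      Nonempty (G ≃* Matrix.ProjectiveSpecialLinearGroup (Fin 3) F)) ∨ Cfsg.Spor.IsoM11 G := by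
  obtain ⟨e⟩ := e
  obtain ⟨f⟩ := Y.equivGL
  replace e := e.trans f.symm
  obtain ⟨x, x3, x1⟩ := exists_three
  have k : e.toMonoidHom.ker = ⊥ := (MonoidHom.ker_eq_bot_iff _).2 e.injective
  haveI := Fact.mk Nat.prime_three
  refine (gen rfl hz e.toMonoidHom e.surjective (by rw [k, card_bot]; norm_num) (Q0.comap e.toMonoidHom) ?_ (x := e.symm x)
    (by rw [← map_pow, x3, map_one]) (by simpa using x1) fun a ha _ => by rwa [k] at ha).imp_left
    fun h => ⟨ZMod 3, inferInstance, inferInstance, ZMod.card 3, h⟩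
  rw [← card_Q0]
  exact Nat.card_congr (e.toEquiv.subtypeEquiv fun _ => Iff.rfl)

end Cfsg.Agent.H2.Wong
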